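import Cfsg.Agent.Solvable.CoprimeAct
import Cfsg.Agent.Solvable.Basics
import Cfsg.Agent.Solvable.PGroupBasic
import Cfsg.Agent.Transfer.PResidual

/-!
Stability groups of series in p-subgroups.
-/

set_option autoImplicit false
set_option linter.style.haveILetI false

namespace CfsgLib.CharP

open Subgroup
open scoped commutatorElement

variable {G : Type*} [Group G] [Finite G] {p : ℕ} [Fact p.Prime]

/-- A subgroup with no nonidentity element of order prime to `p` is a `p`-group. -/
theorem isPGroup_of_no_pPrime (L : Subgroup G)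
    (h : ∀ l ∈ L, (orderOf l).Coprime p → l = 1) : IsPGroup p L := fun l => by
  set m := (orderOf (l : G)).factorization p
  refine ⟨m, Subtype.ext (h _ (pow_mem l.2 _) ?_)⟩
  rw [Subgroup.coe_pow, orderOf_pow_of_dvd (pow_ne_zero _ (Fact.out : p.Prime).ne_zero)
    (Nat.ordProj_dvd _ _)]
  exact (Nat.coprime_ordCompl Fact.out (orderOf_pos (l : G)).ne').symm

theorem coprime_zpowers {R : Subgroup G} (hR : IsPGroup p R) {l : G}
    (hl : (orderOf l).Coprime p) : (Nat.card (zpowers l)).Coprime (Nat.card R) := by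
  obtain ⟨k, hk⟩ := IsPGroup.iff_card.mp hR
  rw [Nat.card_zpowers, hk]
  exact hl.pow_right k

/-- An element of order prime to `p` stabilizing a series from `1` to a `p`-subgroup centralizes
it. -/
theorem centralize_of_series {R : Subgroup G} (hR : IsPGroup p R) {l : G}
    (hl : (orderOf l).Coprime p) (hlR : l ∈ normalizer (R : Set G)) (B : ℕ → Subgroup G) (n : ℕ)
    (h0 : B 0 = R) (hn : B n = ⊥) (hstep : ∀ i < n, ⁅B i, zpowers l⁆ ≤ B (i + 1)) :
    l ∈ centralizer (R : Set G) := by
  have hle : zpowers l ≤ normalizer (R : Set G) := (zpowers_le).mpr hlR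
  have hsol : Group.IsSolvable (zpowers l) ∨ Group.IsSolvable R := Or.inl (Group.isSolvable_of_comm fun a b => mul_comm' a b)
  have hcc := CoprimeAct.commutator_commutator hle (coprime_zpowers hR hl) hsol
  have key : ∀ i ≤ n, ⁅R, zpowers l⁆ ≤ B i := by
    intro i hi
    induction i with
    | zero => exact h0.symm ▸ le_normalizer_iff_commutator_le_left.1 hle
    | succ i ih =>
      rw [← hcc]
      exact (commutator_mono (ih (Nat.le_of_succ_le hi)) le_rfl).trans (hstep i hi)
  have hb : ⁅R, zpowers l⁆ = ⊥ := le_bot_iff.mp (hn ▸ key n le_rfl)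
  rw [mem_centralizer_iff]
  intro r hr
  exact commutatorElement_eq_one_iff_mul_comm.1
    (mem_bot.1 (hb ▸ commutator_mem_commutator hr (mem_zpowers l)))

/-- The elements stabilizing every factor of a series, as a normal subgroup. -/
theorem le_pCore_of_series {H : Type*} [Group H] [Finite H] {p : ℕ} [Fact p.Prime]
    (hchar : centralizer (Cfsg.pCore p H : Set H) ≤ Cfsg.pCore p H) (L : Subgroup H) (n : ℕ)
    (A : Fin (n + 1) → Subgroup H) (h0 : A 0 = ⊥) (hn : A (Fin.last n) = Cfsg.pCore p H)
    (hnorm : ∀ i, (A i).Normal) (hcent : ∀ i : Fin n, ⁅A i.succ, L⁆ ≤ A i.castSucc) :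
    L ≤ Cfsg.pCore p H := by
  haveI hPn : (Cfsg.pCore p H).Normal := Solvable.pCore_normal p
  -- replace `L` by its normal closure
  set M := normalClosure (L : Set H) with hM
  have hM' : ∀ i : Fin n, ⁅A i.succ, M⁆ ≤ A i.castSucc := by
    intro i
    haveI := hnorm i.castSucc
    haveI := hnorm i.succ
    set π := QuotientGroup.mk' (A i.castSucc)
    haveI : ((A i.succ).map π).Normal := Normal.map inferInstance π (QuotientGroup.mk'_surjective _)
    have hL : L ≤ (centralizer ((A i.succ).map π : Set (H ⧸ A i.castSucc))).comap π := by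
      intro l hl
      rw [mem_comap, mem_centralizer_iff]
      rintro _ ⟨a, ha, rfl⟩
      refine commutatorElement_eq_one_iff_mul_comm.1 ?_
      rw [← map_commutatorElement]
      exact (QuotientGroup.eq_one_iff _).mpr (hcent i (commutator_mem_commutator ha hl))
    have hMc : M ≤ (centralizer ((A i.succ).map π : Set (H ⧸ A i.castSucc))).comap π :=
      normalClosure_le_normal hL
    rw [commutator_le]
    intro a ha m hm
    refine (QuotientGroup.eq_one_iff _).mp ?_
    show π ⁅a, m⁆ = 1
    rw [map_commutatorElement]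
    exact commutatorElement_eq_one_iff_mul_comm.2
      (mem_centralizer_iff.mp (mem_comap.mp (hMc hm)) _ (mem_map_of_mem π ha))
  refine (subset_normalClosure).trans (Solvable.le_pCore p (N := M) inferInstance ?_)
  refine isPGroup_of_no_pPrime M fun m hm hmc => ?_
  have hcen : m ∈ centralizer (Cfsg.pCore p H : Set H) := by
    refine centralize_of_series (Solvable.isPGroup_pCore p) hmc
      ((normalizer_eq_top_iff.mpr hPn) ▸ mem_top m)
      (fun i => A ⟨n - i, by omega⟩) n ?_ ?_ ?_
    · simp only [Nat.sub_zero]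
      exact hn
    · simp only [Nat.sub_self]
      exact h0
    · intro i hi
      have h := hM' ⟨n - i - 1, by omega⟩
      have e1 : (⟨n - i - 1, by omega⟩ : Fin n).succ = ⟨n - i, by omega⟩ :=
        Fin.ext (show n - i - 1 + 1 = n - i by omega)
      have e2 : (⟨n - i - 1, by omega⟩ : Fin n).castSucc = ⟨n - (i + 1), by omega⟩ :=
        Fin.ext (show n - i - 1 = n - (i + 1) by omega)
      rw [e1, e2] at h
      exact (commutator_mono le_rfl ((zpowers_le).mpr hm)).trans h
  obtain ⟨k, hk⟩ := Solvable.isPGroup_pCore p ⟨m, hchar hcen⟩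
  exact orderOf_eq_one_iff.mp (Nat.eq_one_of_dvd_coprimes (hmc.pow_right k) dvd_rfl
    (orderOf_dvd_of_pow_eq_one (by simpa using congrArg Subtype.val hk)))

/-- Quadratic action of a `p`-group on a subgroup with trivial `p`-core is trivial. -/
theorem commutator_eq_bot_of_quadratic (K : Subgroup G) (hO : Cfsg.pCore p ↥K = ⊥) (Y : Subgroup G)
    (hY : IsPGroup p ↥Y) (hYK : Y ≤ normalizer (K : Set G)) (hq : ⁅⁅K, Y⁆, Y⁆ = ⊥) :
    ⁅K, Y⁆ = ⊥ := by
  set N := ⁅K, Y⁆ with hN
  have hNK : N ≤ K := le_normalizer_iff_commutator_le_left.1 hYK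
  have hKN : K ≤ normalizer (N : Set G) := normalizer_commutator_ge_left _ _
  have hYc : ∀ y ∈ Y, ∀ z ∈ N, z * y = y * z := fun y hy z hz =>
    commutatorElement_eq_one_iff_mul_comm.1 (mem_bot.1 (hq ▸ commutator_mem_commutator hz hy))
  have hgen : ∀ k ∈ K, ∀ y ∈ Y, ⁅k, y⁆ ∈ centralizer (N : Set G) := by
    intro k hk y hy
    rw [commutatorElement_def]
    refine mul_mem ?_ (inv_mem (mem_centralizer_iff.mpr fun z hz => hYc y hy z hz))
    refine mem_centralizer_iff.mpr fun z hz => ?_
    have h := hYc y hy _ ((mem_normalizer_iff.mp (hKN (inv_mem hk)) z).mp hz)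
    simp only [inv_inv] at h
    calc z * (k * y * k⁻¹) = k * ((k⁻¹ * z * k) * y) * k⁻¹ := by group
      _ = k * y * k⁻¹ * z := by rw [h]; group
  have hab : ∀ a ∈ N, ∀ b ∈ N, a * b = b * a := by
    intro a ha b hb
    have : N ≤ centralizer (N : Set G) := (commutator_le).mpr hgen
    exact mem_centralizer_iff.mp (this hb) a ha
  have hpow : ∀ k ∈ K, ∀ y ∈ Y, ∀ n : ℕ, ⁅k, y⁆ ^ n = ⁅k, y ^ n⁆ := by
    intro k hk y hy n
    induction n with
    | zero => simp
    | succ n ih =>
      rw [pow_succ, ih, pow_succ]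
      have hc := hYc (y ^ n) (pow_mem hy n) _ (commutator_mem_commutator hk hy)
      rw [commutatorElement_def k y] at hc ⊢
      rw [commutatorElement_def, commutatorElement_def]
      calc k * y ^ n * k⁻¹ * (y ^ n)⁻¹ * (k * y * k⁻¹ * y⁻¹)
          = k * y ^ n * k⁻¹ * ((y ^ n)⁻¹ * (k * y * k⁻¹ * y⁻¹ * y ^ n) * (y ^ n)⁻¹) := by group
        _ = k * y ^ n * k⁻¹ * ((y ^ n)⁻¹ * (y ^ n * (k * y * k⁻¹ * y⁻¹)) * (y ^ n)⁻¹) := by rw [hc]
        _ = k * (y ^ n * y) * k⁻¹ * (y ^ n * y)⁻¹ := by group
  have hNp : IsPGroup p N := by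
    have hmem : ∀ a ∈ N, ∃ i : ℕ, a ^ p ^ i = 1 := by
      intro a ha
      have hcl : a ∈ Subgroup.closure {g | ∃ k ∈ K, ∃ y ∈ Y, ⁅k, y⁆ = g} := by
        rwa [← Subgroup.commutator_def]
      clear ha
      induction hcl using closure_induction with
      | mem g hg =>
        obtain ⟨k, hk, y, hy, rfl⟩ := hg
        obtain ⟨i, hi⟩ := hY ⟨y, hy⟩
        exact ⟨i, by rw [hpow k hk y hy, show y ^ p ^ i = 1 by simpa using congrArg Subtype.val hi,
          commutatorElement_one_right]⟩
      | one => exact ⟨0, one_pow _⟩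
      | mul u v hu hv ihu ihv =>
        obtain ⟨i, hi⟩ := ihu
        obtain ⟨j, hj⟩ := ihv
        have huN : u ∈ N := by rw [hN, Subgroup.commutator_def]; exact hu
        have hvN : v ∈ N := by rw [hN, Subgroup.commutator_def]; exact hv
        refine ⟨i + j, ?_⟩
        rw [(show Commute u v from hab u huN v hvN).mul_pow]
        rw [pow_add, pow_mul, hi, one_pow, one_mul, mul_comm, pow_mul, hj, one_pow]
      | inv u hu ihu =>
        obtain ⟨i, hi⟩ := ihu
        exact ⟨i, by rw [inv_pow, hi, inv_one]⟩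
    intro a
    obtain ⟨i, hi⟩ := hmem a a.2
    exact ⟨i, Subtype.ext (by simpa using hi)⟩
  haveI : (N.subgroupOf K).Normal := normal_subgroupOf_of_le_normalizer hKN
  have h := Solvable.le_pCore p (N := N.subgroupOf K) inferInstance hNp.comap_subtype
  rw [hO, le_bot_iff, subgroupOf_eq_bot] at h
  exact le_bot_iff.mp ((le_inf le_rfl hNK).trans (disjoint_iff.mp h).le)

end CfsgLib.CharP
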