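import Cfsg.Agent.CharP.PReduced
import Cfsg.Agent.PLocal.Core
import Cfsg.Agent.Solvable.Fitting
import Cfsg.Prelude.Def_LocalStructure

/-!
The largest p-reduced normal subgroup of a finite group of characteristic p, and its transport to
a subgroup of an ambient group.
-/

set_option autoImplicit false
set_option linter.style.haveILetI false

namespace CfsgLib.CharP

open Subgroup Cfsg

variable {L : Type*} [Group L] [Finite L] {p : ℕ} [Fact p.Prime]

theorem largestPReduced_eq {Y : Subgroup L}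
    (hY : IsPReducedNormal p Y ∧ ∀ V : Subgroup L, IsPReducedNormal p V → V ≤ Y) :
    largestPReduced p L = Y :=
  le_antisymm (sSup_le hY.2) (le_sSup (show Y ∈ {V : Subgroup L | IsPReducedNormal p V} from hY.1))

theorem largestPReduced_spec : IsPReducedNormal p (largestPReduced p L) ∧
    ∀ V : Subgroup L, IsPReducedNormal p V → V ≤ largestPReduced p L := by
  obtain ⟨Y, hY⟩ := exists_greatest_pReduced (L := L) (p := p)
  rw [largestPReduced_eq hY]; exact hY

theorem le_largestPReduced {V : Subgroup L} (hV : IsPReducedNormal p V) :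
    V ≤ largestPReduced p L := largestPReduced_spec.2 V hV

instance largestPReduced_normal : (largestPReduced p L).Normal := largestPReduced_spec.1.1

theorem IsPReducedNormal.le_pCore {V : Subgroup L} (hV : IsPReducedNormal p V) : V ≤ pCore p L :=
  Solvable.le_pCore p hV.1 (IsPReducedNormal.isPGroup hV)

theorem IsPReducedNormal.le_omega {V : Subgroup L} (hV : IsPReducedNormal p V) :
    V ≤ omegaOne p (pCore p L ⊓ centralizer (pCore p L : Set L)) := fun v hv =>
  Thompson.mem_omegaOne ⟨IsPReducedNormal.le_pCore hV hv,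
    le_centralizer_iff.1 (pCore_le_centralizer hV) hv⟩ (hV.2.1.2 v hv)

theorem isElementaryAbelian_mono {A B : Subgroup L} (h : A ≤ B) (hB : IsElementaryAbelian p B) :
    IsElementaryAbelian p A :=
  ⟨⟨⟨fun x y => Subtype.ext
    (by haveI := hB.1; exact setLike_mul_comm (h x.2) (h y.2) : (x : L) * y = y * x)⟩⟩,
    fun a ha => hB.2 a (h ha)⟩

theorem mem_of_pow_prime {C : Subgroup L} {x : L} (hx : (orderOf x).Coprime p) {k : ℕ}
    (h : x ^ p ^ k ∈ C) : x ∈ C := by
  obtain ⟨m, hm⟩ := exists_pow_eq_self_of_coprime (x := x) (n := p ^ k)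
    (Nat.Coprime.pow_left k hx.symm)
  rw [← hm]; exact pow_mem h m

/-- The elements of a normal subgroup which is a `p`-group modulo `C` come from `C` and a Sylow
subgroup. -/
theorem le_sup_sylow_of_pow {C N : Subgroup L} [C.Normal] [N.Normal]
    (h : ∀ x ∈ N, ∃ k : ℕ, x ^ p ^ k ∈ C) (T : Sylow p L) :
    N ≤ C ⊔ ((T : Subgroup L) ⊓ (N ⊔ C)) := by
  have hp : IsPGroup p ((N ⊔ C).map (QuotientGroup.mk' C)) := by
    rw [Subgroup.map_sup, QuotientGroup.map_mk'_self, sup_bot_eq]
    rintro ⟨_, x, hx, rfl⟩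
    obtain ⟨k, hk⟩ := h x hx
    exact ⟨k, Subtype.ext ((map_pow _ x _).symm.trans ((QuotientGroup.eq_one_iff _).mpr hk))⟩
  obtain ⟨k, hk⟩ := IsPGroup.iff_card.1 hp
  refine le_sup_left.trans (PLocalCore.le_sup_sylow_inf le_sup_right (k := k) ?_ T)
  rw [← hk, ← relIndex_ker, QuotientGroup.ker_mk']

theorem zGen_isPReduced (hc : centralizer (pCore p L : Set L) ≤ pCore p L) :
    IsPReducedNormal p (PLocalCore.zGen p L) := by
  refine isPReducedNormal_of inferInstance (PLocalCore.zGen_elab_of_charP hc) fun N hN hp => ?_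
  haveI := hN
  refine (le_sup_sylow_of_pow hp (Classical.arbitrary _)).trans ?_
  refine le_centralizer_iff.1 (iSup_le fun S => le_centralizer_iff.1 ?_)
  refine sup_le (centralizer_le (SetLike.coe_subset_coe.2
    (le_iSup (fun S : Sylow p L => PLocalCore.zSylow p (S : Subgroup L)) S))) ?_
  -- every Sylow subgroup gives the same bound
  have h1 : N ≤ centralizer (PLocalCore.zSylow p (S : Subgroup L) : Set L) :=
    (le_sup_sylow_of_pow hp S).trans (sup_le (centralizer_le (SetLike.coe_subset_coe.2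
      (le_iSup (fun S : Sylow p L => PLocalCore.zSylow p (S : Subgroup L)) S)))
      (inf_le_left.trans (PLocalCore.le_centralizer_zSylow _)))
  exact inf_le_right.trans (sup_le h1 (centralizer_le (SetLike.coe_subset_coe.2
    (le_iSup (fun S : Sylow p L => PLocalCore.zSylow p (S : Subgroup L)) S))))

/-- The normal closure of a `p`-reduced normal subgroup of an overgroup of a Sylow subgroup. -/
theorem normalClosure_isPReduced (hc : centralizer (pCore p L : Set L) ≤ pCore p L)
    (T : Sylow p L) (R : Subgroup L) (hTR : (T : Subgroup L) ≤ R) (X : Subgroup R)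
    (hX : IsPReducedNormal p X) :
    IsPReducedNormal p (normalClosure ((X.map R.subtype : Subgroup L) : Set L)) := by
  set O := pCore p L
  haveI hOn : O.Normal := Solvable.pCore_normal p
  have hOR : O ≤ R := (Fitting.pCore_le_sylow T).trans hTR
  have hOc : O.subgroupOf R ≤ pCore p R := Solvable.le_pCore p inferInstance
    ((Solvable.isPGroup_pCore p).of_equiv (subgroupOfEquivOfLe hOR).symm)
  have hXO : (X.map R.subtype) ≤ omegaOne p (O ⊓ centralizer (O : Set L)) := by
    rintro _ ⟨x, hx, rfl⟩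
    have hxc : (x : L) ∈ centralizer (O : Set L) := mem_centralizer_iff.2 fun o ho =>
      congrArg Subtype.val (mem_centralizer_iff.1
        (le_centralizer_iff.1 (pCore_le_centralizer hX) hx) ⟨o, hOR ho⟩ (hOc ho))
    exact Thompson.mem_omegaOne ⟨hc hxc, hxc⟩ (congrArg Subtype.val (hX.2.1.2 x hx))
  set W := normalClosure ((X.map R.subtype : Subgroup L) : Set L)
  haveI : (omegaOne p (O ⊓ centralizer (O : Set L))).Normal := by
    haveI : (O ⊓ centralizer (O : Set L)).Normal := Subgroup.normal_inf_normal _ _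
    refine ⟨fun x hx g => ?_⟩
    have h1 := mem_map_of_mem (MulAut.conj g).toMonoidHom hx
    rw [Thompson.map_omegaOne _ (MulAut.conj g).injective] at h1
    refine Thompson.omegaOne_mono ?_ h1
    rintro _ ⟨z, hz, rfl⟩
    exact Normal.conj_mem inferInstance z hz g
  have hWO : W ≤ omegaOne p (O ⊓ centralizer (O : Set L)) := normalClosure_le_normal hXO
  refine isPReducedNormal_of normalClosure_normal ?_ fun D hD hp => ?_
  · exact isElementaryAbelian_mono hWO (Thompson.elab_omegaOne fun a ha b hb =>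
      (mem_centralizer_iff.1 hb.2 a ha.1))
  haveI := hD
  have hWX : centralizer (W : Set L) ≤ centralizer ((X.map R.subtype : Subgroup L) : Set L) :=
    centralizer_le subset_normalClosure
  have hle : D ≤ centralizer ((X.map R.subtype : Subgroup L) : Set L) := by
    refine (le_sup_sylow_of_pow hp T).trans (sup_le hWX fun t ht => ?_)
    have h1 : ((D ⊔ centralizer (W : Set L)).subgroupOf R) ≤ centralizer (X : Set R) := by
      refine IsPReducedNormal.le_centralizer hX _ inferInstance fun y hy => ?_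
      have hy' : (y : L) ∈ D ⊔ centralizer (W : Set L) := hy
      obtain ⟨d, hd, c, hc', hdc⟩ := mem_sup_of_normal_right.1 hy'
      obtain ⟨k, hk⟩ := hp d hd
      refine ⟨k, ?_⟩
      have hyk : (y : L) ^ p ^ k ∈ centralizer (W : Set L) := by
        rw [← QuotientGroup.eq_one_iff, QuotientGroup.mk_pow, ← hdc, QuotientGroup.mk_mul,
          (QuotientGroup.eq_one_iff c).2 hc', mul_one, ← QuotientGroup.mk_pow,
          (QuotientGroup.eq_one_iff (d ^ p ^ k)).2 hk]
      exact mem_centralizer_iff.2 fun x hx => Subtype.ext (mem_centralizer_iff.1 (hWX hyk) (x : L)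
        (mem_map_of_mem _ hx))
    refine mem_centralizer_iff.2 ?_
    rintro _ ⟨x, hx, rfl⟩
    exact congrArg Subtype.val (mem_centralizer_iff.1
      (h1 (show (⟨t, hTR ht.1⟩ : R) ∈ (D ⊔ centralizer (W : Set L)).subgroupOf R from ht.2)) x hx)
  refine le_centralizer_iff.1 ?_
  exact normalClosure_le_normal (le_centralizer_iff.1 hle)

theorem not_dvd_relIndex_inf (T : Sylow p L) (C : Subgroup L)
    (hTC : (T : Subgroup L) ≤ normalizer (C : Set L)) :
    ¬ p ∣ ((T : Subgroup L) ⊓ C).relIndex C := by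
  rw [inf_relIndex_right, ← relIndex_subgroupOf (L := normalizer (C : Set L)) le_normalizer]
  intro h
  exact (T.subtype hTC).not_dvd_index (h.trans (by
    rw [Sylow.coe_subtype]; exact PLocalCore.relIndex_dvd_index_of_normal_right _ _))

/-- A Sylow subgroup of a subgroup normalized by a Sylow subgroup. -/
theorem exists_sylow_inf (T : Sylow p L) (C : Subgroup L)
    (hTC : (T : Subgroup L) ≤ normalizer (C : Set L)) :
    ∃ P : Sylow p C, (P : Subgroup C) = ((T : Subgroup L) ⊓ C).subgroupOf C :=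
  ⟨((T.isPGroup'.to_le inf_le_left).of_equiv (subgroupOfEquivOfLe inf_le_right).symm).toSylow
    (not_dvd_relIndex_inf T C hTC), rfl⟩

theorem normalizer_inf_sup (T : Sylow p L) (C : Subgroup L) [C.Normal] :
    normalizer ((((T : Subgroup L) ⊓ C : Subgroup L)) : Set L) ⊔ C = ⊤ := by
  obtain ⟨P, hP⟩ := exists_sylow_inf T C le_normalizer_of_normal
  have h : (P : Subgroup C).map C.subtype = (T : Subgroup L) ⊓ C := by
    rw [hP, map_subgroupOf_eq_of_le inf_le_right]
  rw [← h]
  exact Sylow.normalizer_sup_eq_top P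

theorem conj_mem_iff {S : Subgroup L} {t x : L} (ht : t ∈ S) : t * x * t⁻¹ ∈ S ↔ x ∈ S :=
  (S.mul_mem_cancel_right (inv_mem ht)).trans (S.mul_mem_cancel_left ht)

theorem sylow_le_normalizer_inf (T : Sylow p L) (C : Subgroup L)
    (hTC : (T : Subgroup L) ≤ normalizer (C : Set L)) :
    (T : Subgroup L) ≤ normalizer ((((T : Subgroup L) ⊓ C : Subgroup L)) : Set L) :=
  fun t ht => mem_normalizer_iff.2 fun x => by
    rw [Subgroup.mem_inf, Subgroup.mem_inf]
    exact and_congr (conj_mem_iff ht).symm (mem_normalizer_iff.1 (hTC ht) x)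

/-- The basic structure of the largest `p`-reduced normal subgroup. -/
theorem largestPReduced_structure (hc : centralizer (pCore p L : Set L) ≤ pCore p L)
    (T : Sylow p L) {Y : Subgroup L}
    (hY : IsPReducedNormal p Y ∧ ∀ V : Subgroup L, IsPReducedNormal p V → V ≤ Y) (TL : Subgroup L)
    (hTL : TL = (T : Subgroup L) ⊓ centralizer (Y : Set L)) :
    (∀ g : L, ∃ a ∈ normalizer (TL : Set L), ∃ c ∈ centralizer (Y : Set L), g = a * c) ∧
      (pCore p ↥(normalizer (TL : Set L))).map (normalizer (TL : Set L)).subtype = TL ∧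
      Y = omegaOne p (TL ⊓ centralizer (TL : Set L)) := by
  haveI := hY.1.1
  set C := centralizer (Y : Set L)
  have hC : C.Normal := inferInstance
  set R := normalizer (TL : Set L) with hR
  have hRC : R ⊔ C = ⊤ := by rw [hR, hTL]; exact normalizer_inf_sup T C
  have hTR : (T : Subgroup L) ≤ R := by
    rw [hR, hTL]; exact sylow_le_normalizer_inf T C le_normalizer_of_normal
  have hTLR : TL ≤ R := le_normalizer
  have hTLp : IsPGroup p TL := T.isPGroup'.to_le (hTL ▸ inf_le_left)
  have hdec : ∀ g : L, ∃ a ∈ R, ∃ c ∈ C, g = a * c := fun g => by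
    obtain ⟨a, ha, c, hc', h⟩ := mem_sup_of_normal_right.1 (hRC ▸ mem_top g : g ∈ R ⊔ C)
    exact ⟨a, ha, c, hc', h.symm⟩
  -- normal subgroups of `R` which are `p`-groups modulo `C` lie in `C`
  have hlift : ∀ N : Subgroup R, N.Normal → (∀ x ∈ N, ∃ k : ℕ, (x : L) ^ p ^ k ∈ C) →
      ∀ x ∈ N, (x : L) ∈ C := by
    intro N hN hp x hx
    set N' := N.map R.subtype ⊔ C
    haveI : N'.Normal := by
      rw [← normalizer_eq_top_iff, eq_top_iff, ← hRC]
      refine sup_le (fun r hr => ?_) ((le_sup_right : C ≤ N').trans le_normalizer)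
      have key : ∀ r ∈ R, ∀ y ∈ N', r * y * r⁻¹ ∈ N' := by
        intro r hr y hy
        obtain ⟨n, hn, c, hc', rfl⟩ := mem_sup_of_normal_right.1 hy
        obtain ⟨n, hn, rfl⟩ := hn
        have h1 : r * ((n : L) * c) * r⁻¹ = (r * (n : L) * r⁻¹) * (r * c * r⁻¹) := by
          simp [mul_assoc]
        rw [show R.subtype n = (n : L) from rfl, h1]
        exact mul_mem (mem_sup_left ⟨_, hN.conj_mem n hn ⟨r, hr⟩, rfl⟩)
          (mem_sup_right (hC.conj_mem c hc' r))
      refine mem_normalizer_iff.2 fun y => ⟨key r hr y, fun hy => ?_⟩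
      simpa [mul_assoc] using key r⁻¹ (inv_mem hr) _ hy
    refine IsPReducedNormal.le_centralizer hY.1 N' inferInstance (fun y hy => ?_)
      (mem_sup_left (mem_map_of_mem _ hx))
    obtain ⟨_, ⟨n, hn, rfl⟩, c, hc', rfl⟩ := mem_sup_of_normal_right.1 hy
    obtain ⟨k, hk⟩ := hp n hn
    refine ⟨k, ?_⟩
    rw [← QuotientGroup.eq_one_iff, QuotientGroup.mk_pow, QuotientGroup.mk_mul,
      (QuotientGroup.eq_one_iff c).2 hc', mul_one, ← QuotientGroup.mk_pow,
      (QuotientGroup.eq_one_iff _).2]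
    exact hk
  refine ⟨hdec, le_antisymm ?_ ?_, ?_⟩
  · rintro _ ⟨x, hx, rfl⟩
    rw [hTL]
    refine ⟨?_, hlift _ (Solvable.pCore_normal p) (fun y hy => ?_) x hx⟩
    · exact Fitting.pCore_le_sylow (T.subtype hTR) hx
    · obtain ⟨k, hk⟩ := Solvable.isPGroup_pCore p (⟨y, hy⟩ : pCore p R)
      have hk' : (y : L) ^ p ^ k = 1 :=
        congrArg Subtype.val (congrArg Subtype.val hk : y ^ p ^ k = (1 : R))
      exact ⟨k, hk' ▸ one_mem _⟩
  · intro x hx
    exact ⟨⟨x, hTLR hx⟩, Solvable.le_pCore p (normal_subgroupOf_of_le_normalizer le_rfl)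
      (hTLp.of_equiv (subgroupOfEquivOfLe hTLR).symm) (show x ∈ TL from hx), rfl⟩
  have hYT : Y ≤ TL := by
    rw [hTL]
    haveI := hY.1.2.1.1
    exact le_inf ((IsPReducedNormal.le_pCore hY.1).trans (Fitting.pCore_le_sylow T))
      (fun y hy => mem_centralizer_iff.2 fun z hz => setLike_mul_comm (SetLike.mem_coe.1 hz) hy)
  have hY' : Y ≤ omegaOne p (TL ⊓ centralizer (TL : Set L)) := fun y hy =>
    Thompson.mem_omegaOne ⟨hYT hy, le_centralizer_iff.1 (hTL ▸ inf_le_right : TL ≤ C) hy⟩
      (hY.1.2.1.2 y hy)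
  refine le_antisymm hY' ?_
  set Z := omegaOne p (TL ⊓ centralizer (TL : Set L)) with hZ
  have hZTL : Z ≤ TL := (Thompson.omegaOne_le _).trans inf_le_left
  have hZR : Z ≤ R := hZTL.trans hTLR
  have hTLZ : TL ≤ centralizer (Z : Set L) :=
    le_centralizer_iff.1 ((Thompson.omegaOne_le _).trans inf_le_right)
  have hZe : IsElementaryAbelian p Z := Thompson.elab_omegaOne fun a ha b hb =>
    mem_centralizer_iff.1 hb.2 a ha.1
  have hZnorm : ∀ r ∈ R, ∀ z ∈ Z, r * z * r⁻¹ ∈ Z := by
    intro r hr z hz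
    have h1 := mem_map_of_mem (MulAut.conj r).toMonoidHom hz
    rw [Thompson.map_omegaOne _ (MulAut.conj r).injective] at h1
    refine Thompson.omegaOne_mono ?_ h1
    rintro _ ⟨w, ⟨hw1, hw2⟩, rfl⟩
    refine ⟨(mem_normalizer_iff.1 hr w).1 hw1, mem_centralizer_iff.2 fun v hv => ?_⟩
    have h2 : r⁻¹ * v * r ∈ TL := by simpa using (mem_normalizer_iff.1 (inv_mem hr) v).1 hv
    have h3 := mem_centralizer_iff.1 hw2 _ h2
    show v * (r * w * r⁻¹) = r * w * r⁻¹ * v
    calc v * (r * w * r⁻¹) = r * ((r⁻¹ * v * r) * w) * r⁻¹ := by simp [mul_assoc]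
      _ = r * w * r⁻¹ * v := by rw [h3]; simp [mul_assoc]
  have hred : IsPReducedNormal p (Z.subgroupOf R) := by
    refine isPReducedNormal_of ⟨fun z hz r => hZnorm r r.2 z hz⟩
      ⟨⟨⟨fun a b => Subtype.ext (Subtype.ext
        (by haveI := hZe.1; exact setLike_mul_comm (s := Z) (mem_subgroupOf.1 a.2) (mem_subgroupOf.1 b.2) :
          ((a : R) : L) * ((b : R) : L) = (b : R) * (a : R)))⟩⟩,
        fun a ha => Subtype.ext (hZe.2 a ha)⟩ fun N hN hp => ?_
    have hpow : ∀ x ∈ N, ∃ k : ℕ, (x : L) ^ p ^ k ∈ centralizer (Z : Set L) := fun x hx =>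
      (hp x hx).imp fun k hk => mem_centralizer_iff.2 fun z hz =>
        congrArg Subtype.val (mem_centralizer_iff.1 hk ⟨z, hZR hz⟩ hz)
    intro x hx
    have hxC : (x : L) ∈ C := hlift N hN
      (fun y hy => (hpow y hy).imp fun k hk => centralizer_le hY' hk) x hx
    obtain ⟨k, hk⟩ := hpow x hx
    -- a power of order prime to `p` lands in `TL`
    haveI : (TL.subgroupOf (R ⊓ C)).Normal :=
      normal_subgroupOf_of_le_normalizer inf_le_left
    set d := (TL.subgroupOf (R ⊓ C)).index
    have hd : (x : L) ^ d ∈ TL := pow_index_mem (TL.subgroupOf (R ⊓ C)) (⟨x, x.2, hxC⟩ : ↥(R ⊓ C))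
    have hdp : ¬ p ∣ d := by
      intro h
      have h1 : ((T : Subgroup L) ⊓ (R ⊓ C)) = TL := by
        rw [← inf_assoc, inf_of_le_left hTR, hTL]
      refine not_dvd_relIndex_inf T (R ⊓ C) ?_ (by rw [h1]; exact h)
      intro t ht
      refine mem_normalizer_iff.2 fun y => ?_
      rw [Subgroup.mem_inf, Subgroup.mem_inf]
      exact and_congr (conj_mem_iff (hTR ht)).symm
        (mem_normalizer_iff.1 ((le_normalizer_of_normal (H := C) : ⊤ ≤ normalizer (C : Set L)) (mem_top t)) y)
    have hxZ : (x : L) ∈ centralizer (Z : Set L) := by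
      have h1 : Int.gcd (p ^ k : ℕ) d = 1 :=
        Nat.Coprime.pow_left k ((Fact.out : p.Prime).coprime_iff_not_dvd.2 hdp)
      have h2 := Int.gcd_eq_gcd_ab (p ^ k : ℕ) d
      rw [h1, Nat.cast_one] at h2
      have h3 : (x : L) = ((x : L) ^ ((p ^ k : ℕ) : ℤ)) ^ Int.gcdA (p ^ k : ℕ) d *
          ((x : L) ^ ((d : ℕ) : ℤ)) ^ Int.gcdB (p ^ k : ℕ) d := by
        rw [← zpow_mul, ← zpow_mul, ← zpow_add, ← h2, zpow_one]
      rw [h3, zpow_natCast, zpow_natCast]
      exact mul_mem (zpow_mem hk _) (zpow_mem (hTLZ hd) _)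
    exact mem_centralizer_iff.2 fun z hz => Subtype.ext (mem_centralizer_iff.1 hxZ (z : L) hz)
  have h1 := hY.2 _ (normalClosure_isPReduced hc T R hTR _ hred)
  rw [map_subgroupOf_eq_of_le hZR] at h1
  exact (subset_normalClosure).trans h1

/-! ### Inside an ambient group -/

variable {H : Type*} [Group H]

theorem largestPReducedOf_le (L : Subgroup H) : largestPReducedOf p L ≤ L := map_subtype_le _

theorem map_inf_centralizer (L : Subgroup H) (K : Subgroup L) :
    (K ⊓ centralizer (K : Set L)).map L.subtype =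
      (K.map L.subtype) ⊓ centralizer ((K.map L.subtype : Subgroup H) : Set H) := by
  ext x
  constructor
  · rintro ⟨y, ⟨h1, h2⟩, rfl⟩
    refine ⟨mem_map_of_mem _ h1, mem_centralizer_iff.2 ?_⟩
    rintro _ ⟨v, hv, rfl⟩
    exact congrArg Subtype.val (mem_centralizer_iff.1 h2 v hv)
  · rintro ⟨⟨y, hy, rfl⟩, h2⟩
    exact ⟨y, ⟨hy, mem_centralizer_iff.2 fun v hv => Subtype.ext
      (mem_centralizer_iff.1 h2 (v : H) (mem_map_of_mem _ hv))⟩, rfl⟩

theorem map_zGen (L : Subgroup H) :
    (PLocalCore.zGen p L).map L.subtype = sylowCenterClosure p L := by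
  rw [PLocalCore.zGen, Subgroup.map_iSup, sylowCenterClosure]
  refine iSup_congr fun S => ?_
  rw [PLocalCore.zSylow, Thompson.map_omegaOne _ L.subtype_injective, map_inf_centralizer]

theorem le_normalizer_largestPReducedOf (L : Subgroup H) [Finite L] :
    L ≤ normalizer (largestPReducedOf p L : Set H) := by
  have key : ∀ g ∈ L, ∀ y ∈ largestPReducedOf p L, g * y * g⁻¹ ∈ largestPReducedOf p L := by
    rintro g hg _ ⟨y, hy, rfl⟩
    exact ⟨_, (largestPReduced_normal (L := L) (p := p)).conj_mem y hy ⟨g, hg⟩, rfl⟩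
  intro g hg
  refine mem_normalizer_iff.2 fun z => ⟨key g hg z, fun hz => ?_⟩
  simpa [mul_assoc] using key g⁻¹ (inv_mem hg) _ hz

end CfsgLib.CharP
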