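import Cfsg.Agent.CharP.Kieler
import Cfsg.Agent.CharP.LargestPReduced
import Cfsg.Agent.Transfer.PResidual

/-!
`Ω₁(Z(T))` and commutators with `O^p`.
-/

set_option autoImplicit false
set_option linter.style.haveILetI false

namespace CfsgLib.CharP

open Subgroup Cfsg
open scoped commutatorElement

variable {G : Type*} [Group G] [Finite G] {p : ℕ} [Fact p.Prime]

theorem sup_sylow_eq_top_residual (P : Sylow p G) : pResidual p G ⊔ (P : Subgroup G) = ⊤ := by
  obtain ⟨j, hj⟩ := PResidual.exists_index_pResidual (p := p) (G := G)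
  rw [← index_eq_one]
  exact Nat.eq_one_of_dvd_coprimes
    (Nat.Coprime.pow_left j ((Fact.out : p.Prime).coprime_iff_not_dvd.2 P.not_dvd_index))
    (hj ▸ index_dvd_of_le le_sup_left) (index_dvd_of_le le_sup_right)

/-- An element centralized by a Sylow subgroup is central modulo `[V, O^p(G)]`. -/
theorem commutator_mem_of_sylow {V : Subgroup G} [V.Normal] {P : Sylow p G} {z : G}
    (hz : z ∈ V) (hzP : ∀ s ∈ (P : Subgroup G), s * z = z * s) (g : G) :
    g * z * g⁻¹ * z⁻¹ ∈ ⁅V, pResidual p G⁆ := by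
  haveI := PResidual.pResidual_normal (G := G) p
  obtain ⟨r, hr, s, hs, rfl⟩ :=
    mem_sup_of_normal_left.1 ((sup_sylow_eq_top_residual P).ge (mem_top g))
  have h : r * s * z * (r * s)⁻¹ * z⁻¹ = r * z * r⁻¹ * z⁻¹ := by
    rw [mul_assoc r s z, hzP s hs]; simp [mul_assoc]
  rw [h, commutator_comm]
  exact commutator_mem_commutator hr hz

/-- A central part and a commutator part of a fixed point of a Sylow subgroup. -/
theorem exists_central_mul {V : Subgroup G} [V.Normal] (hVe : IsElementaryAbelian p V)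
    {P : Sylow p G} {z : G} (hz : z ∈ V) (hzP : ∀ s ∈ (P : Subgroup G), s * z = z * s) :
    ∃ (m : ℕ) (c w : G), ¬ p ∣ m ∧ c ∈ V ∧ c ∈ center G ∧ w ∈ ⁅V, pResidual p G⁆ ∧
      z ^ m = w⁻¹ * c ∧ ∀ s ∈ (P : Subgroup G), s * w = w * s := by
  haveI := hVe.1
  obtain ⟨tr, htr, -⟩ := Kieler.exists_trace V ⊤ (P : Subgroup G)
    (fun g _ => (le_normalizer_of_normal (H := V) : ⊤ ≤ normalizer (V : Set G)) (mem_top g))
    (m := ((P : Subgroup G).subgroupOf ⊤).index) rfl
  set m := ((P : Subgroup G).subgroupOf ⊤).index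
  obtain ⟨h1, h2, h3, -⟩ := htr z hz hzP
  refine ⟨m, tr z, tr z * (z ^ m)⁻¹, ?_, h1, ?_,
    h3 _ fun x _ => commutator_mem_of_sylow hz hzP x, ?_, fun s hs => ?_⟩
  · show ¬ p ∣ (P : Subgroup G).relIndex ⊤
    rw [relIndex_top_right]; exact P.not_dvd_index
  · exact mem_center_iff.2 fun g => mem_centralizer_iff.1 h2 g (mem_top g)
  · rw [mul_inv_rev, inv_inv, inv_mul_cancel_right]
  · exact ((show Commute s (tr z) from mem_centralizer_iff.1 h2 s (mem_top s)).mul_right
      ((show Commute s z from hzP s hs).pow_right m).inv_right).eq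

theorem zGen_structure (hc : centralizer (pCore p G : Set G) ≤ pCore p G) :
    PLocalCore.zGen p G = omegaOne p (center G) ⊔ ⁅PLocalCore.zGen p G, pResidual p G⁆ ∧
      ⁅PLocalCore.zGen p G, (⊤ : Subgroup G)⁆ = ⁅PLocalCore.zGen p G, pResidual p G⁆ := by
  haveI := PResidual.pResidual_normal (G := G) p
  set Z := PLocalCore.zGen p G
  set W := ⁅Z, pResidual p G⁆
  have hZe := PLocalCore.zGen_elab_of_charP hc
  have hfix : ∀ (S : Sylow p G), ∀ z ∈ PLocalCore.zSylow p (S : Subgroup G),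
      z ∈ Z ∧ z ^ p = 1 ∧ ∀ s ∈ (S : Subgroup G), s * z = z * s := fun S z hz =>
    ⟨mem_iSup_of_mem S hz, (Kieler.omegaZ_props hz).2.2,
      fun s hs => mem_centralizer_iff.1 (Kieler.omegaZ_props hz).2.1 s hs⟩
  have hcen : ∀ z ∈ Z, (QuotientGroup.mk' W) z ∈ center (G ⧸ W) := by
    have hle : Z ≤ (center (G ⧸ W)).comap (QuotientGroup.mk' W) := by
      refine iSup_le fun S z hz => ?_
      obtain ⟨hzZ, -, hzS⟩ := hfix S z hz
      refine mem_center_iff.2 fun q => ?_
      obtain ⟨g, rfl⟩ := QuotientGroup.mk'_surjective W q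
      rw [← mul_inv_eq_one, ← map_mul, ← map_mul, ← map_inv, ← map_mul]
      refine (QuotientGroup.eq_one_iff _).2 ?_
      have := commutator_mem_of_sylow hzZ hzS g
      simpa [mul_assoc] using this
    exact fun z hz => hle hz
  refine ⟨le_antisymm (iSup_le fun S z hz => ?_) (sup_le ?_ (commutator_le_left _ _)),
    le_antisymm ?_ (commutator_mono le_rfl le_top)⟩
  · obtain ⟨hzZ, hzp, hzS⟩ := hfix S z hz
    obtain ⟨m, c, w, hm, hcV, hcc, hw, hzm, -⟩ := exists_central_mul hZe hzZ hzS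
    refine Kieler.mem_of_pow_mem hm hzp ?_
    rw [hzm]
    exact mul_mem (mem_sup_right (inv_mem hw))
      (mem_sup_left (Thompson.mem_omegaOne hcc (hZe.2 c hcV)))
  · rw [omegaOne, closure_le]
    rintro z ⟨hz, hzp⟩
    have hp : IsPGroup p (zpowers z) := fun ⟨_, hx⟩ => ⟨1, Subtype.ext (by
      obtain ⟨k, rfl⟩ := mem_zpowers_iff.1 hx
      rw [pow_one, Subgroup.coe_pow, Subgroup.coe_one, ← zpow_natCast, ← zpow_mul, mul_comm,
        zpow_mul, zpow_natCast, hzp, one_zpow])⟩
    obtain ⟨S, hS⟩ := hp.exists_le_sylow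
    exact mem_iSup_of_mem S (Kieler.mem_omegaZ (hS (mem_zpowers z))
      (mem_centralizer_iff.2 fun s _ => mem_center_iff.1 hz s) hzp)
  · rw [commutator_le]
    intro z hz g _
    refine (QuotientGroup.eq_one_iff _).1 ?_
    show QuotientGroup.mk' W ⁅z, g⁆ = 1
    rw [map_commutatorElement, commutatorElement_eq_one_iff_commute]
    exact (mem_center_iff.1 (hcen z hz) _).symm

end CfsgLib.CharP
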