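import Cfsg.Agent.CharP.YMinimal
import Cfsg.Agent.CharP.ResidualCommutator
import Cfsg.Agent.Comp.Layer
import Cfsg.Agent.Solvable.Gaschutz
import Cfsg.Agent.Solvable.Schmidt

/-!
`O^p`: Frattini subgroups, subnormal closures, quasisimple residuals, action on `Φ(P)`.
-/

set_option autoImplicit false
set_option linter.style.haveILetI false

namespace CfsgLib.ResidualBasics

open Subgroup Cfsg
open scoped commutatorElement

universe u

variable {H : Type u} [Group H] [Finite H] {p : ℕ} [Fact p.Prime]

theorem mem_pResidual_of_coprime {x : H} (hx : (orderOf x).Coprime p) : x ∈ pResidual p H :=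
  subset_closure hx

theorem coprime_card_of_nilpotent (hO : pCore p H = ⊥) (N : Subgroup H) [N.Normal]
    [Group.IsNilpotent N] : (Nat.card N).Coprime p := by
  refine ((Fact.out : p.Prime).coprime_iff_not_dvd.2 fun hd => ?_).symm
  obtain ⟨⟨x, hx⟩, hxo⟩ := exists_prime_orderOf_dvd_card' p hd
  obtain ⟨P⟩ : Nonempty (Sylow p N) := inferInstance
  haveI hPn : (P : Subgroup N).Normal := Sylow.normal_of_normalizerCondition
    Group.normalizerCondition_of_isNilpotent P
  have h1 : (P : Subgroup N).map N.subtype ≤ pCore p H := by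
    haveI := P.characteristic_of_normal hPn
    exact Solvable.le_pCore p ConjAct.normal_of_characteristic_of_normal (P.isPGroup'.map _)
  have h2 : Nontrivial ((⊥ : Subgroup H) : Subgroup H) := by
    rw [← hO]
    have h3 : (⟨x, hx⟩ : N) ∈ (P : Subgroup N) := by
      have hz : IsPGroup p (zpowers (⟨x, hx⟩ : N)) :=
        IsPGroup.of_card (n := 1) (by rw [Nat.card_zpowers, hxo, pow_one])
      obtain ⟨R, hR⟩ := hz.exists_le_sylow
      have he : R = P := by
        haveI := Sylow.unique_of_normal P hPn
        exact Subsingleton.elim R P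
      exact he ▸ hR (mem_zpowers _)
    refine (Subgroup.nontrivial_iff_exists_ne_one _).2 ⟨x, h1 ⟨_, h3, rfl⟩, fun h => ?_⟩
    rw [show (⟨x, hx⟩ : N) = 1 from Subtype.ext h, orderOf_one] at hxo
    exact (Fact.out : p.Prime).ne_one hxo.symm
  exact not_nontrivial (⊥ : Subgroup H) h2

theorem commutator_le_frattini_of_nilpotent (N : Type*) [Group N] [Finite N] [Group.IsNilpotent N] :
    commutator N ≤ frattini N := by
  refine le_iInf₂ fun M hM => ?_
  have hn : M.Normal :=
    NormalizerCondition.normal_of_coatom M Group.normalizerCondition_of_isNilpotent hM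
  haveI := hn
  obtain ⟨x, hx⟩ : ∃ x, x ∉ M := by
    by_contra h
    push Not at h
    exact hM.1 (eq_top_iff.2 fun x _ => h x)
  have htop : M ⊔ zpowers x = ⊤ :=
    hM.2 _ (lt_of_le_of_ne le_sup_left fun e => hx (e ▸ mem_sup_right (mem_zpowers x)))
  have hgen : ∀ a : N, ∃ i : ℤ, QuotientGroup.mk' M a = QuotientGroup.mk' M x ^ i := by
    intro a
    obtain ⟨m, hm, z, hz, rfl⟩ := mem_sup_of_normal_left.1 (htop.ge (mem_top a))
    obtain ⟨i, rfl⟩ := mem_zpowers_iff.1 hz
    exact ⟨i, by rw [map_mul, map_zpow,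
      show QuotientGroup.mk' M m = 1 from (QuotientGroup.eq_one_iff m).2 hm, one_mul]⟩
  rw [_root_.commutator_def, commutator_le]
  intro a _ b _
  refine (QuotientGroup.eq_one_iff _).1 ?_
  rw [show ((⁅a, b⁆ : N) : N ⧸ M) = QuotientGroup.mk' M ⁅a, b⁆ from rfl, map_commutatorElement,
    commutatorElement_eq_one_iff_mul_comm]
  obtain ⟨i, hi⟩ := hgen a
  obtain ⟨j, hj⟩ := hgen b
  rw [hi, hj, ← zpow_add, ← zpow_add, add_comm]

/-- In a finite nilpotent group every subgroup is subnormal. -/
theorem nilpotent_all_subnormal {G : Type*} [Group G] [Finite G] [Group.IsNilpotent G]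
    (K : Subgroup G) : K.IsSubnormal := by
  induction K using WellFoundedGT.induction with
  | ind K ih =>
    rcases eq_or_ne K ⊤ with rfl | hK
    · exact IsSubnormal.top
    have hlt := Group.normalizerCondition_of_isNilpotent K (lt_top_iff_ne_top.2 hK)
    exact IsSubnormal.step K _ hlt.le (ih _ hlt) (normal_subgroupOf_of_le_normalizer le_rfl)

theorem frattini_eq (hO : pCore p H = ⊥) :
    frattini H = (frattini ↥(pResidual p H)).map (pResidual p H).subtype := by
  haveI hRn : (pResidual p H).Normal := PResidual.pResidual_normal p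
  set R := pResidual p H with hR
  refine le_antisymm ?_ (Schmidt.frattini_map_le R)
  set F := (frattini ↥R).map R.subtype with hF
  haveI hFn : F.Normal := ConjAct.normal_of_characteristic_of_normal
  set N := frattini H
  haveI : Group.IsNilpotent N := frattini_nilpotent
  have hNp := coprime_card_of_nilpotent hO N
  have hNR : N ≤ R := fun x hx => mem_pResidual_of_coprime
    (hNp.coprime_dvd_left (orderOf_mk x hx ▸ orderOf_dvd_natCard (⟨x, hx⟩ : N)))
  set π := QuotientGroup.mk' F
  have hπ : Function.Surjective π := QuotientGroup.mk'_surjective F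
  set N' := N.map π with hN'
  haveI : N'.Normal := Normal.map inferInstance _ hπ
  -- `Φ(H)` is abelian modulo `Φ(R)`
  haveI : IsMulCommutative N' := by
    have h1 : (commutator N).map N.subtype ≤ F := by
      have h2 : (frattini ↥(N.subgroupOf R)).map (N.subgroupOf R).subtype ≤ frattini R :=
        Schmidt.frattini_map_le _
      haveI : Group.IsNilpotent (N.subgroupOf R) :=
        Group.nilpotent_of_mulEquiv (subgroupOfEquivOfLe hNR).symm
      have h3 := map_mono (f := R.subtype)
        ((map_mono (commutator_le_frattini_of_nilpotent (N.subgroupOf R))).trans h2)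
      refine le_trans ?_ h3
      rw [_root_.commutator_def, _root_.commutator_def, map_commutator, map_commutator,
        map_commutator, ← MonoidHom.range_eq_map, ← MonoidHom.range_eq_map, range_subtype,
        range_subtype, map_subgroupOf_eq_of_le hNR]
    refine ⟨⟨?_⟩⟩
    rintro ⟨_, a, ha, rfl⟩ ⟨_, b, hb, rfl⟩
    refine Subtype.ext (show π a * π b = π b * π a from ?_)
    rw [← commutatorElement_eq_one_iff_mul_comm, ← map_commutatorElement]
    exact (QuotientGroup.eq_one_iff _).2 (h1 ⟨⁅(⟨a, ha⟩ : N), ⟨b, hb⟩⁆,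
      commutator_mem_commutator (mem_top _) (mem_top _), rfl⟩)
  set U := R.map π
  have hNU : N' ≤ U := map_mono hNR
  have hcop : (Nat.card N').Coprime U.index := by
    obtain ⟨j, hj⟩ := PResidual.exists_index_pResidual (p := p) (G := H)
    obtain ⟨i, -, hi⟩ := (Nat.dvd_prime_pow (Fact.out : p.Prime)).1
      (hj ▸ R.index_map_dvd hπ : U.index ∣ p ^ j)
    rw [hi]
    exact (hNp.coprime_dvd_left (card_dvd_of_surjective (π.subgroupMap N)
      (π.subgroupMap_surjective N))).pow_right i
  -- a complement in `U`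
  by_contra hle
  have hN'ne : N' ≠ ⊥ := fun e => hle fun x hx =>
    (QuotientGroup.eq_one_iff x).1 (mem_bot.1 (e ▸ mem_map_of_mem π hx))
  obtain ⟨X, hXU, hX1, hX2⟩ : ∃ X ≤ U, X ⊓ N' = ⊥ ∧ N' ⊔ X = U := by
    obtain ⟨X, -, ⟨hXU, hX2⟩, hXmin⟩ := exists_minimal_le_of_wellFoundedLT
      (fun X : Subgroup (H ⧸ F) => X ≤ U ∧ N' ⊔ X = U) U ⟨le_rfl, sup_eq_right.2 hNU⟩
    refine ⟨X, hXU, ?_, hX2⟩
    set D := X ⊓ N' with hD
    have hDn : U ≤ normalizer (D : Set (H ⧸ F)) := by
      rw [← hX2]
      refine sup_le (fun n hn => mem_normalizer_iff.2 fun d => ?_) ?_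
      · constructor
        · intro hd
          rw [setLike_mul_comm (s := N') hn hd.2, mul_inv_cancel_right]; exact hd
        · intro hd
          have h1 : n * d * n⁻¹ = d := by
            have h2 : d ∈ N' := by
              have := mul_mem (mul_mem (inv_mem hn) hd.2) hn
              simpa [mul_assoc] using this
            rw [setLike_mul_comm (s := N') hn h2, mul_inv_cancel_right]
          rwa [h1] at hd
      · exact (le_inf le_normalizer le_normalizer_of_normal).trans inf_normalizer_le_normalizer_inf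
    -- `D` lies in every maximal subgroup of `R`
    have hDF : ∀ r : R, π r ∈ D → r ∈ frattini R := by
      intro r hr
      refine mem_iInf.2 fun M => mem_iInf.2 fun hM => ?_
      set M₀ := (M.map R.subtype).map π with hM₀
      have hFM : F ≤ M.map R.subtype := map_mono (frattini_le_coatom hM)
      by_contra hrM
      have hrM₀ : π r ∉ M₀ := by
        intro h
        have h1 : (r : H) ∈ (M₀.comap π) := h
        rw [hM₀, comap_map_eq_self (by rw [QuotientGroup.ker_mk']; exact hFM)] at h1
        obtain ⟨m, hm, hmr⟩ := h1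
        exact hrM (Subtype.ext hmr ▸ hm)
      have hDU : D ≤ U := inf_le_right.trans hNU
      have hM₀U : M₀ ≤ U := map_mono (map_subtype_le _)
      have hgen : U ≤ D ⊔ M₀ := by
        have h2 : M ⊔ zpowers r = ⊤ := hM.2 _ (lt_of_le_of_ne le_sup_left fun e =>
          hrM (e ▸ mem_sup_right (mem_zpowers r)))
        show R.map π ≤ _
        rw [← R.range_subtype, MonoidHom.range_eq_map, ← h2, Subgroup.map_sup, Subgroup.map_sup,
          MonoidHom.map_zpowers, MonoidHom.map_zpowers]
        exact sup_le le_sup_right ((zpowers_le.2 hr).trans le_sup_left)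
      have hXM : N' ⊔ (X ⊓ M₀) = U := by
        refine le_antisymm (sup_le hNU (inf_le_right.trans hM₀U)) ?_
        rw [← hX2]
        refine sup_le le_sup_left fun x hx => ?_
        have h3 : x ∈ ((M₀ ⊔ D : Subgroup (H ⧸ F)) : Set (H ⧸ F)) := by
          rw [sup_comm]; exact hgen (hXU hx)
        rw [coe_mul_of_left_le_normalizer_right _ _ (hM₀U.trans hDn)] at h3
        obtain ⟨m, hm, d, hd, rfl⟩ := h3
        have hmX : m ∈ X := by
          have := mul_mem hx (inv_mem (Subgroup.mem_inf.1 hd).1)
          simpa using this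
        exact mul_mem (mem_sup_right ⟨hmX, hm⟩) (mem_sup_left (Subgroup.mem_inf.1 hd).2)
      have hXle : X ≤ M₀ := (hXmin ⟨inf_le_left.trans hXU, hXM⟩ inf_le_left).trans inf_le_right
      exact hrM₀ (hXle (Subgroup.mem_inf.1 hr).1)
    refine eq_bot_iff.2 fun y hy => mem_bot.2 ?_
    obtain ⟨r, hr, rfl⟩ := hXU (Subgroup.mem_inf.1 hy).1
    exact (QuotientGroup.eq_one_iff _).2 ⟨⟨r, hr⟩, hDF ⟨r, hr⟩ hy, rfl⟩
  obtain ⟨C, hC⟩ := Gaschutz.exists_complement hNU hcop X hXU hX1 hX2
  have hCtop : (C.comap π) ⊔ N = ⊤ := by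
    have h := hC.sup_eq_top
    apply_fun Subgroup.comap π at h
    rw [comap_top, sup_comm] at h
    refine top_le_iff.1 (h.ge.trans ?_)
    rw [hN', ← comap_map_eq_self (f := π) (H := C.comap π ⊔ N) ?_]
    · refine comap_mono ?_
      rw [Subgroup.map_sup, map_comap_eq_self_of_surjective hπ]
    · rw [QuotientGroup.ker_mk']
      intro x hx
      exact mem_sup_left (show π x ∈ C by
        rw [show π x = 1 from (QuotientGroup.eq_one_iff x).2 hx]; exact one_mem C)
  have hCall := frattini_nongenerating hCtop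
  refine hN'ne (eq_bot_iff.2 fun y hy => ?_)
  obtain ⟨x, rfl⟩ := hπ y
  exact (hC.disjoint.le_bot ⟨hy, show x ∈ C.comap π from hCall ▸ mem_top x⟩)

theorem center_le_frattini (hO : pCore p H = ⊥)
    (hgen : pElementClosure p (⊤ : Subgroup H) = ⊤) : center H ≤ frattini H := by
  refine le_iInf₂ fun M hM => ?_
  by_contra hZM
  have htop : center H ⊔ M = ⊤ := hM.2 _ (lt_of_le_of_ne le_sup_right fun e => hZM (e ▸ le_sup_left))
  haveI : M.Normal := by
    refine normalizer_eq_top_iff.1 (top_le_iff.1 ?_)
    rw [← htop]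
    exact sup_le (fun z hz => mem_normalizer_iff.2 fun x => by
      rw [show z * x * z⁻¹ = x by
        rw [← mem_center_iff.1 hz x, mul_inv_cancel_right]]) le_normalizer
  haveI : (center H).Normal := inferInstance
  haveI : Group.IsNilpotent (center H) := Subgroup.isNilpotent_of_ker_le_center
    (1 : center H →* PUnit.{1})
    (by rw [MonoidHom.ker_one]; exact fun z _ => mem_center_iff.2 fun c => Subtype.ext (mem_center_iff.1 z.2 c))
  have hZp := coprime_card_of_nilpotent hO (center H)
  have hgen' : (⊤ : Subgroup H) ≤ M := by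
    rw [← hgen, pElementClosure, closure_le]
    rintro x ⟨-, k, hk⟩
    obtain ⟨z, hz, m, hm, rfl⟩ := mem_sup_of_normal_right.1 (htop.ge (mem_top x))
    refine mul_mem ?_ hm
    have hz' : QuotientGroup.mk' M z = 1 := by
      have h1 : orderOf (QuotientGroup.mk' M z) ∣ p ^ k := by
        have : QuotientGroup.mk' M (z * m) = QuotientGroup.mk' M z := by
          rw [map_mul, show QuotientGroup.mk' M m = 1 from (QuotientGroup.eq_one_iff m).2 hm,
            mul_one]
        rw [← this, ← hk]
        exact orderOf_map_dvd _ _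
      have h2 : (orderOf (QuotientGroup.mk' M z)).Coprime (p ^ k) :=
        (hZp.coprime_dvd_left ((orderOf_map_dvd _ z).trans
          (orderOf_mk z hz ▸ orderOf_dvd_natCard (⟨z, hz⟩ : center H)))).pow_right k
      exact orderOf_eq_one_iff.1 (Nat.eq_one_of_dvd_coprimes h2 dvd_rfl h1)
    exact (QuotientGroup.eq_one_iff z).1 hz'
  exact hM.1 (top_le_iff.1 hgen')

theorem subnormalClosure_spec (A : Subgroup H) :
    A ≤ subnormalClosure A ∧ (subnormalClosure A).IsSubnormal ∧
      ∀ K : Subgroup H, A ≤ K → K.IsSubnormal → subnormalClosure A ≤ K := by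
  refine ⟨le_sInf fun K hK => hK.1, ?_, fun K h1 h2 => sInf_le ⟨h1, h2⟩⟩
  obtain ⟨K, -, hK, hmin⟩ := exists_minimal_le_of_wellFoundedLT
    (fun K : Subgroup H => A ≤ K ∧ K.IsSubnormal) ⊤ ⟨le_top, IsSubnormal.top⟩
  rw [show subnormalClosure A = K from le_antisymm (sInf_le hK) (le_sInf fun L hL =>
    (hmin ⟨le_inf hK.1 hL.1, hK.2.inf hL.2⟩ inf_le_left).trans inf_le_right)]
  exact hK.2

theorem normalClosure_eq_self (A : Subgroup H) :
    (normalClosure ((A.subgroupOf (subnormalClosure A) : Subgroup ↥(subnormalClosure A)) :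
      Set ↥(subnormalClosure A))).map (subnormalClosure A).subtype = subnormalClosure A := by
  obtain ⟨hA, hKs, hmin⟩ := subnormalClosure_spec A
  refine le_antisymm (map_subtype_le _) (hmin _ ?_ (normalClosure_normal.isSubnormal.trans' hKs))
  conv_lhs => rw [← map_subgroupOf_eq_of_le hA]
  exact map_mono le_normalClosure

theorem normalizer_le (A : Subgroup H) :
    normalizer (A : Set H) ≤ normalizer ((subnormalClosure A : Subgroup H) : Set H) := by
  obtain ⟨hA, hKs, hmin⟩ := subnormalClosure_spec A
  intro g hg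
  have h : ∀ x ∈ normalizer (A : Set H),
      subnormalClosure A ≤ (subnormalClosure A).map (MulAut.conj x).toMonoidHom := fun x hx =>
    hmin _ ((YMinimal.conj_eq_self hx).ge.trans (map_mono hA))
      (hKs.map (f := (MulAut.conj x).toMonoidHom) (MulAut.conj x).surjective)
  simpa using inv_mem (YMinimal.mem_normalizer_of_conj_le (g := g⁻¹) (by
    have := map_mono (f := (MulAut.conj g⁻¹).toMonoidHom) (h g hg)
    rwa [YMinimal.conj_conj, inv_mul_cancel, YMinimal.conj_one] at this))

theorem sup_pResidual (A : Subgroup H) :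
    A ⊔ (pResidual p ↥(subnormalClosure A)).map (subnormalClosure A).subtype =
      subnormalClosure A := by
  obtain ⟨hA, hKs, hmin⟩ := subnormalClosure_spec A
  set K := subnormalClosure A
  haveI : (pResidual p K).Normal := PResidual.pResidual_normal p
  have hp : IsPGroup p (K ⧸ pResidual p K) := by
    obtain ⟨j, hj⟩ := PResidual.exists_index_pResidual (p := p) (G := K)
    exact IsPGroup.of_card (n := j) (by rw [← index_eq_card, hj])
  set X := A.subgroupOf K ⊔ pResidual p K with hX
  haveI := hp.isNilpotent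
  have hXs : X.IsSubnormal := by
    have h1 : (X.map (QuotientGroup.mk' (pResidual p K))).IsSubnormal :=
      nilpotent_all_subnormal _
    have h2 := h1.comap (QuotientGroup.mk' (pResidual p K))
    rwa [comap_map_eq_self (by rw [QuotientGroup.ker_mk']; exact le_sup_right)] at h2
  have h3 : A ⊔ (pResidual p K).map K.subtype = X.map K.subtype := by
    rw [hX, Subgroup.map_sup, map_subgroupOf_eq_of_le hA]
  refine le_antisymm (sup_le hA (map_subtype_le _)) ?_
  rw [h3]
  exact hmin _ (h3 ▸ le_sup_left) (hXs.trans' hKs)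

theorem commutator_pResidual (A : Subgroup H) (hAp : IsPGroup p A) :
    ⁅(pResidual p ↥(subnormalClosure A)).map (subnormalClosure A).subtype, A⁆ =
      (pResidual p ↥(subnormalClosure A)).map (subnormalClosure A).subtype := by
  obtain ⟨hA, -, -⟩ := subnormalClosure_spec A
  set K := subnormalClosure A with hK
  haveI : (pResidual p K).Normal := PResidual.pResidual_normal p
  set A' := A.subgroupOf K with hA'
  have hsup : A' ⊔ pResidual p K = ⊤ := by
    refine map_injective K.subtype_injective ?_
    rw [Subgroup.map_sup, map_subgroupOf_eq_of_le hA, sup_pResidual, ← MonoidHom.range_eq_map,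
      range_subtype]
  have hnc : normalClosure (A' : Set K) = ⊤ := by
    refine map_injective K.subtype_injective ?_
    rw [normalClosure_eq_self, ← MonoidHom.range_eq_map, range_subtype]
  suffices h : ⁅pResidual p K, A'⁆ = pResidual p K by
    conv_lhs => rw [← map_subgroupOf_eq_of_le hA]
    rw [← map_commutator, h]
  set W := ⁅pResidual p K, A'⁆ with hW
  refine le_antisymm (commutator_le_left _ _) ?_
  haveI hWn : W.Normal := by
    refine normalizer_eq_top_iff.1 (top_le_iff.1 ?_)
    rw [← hsup]
    exact sup_le (normalizer_commutator_ge_right _ _) (normalizer_commutator_ge_left _ _)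
  set π := QuotientGroup.mk' W
  have hcen : (pResidual p K).map π ≤ centralizer ((A'.map π : Subgroup _) : Set _) := by
    rw [← commutator_eq_bot_iff_le_centralizer, ← map_commutator, Subgroup.map_eq_bot_iff,
      QuotientGroup.ker_mk']
  haveI hAn : (A'.map π).Normal := by
    refine normalizer_eq_top_iff.1 (top_le_iff.1 ?_)
    rw [← map_top_of_surjective π (QuotientGroup.mk'_surjective W), ← hsup, Subgroup.map_sup]
    exact sup_le le_normalizer (hcen.trans (centralizer_le_normalizer _))
  have hall : (⊤ : Subgroup K) ≤ (A'.map π).comap π := by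
    rw [← hnc]; exact normalClosure_le_normal fun a ha => mem_map_of_mem π ha
  rw [pResidual, closure_le]
  intro x hx
  refine (QuotientGroup.eq_one_iff x).1 (orderOf_eq_one_iff.1 ?_)
  obtain ⟨j, hj⟩ := IsPGroup.iff_card.1 ((hAp.comap_subtype (K := K)).map π)
  refine Nat.eq_one_of_dvd_coprimes (Nat.Coprime.pow_right j hx) (orderOf_map_dvd π x) (hj ▸ ?_)
  have hxA : π x ∈ A'.map π := hall (mem_top x)
  exact orderOf_mk (π x) hxA ▸ orderOf_dvd_natCard (⟨π x, hxA⟩ : A'.map π)

/-- The conclusions for a quasisimple residual. -/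
theorem quasisimple_residual (hp : p ∣ Nat.card H) (hO : pCore p H = ⊥)
    (hq : IsQuasisimple ↥(pResidual p H)) :
    pResidual p H = generalizedFittingSubgroup H ∧
      (∀ Y : Subgroup H, IsPGroup p ↥Y → Y ≠ ⊥ → ⁅pResidual p H, Y⁆ = pResidual p H ∧
        pResidual p H ≤ ⨆ k : ↥(pResidual p H), Y.map (MulAut.conj (k : H)).toMonoidHom) ∧
      (∀ C : Subgroup H, C.Normal → ¬ pResidual p H ≤ C → (Nat.card ↥C).Coprime p) ∧
      IsPIrreducible p H := by
  haveI hKn : (pResidual p H).Normal := PResidual.pResidual_normal p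
  set K := pResidual p H with hK
  have hcomp : IsComponent K := ⟨hKn.isSubnormal, hq⟩
  have hperf : ⁅K, K⁆ = K := Comp.component_perfect hcomp
  -- a normal subgroup centralized by `K` is central in `K`
  set C := centralizer (K : Set H) with hC
  haveI : C.Normal := inferInstance
  have hCK : C ≤ K ∧ (Nat.card C).Coprime p := by
    set Z := C ⊓ K with hZ
    have hZc : Z ≤ centralizer (C : Set H) :=
      inf_le_right.trans (le_centralizer_iff.1 le_rfl)
    haveI : (Z.subgroupOf C).Normal := inferInstance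
    have hp' : IsPGroup p (C ⧸ Z.subgroupOf C) := by
      obtain ⟨j, hj⟩ := PResidual.exists_index_pResidual (p := p) (G := H)
      intro q
      obtain ⟨⟨c, hc⟩, rfl⟩ := QuotientGroup.mk_surjective q
      refine ⟨j, ?_⟩
      rw [← QuotientGroup.mk_pow, QuotientGroup.eq_one_iff, mem_subgroupOf]
      refine Subgroup.mem_inf.2 ⟨pow_mem hc _, ?_⟩
      rw [Subgroup.coe_pow, ← QuotientGroup.eq_one_iff, QuotientGroup.mk_pow, ← hj,
        index_eq_card]
      exact pow_card_eq_one'
    haveI := hp'.isNilpotent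
    haveI : Group.IsNilpotent C := Subgroup.isNilpotent_of_ker_le_center
      (QuotientGroup.mk' (Z.subgroupOf C)) (by
        rw [QuotientGroup.ker_mk']
        intro z hz
        exact mem_center_iff.2 fun c => Subtype.ext
          (mem_centralizer_iff.1 (hZc (mem_subgroupOf.1 hz)) c c.2))
    have hCp := coprime_card_of_nilpotent hO C
    exact ⟨fun c hc => mem_pResidual_of_coprime
      (hCp.coprime_dvd_left (orderOf_mk c hc ▸ orderOf_dvd_natCard (⟨c, hc⟩ : C))), hCp⟩
  have hdich : ∀ N : Subgroup H, K ≤ normalizer (N : Set H) → N ≤ K → N = K ∨ N ≤ C := by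
    intro N hNn hNK
    haveI : (N.subgroupOf K).Normal := normal_subgroupOf_of_le_normalizer hNn
    rcases Comp.quasisimple_normal hq (H := N.subgroupOf K) inferInstance with h | h
    · exact Or.inl (le_antisymm hNK (subgroupOf_eq_top.1 h))
    · exact Or.inr fun n hn => mem_centralizer_iff.2 fun k hk => congrArg Subtype.val
        (mem_center_iff.1 (h (show (⟨n, hNK hn⟩ : K) ∈ N.subgroupOf K from hn)) ⟨k, hk⟩)
  have hcentral : ∀ Y : Subgroup H, ⁅K, Y⁆ ≤ C → Y ≤ C := by
    intro Y h
    refine le_centralizer_iff.1 (commutator_eq_bot_iff_le_centralizer.1 ?_)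
    rw [commutator_comm]
    refine Comp.commutator_eq_bot_of_perfect hperf ?_
    rw [commutator_comm Y K]
    exact commutator_eq_bot_iff_le_centralizer.2 h
  have hY : ∀ Y : Subgroup H, Y ≤ normalizer ((⁅K, Y⁆ : Subgroup H) : Set H) →
      ¬ Y ≤ C → ⁅K, Y⁆ = K := fun Y _ hYC =>
    (hdich _ (normalizer_commutator_ge_left _ _) (commutator_le_left _ _)).resolve_right
      fun h => hYC (hcentral Y h)
  have hnc : ∀ N : Subgroup H, N.Normal → ¬ K ≤ N → (Nat.card N).Coprime p := by
    intro N hN hKN
    have hNC : N ≤ C := by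
      by_contra hNC
      exact hKN ((hY N (le_normalizer_of_normal) hNC).ge.trans (commutator_le_right _ _))
    exact hCK.2.coprime_dvd_left (card_dvd_of_le hNC)
  refine ⟨le_antisymm ((Comp.component_le_layer hcomp).trans le_sup_left) ?_, ?_, hnc, ?_, ?_⟩
  · refine Comp.Fstar_le_of_self_centralizing K ?_ hCK.1
    intro x hx
    haveI := Comp.fitting_isNilpotent (G := H)
    haveI : (fittingSubgroup H).Normal := inferInstance
    exact mem_pResidual_of_coprime ((coprime_card_of_nilpotent hO (fittingSubgroup H)).coprime_dvd_left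
      (orderOf_mk x hx ▸ orderOf_dvd_natCard (⟨x, hx⟩ : fittingSubgroup H)))
  · intro Y hYp hY1
    have hYC : ¬ Y ≤ C := fun h => hY1 (eq_bot_iff_card _ |>.2 (by
      obtain ⟨j, hj⟩ := IsPGroup.iff_card.1 hYp
      exact hj ▸ Nat.eq_one_of_dvd_coprimes (hCK.2.pow_right j) (hj ▸ card_dvd_of_le h) dvd_rfl))
    have he := hY Y (normalizer_commutator_ge_right _ _) hYC
    refine ⟨he, he.ge.trans ?_⟩
    set J := ⨆ k : ↥K, Y.map (MulAut.conj (k : H)).toMonoidHom
    have hYJ : ∀ y ∈ Y, y ∈ J := fun y hy => mem_iSup_of_mem (1 : K) ⟨y, hy, by simp⟩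
    rw [commutator_le]
    intro k hk y hy
    rw [commutatorElement_def]
    exact mul_mem (mem_iSup_of_mem (⟨k, hk⟩ : K) ⟨y, hy, rfl⟩) (inv_mem (hYJ y hy))
  · intro hcl
    obtain ⟨P⟩ : Nonempty (Sylow p H) := inferInstance
    have hP := Solvable.le_pCore p (hcl P) P.isPGroup'
    rw [hO] at hP
    exact P.ne_bot_of_dvd_card hp (le_bot_iff.1 hP)
  · intro N hN hncl
    by_contra hKN
    refine hncl fun P => ?_
    have : (P : Subgroup N) = ⊥ := by
      rw [eq_bot_iff_card]
      obtain ⟨j, hj⟩ := IsPGroup.iff_card.1 P.isPGroup'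
      exact Nat.eq_one_of_dvd_coprimes ((hnc N hN hKN).pow_right j) (card_subgroup_dvd_card _)
        (hj ▸ dvd_rfl)
    rw [this]
    infer_instance

end CfsgLib.ResidualBasics
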