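import Cfsg.Agent.CharP.Stabilizer
import Mathlib.GroupTheory.IsSubnormal

/-!
Subnormal p-subgroups and subnormal subgroups generated by p'-elements.
-/

set_option autoImplicit false
set_option linter.style.haveILetI false

namespace CfsgLib.CharP

open Subgroup

universe u

variable {p : ℕ} [Fact p.Prime]

/-- A subnormal `p`-subgroup lies in `O_p(G)`. -/
theorem subnormal_pGroup_le_pCore {G : Type u} [Group G] [Finite G] {H : Subgroup G}
    (hH : H.IsSubnormal) (hp : IsPGroup p H) : H ≤ Cfsg.pCore p G := by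
  obtain ⟨n, hn⟩ : ∃ n, Nat.card G = n := ⟨_, rfl⟩
  induction n using Nat.strong_induction_on generalizing G with
  | _ n ih =>
    subst hn
    rcases hH.lt_normal with rfl | ⟨M, hMn, hHM, hMlt⟩
    · exact Solvable.le_pCore p inferInstance hp
    haveI := hMn
    have hlt : Nat.card M < Nat.card G :=
      lt_of_le_of_ne (card_le_card_group M) fun h => hMlt.ne (eq_top_of_card_eq M h)
    have h1 := map_mono (f := M.subtype) (ih _ hlt (hH.subgroupOf (K := M)) hp.comap_subtype rfl)
    rw [map_subgroupOf_eq_of_le hHM] at h1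
    haveI : (Cfsg.pCore p M).Characteristic := characteristic_iff_map_le.mpr fun φ => by
      haveI := Solvable.pCore_normal p (G := M)
      exact Solvable.le_pCore p (Normal.map inferInstance _ φ.surjective)
        ((Solvable.isPGroup_pCore p).map _)
    exact h1.trans (Solvable.le_pCore p ConjAct.normal_of_characteristic_of_normal
      ((Solvable.isPGroup_pCore p).map _))

/-- A subnormal subgroup of `p`-power index contains every element of order prime to `p`. -/
theorem mem_of_subnormal_pPower_index {G : Type u} [Group G] [Finite G] {B : Subgroup G}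
    (hB : B.IsSubnormal) {k : ℕ} (hk : B.index = p ^ k) {x : G} (hx : (orderOf x).Coprime p) :
    x ∈ B := by
  induction hB generalizing k with
  | top => exact mem_top x
  | step H K hle hK hn ih =>
    have hdvd : K.index ∣ p ^ k := hk ▸ Dvd.intro_left _ (relIndex_mul_index hle)
    obtain ⟨j, -, hj⟩ := (Nat.dvd_prime_pow Fact.out).mp hdvd
    have hxK : x ∈ K := ih hj
    haveI := hn
    have hcard : Nat.card (K ⧸ H.subgroupOf K) ∣ p ^ k := by
      rw [← index_eq_card]
      exact hk ▸ Dvd.intro _ (relIndex_mul_index hle)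
    have h1 : ((⟨x, hxK⟩ : K) : K ⧸ H.subgroupOf K) = 1 := by
      refine orderOf_eq_one_iff.mp (Nat.eq_one_of_dvd_coprimes (hx.pow_right k) ?_
        ((_root_.orderOf_dvd_natCard _).trans hcard))
      refine (orderOf_map_dvd (QuotientGroup.mk' (H.subgroupOf K)) ⟨x, hxK⟩).trans ?_
      rw [← Subgroup.orderOf_coe]
    exact mem_subgroupOf.mp ((QuotientGroup.eq_one_iff (N := H.subgroupOf K) _).mp h1)

/-- A subnormal `p`-subgroup and a subnormal `B = O^p(B)`. -/
theorem pResidual_sup_of_subnormal {G : Type u} [Group G] [Finite G] (A B : Subgroup G)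
    (hA : A.IsSubnormal) (hB : B.IsSubnormal) (hAp : IsPGroup p A)
    (hBres : (Cfsg.pResidual p ↥B).map B.subtype = B) :
    A ≤ normalizer (B : Set G) ∧ (Cfsg.pResidual p ↥(A ⊔ B)).map (A ⊔ B).subtype = B := by
  haveI := Solvable.pCore_normal p (G := G)
  set P := Cfsg.pCore p G with hP
  set X := P ⊔ B with hX
  have hAX : A ⊔ B ≤ X := sup_le_sup_right (subnormal_pGroup_le_pCore hA hAp) B
  have hBX : B ≤ X := le_sup_right
  have hidx : ∃ k, (B.subgroupOf X).index = p ^ k := by
    obtain ⟨j, hj⟩ := IsPGroup.iff_card.mp (Solvable.isPGroup_pCore p (G := G))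
    have hc := Solvable.card_sup_mul_card_inf (A := B) (K := P)
      (normalizer_eq_top_iff.mpr (inferInstance : P.Normal) ▸ le_top)
    rw [sup_comm B P, ← hX, hj] at hc
    have hB' : Nat.card B * (B.subgroupOf X).index = Nat.card X := by
      rw [← Nat.card_congr (subgroupOfEquivOfLe hBX).toEquiv, card_mul_index]
    rw [← hB', mul_assoc] at hc
    have := Nat.eq_of_mul_eq_mul_left Nat.card_pos hc
    obtain ⟨k, -, hk⟩ := (Nat.dvd_prime_pow Fact.out).mp (Dvd.intro _ this)
    exact ⟨k, hk⟩
  obtain ⟨k, hk⟩ := hidx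
  have hmem : ∀ x ∈ X, (orderOf x).Coprime p → x ∈ B := fun x hx hxc =>
    mem_subgroupOf.mp (mem_of_subnormal_pPower_index (hB.subgroupOf (K := X)) hk
      (x := ⟨x, hx⟩) (by rwa [← Subgroup.orderOf_coe]))
  have hgen : ∀ {Q : Subgroup G}, B ≤ Q → Q ≤ X →
      (Cfsg.pResidual p ↥Q).map Q.subtype = B := by
    intro Q hBQ hQX
    refine le_antisymm ?_ ?_
    · rw [Cfsg.pResidual, MonoidHom.map_closure, closure_le]
      rintro _ ⟨x, hx, rfl⟩
      exact hmem _ (hQX x.2) (by rwa [Subgroup.coe_subtype, Subgroup.orderOf_coe])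
    · conv_lhs => rw [← hBres]
      rw [Cfsg.pResidual, MonoidHom.map_closure, closure_le]
      rintro _ ⟨b, hb, rfl⟩
      exact ⟨⟨b, hBQ b.2⟩, subset_closure (show (orderOf (⟨b, hBQ b.2⟩ : Q)).Coprime p by
        rwa [← Subgroup.orderOf_coe, Subgroup.orderOf_coe b]), rfl⟩
  refine ⟨fun a ha => ?_, hgen le_sup_right hAX⟩
  have h : ∀ g ∈ X, ∀ b ∈ B, g * b * g⁻¹ ∈ B := by
    intro g hg b hb
    rw [← hgen hBX le_rfl] at hb ⊢
    obtain ⟨y, hy, rfl⟩ := hb
    haveI : (Cfsg.pResidual p ↥X).Normal := PResidual.pResidual_normal p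
    exact ⟨⟨g, hg⟩ * y * ⟨g, hg⟩⁻¹, Normal.conj_mem inferInstance y hy _, rfl⟩
  exact mem_normalizer_fintype (h a (hAX (mem_sup_left ha)))

end CfsgLib.CharP
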