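import Cfsg.Agent.CharP.LargestPReducedOf
import Cfsg.Agent.CharP.Subnormal
import Cfsg.Agent.KGroup.CharP
import Cfsg.Agent.Solvable.PGroupBasic
import Cfsg.Agent.S3028

/-!
Kieler's lemma: centralizers of `Ω₁(Z(T))` and `Ω₁(Z(T ∩ L))` agree on a subnormal subgroup `L`.
-/

set_option autoImplicit false
set_option linter.style.haveILetI false

namespace CfsgLib.Kieler

open Subgroup Cfsg

variable {H : Type*} [Group H] [Finite H] {p : ℕ} [Fact p.Prime]

/-- `Ω₁(Z(T))`. -/
abbrev omegaZ (p : ℕ) (T : Subgroup H) : Subgroup H := omegaOne p (T ⊓ centralizer (T : Set H))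

theorem mem_omegaZ {T : Subgroup H} {z : H} (hz : z ∈ T) (hc : z ∈ centralizer (T : Set H))
    (hp : z ^ p = 1) : z ∈ omegaZ p T := Thompson.mem_omegaOne ⟨hz, hc⟩ hp

theorem omegaZ_props {T : Subgroup H} {z : H} (hz : z ∈ omegaZ p T) :
    z ∈ T ∧ z ∈ centralizer (T : Set H) ∧ z ^ p = 1 := by
  have h := Thompson.omegaOne_le _ hz
  refine ⟨h.1, h.2, ?_⟩
  exact (Thompson.elab_omegaOne (p := p) (H := T ⊓ centralizer (T : Set H)) fun a ha b hb =>
    mem_centralizer_iff.1 hb.2 a ha.1).2 z hz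

theorem le_centralizer_omegaZ (T : Subgroup H) : T ≤ centralizer (omegaZ p T : Set H) :=
  le_centralizer_iff.1 ((Thompson.omegaOne_le _).trans inf_le_right)

theorem omegaZ_conj_mem {T : Subgroup H} {g z : H} (hg : g ∈ normalizer (T : Set H))
    (hz : z ∈ omegaZ p T) : g * z * g⁻¹ ∈ omegaZ p T := by
  obtain ⟨h1, h2, h3⟩ := omegaZ_props hz
  refine mem_omegaZ ((mem_normalizer_iff.1 hg z).1 h1) ?_ (by rw [conj_pow, h3, mul_one, mul_inv_cancel])
  refine mem_centralizer_iff.2 fun v hv => ?_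
  have h4 : g⁻¹ * v * g ∈ T := by simpa using (mem_normalizer_iff.1 (inv_mem hg) v).1 hv
  calc v * (g * z * g⁻¹) = g * ((g⁻¹ * v * g) * z) * g⁻¹ := by simp [mul_assoc]
    _ = g * z * g⁻¹ * v := by rw [mem_centralizer_iff.1 h2 _ h4]; simp [mul_assoc]

theorem mem_of_pow_mem {C : Subgroup H} {z : H} {m : ℕ} (hm : ¬ p ∣ m) (hz : z ^ p = 1)
    (h : z ^ m ∈ C) : z ∈ C := by
  have hco : m.Coprime (orderOf z) := Nat.Coprime.coprime_dvd_right (orderOf_dvd_of_pow_eq_one hz)
    ((Fact.out : p.Prime).coprime_iff_not_dvd.2 hm).symm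
  obtain ⟨k, hk⟩ := exists_pow_eq_self_of_coprime hco
  rw [← hk]; exact pow_mem h k

/-- The transfer of a fixed point. -/
theorem exists_trace (V : Subgroup H) [IsMulCommutative V] (X S : Subgroup H)
    (hXV : X ≤ normalizer (V : Set H)) {m : ℕ} (hm : (S.subgroupOf X).index = m) :
    ∃ tr : H → H, (∀ z ∈ V, (∀ s ∈ S, s * z = z * s) → tr z ∈ V ∧
        tr z ∈ centralizer (X : Set H) ∧
        (∀ W : Subgroup H, (∀ x ∈ X, x * z * x⁻¹ * z⁻¹ ∈ W) → tr z * (z ^ m)⁻¹ ∈ W) ∧
        (z ∈ centralizer (X : Set H) → tr z = z ^ m) ∧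
        (∀ t : H, (∀ x, x ∈ X ↔ t * x * t⁻¹ ∈ X) → (∀ x, x ∈ S ↔ t * x * t⁻¹ ∈ S) →
          t ∈ normalizer (V : Set H) → tr (t * z * t⁻¹) = t * tr z * t⁻¹)) ∧
      (∀ z ∈ V, ∀ w ∈ V, tr (z * w) = tr z * tr w) := by
  classical
  haveI : Fintype (X ⧸ S.subgroupOf X) := Fintype.ofFinite _
  letI : CommGroup V := { (inferInstance : Group V) with
    mul_comm := fun a b => Subtype.ext (setLike_mul_comm a.2 b.2) }
  have hcm : ∀ (x : X) (v : V), (x : H) * (v : H) * (x : H)⁻¹ ∈ V := fun x v =>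
    (mem_normalizer_iff.1 (hXV x.2) v).1 v.2
  let σ : X → V →* V := fun x =>
    { toFun := fun v => ⟨(x : H) * (v : H) * (x : H)⁻¹, hcm x v⟩
      map_one' := Subtype.ext (by simp)
      map_mul' := fun a b => Subtype.ext (by simp [mul_assoc]) }
  let tr : H → H := fun z => if hz : z ∈ V then
    ((∏ q : X ⧸ S.subgroupOf X, σ q.out ⟨z, hz⟩ : V) : H) else 1
  have htr : ∀ z (hz : z ∈ V), tr z = ((∏ q : X ⧸ S.subgroupOf X, σ q.out ⟨z, hz⟩ : V) : H) :=
    fun z hz => dif_pos hz
  refine ⟨tr, fun z hz hzS => ?_, fun z hz w hw => ?_⟩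
  swap
  · rw [htr z hz, htr w hw, htr _ (mul_mem hz hw), ← Subgroup.coe_mul, ← Finset.prod_mul_distrib]
    exact congrArg Subtype.val (Finset.prod_congr rfl fun q _ => (map_mul (σ q.out) ⟨z, hz⟩ ⟨w, hw⟩))
  set f : X ⧸ S.subgroupOf X → V := fun q => σ q.out ⟨z, hz⟩ with hf
  have hfmk : ∀ (x : X), f (x : X ⧸ S.subgroupOf X) = σ x ⟨z, hz⟩ := by
    intro x
    obtain ⟨⟨s, hs⟩, he⟩ := QuotientGroup.mk_out_eq_mul (S.subgroupOf X) x
    refine Subtype.ext ?_
    show ((x : X ⧸ S.subgroupOf X).out : H) * z * ((x : X ⧸ S.subgroupOf X).out : H)⁻¹ = _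
    rw [he]
    show (x : H) * (s : H) * z * ((x : H) * (s : H))⁻¹ = (x : H) * z * (x : H)⁻¹
    rw [mul_assoc (x : H) (s : H) z, hzS (s : H) hs]
    simp [mul_assoc]
  refine ⟨by rw [htr z hz]; exact SetLike.coe_mem _, ?_, ?_, ?_, ?_⟩
  · refine mem_centralizer_iff.2 fun x hx => ?_
    have h1 : σ ⟨x, hx⟩ (∏ q, f q) = ∏ q, f q := by
      rw [map_prod]
      refine Fintype.prod_equiv (MulAction.toPerm (⟨x, hx⟩ : X)) _ _ fun q => ?_
      obtain ⟨y, rfl⟩ := QuotientGroup.mk_surjective q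
      rw [MulAction.toPerm_apply, MulAction.Quotient.smul_coe, hfmk, hfmk]
      exact Subtype.ext (by simp [σ, mul_assoc])
    have h2 : x * tr z * x⁻¹ = tr z := by rw [htr z hz]; exact congrArg Subtype.val h1
    conv_rhs => rw [← h2]
    simp [mul_assoc]
  · intro W hW
    rw [htr z hz]
    have h1 : (∏ q, f q) * ((⟨z, hz⟩ : V) ^ m)⁻¹ = ∏ q, f q * (⟨z, hz⟩ : V)⁻¹ := by
      rw [Finset.prod_mul_distrib, Finset.prod_const, Finset.card_univ, inv_pow,
        ← Nat.card_eq_fintype_card, ← index_eq_card, hm]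
    have h2 : (∏ q, f q * (⟨z, hz⟩ : V)⁻¹) ∈ W.subgroupOf V :=
      Subgroup.prod_mem _ fun q _ => hW _ q.out.2
    rw [← h1] at h2
    exact h2
  · intro hzX
    rw [htr z hz]
    have h1 : ∀ q, f q = ⟨z, hz⟩ := fun q => Subtype.ext (by
      show (q.out : H) * z * (q.out : H)⁻¹ = z
      rw [mem_centralizer_iff.1 hzX _ q.out.2, mul_inv_cancel_right])
    show ((∏ q, f q : V) : H) = z ^ m
    rw [Finset.prod_congr rfl fun q _ => h1 q, Finset.prod_const, Finset.card_univ,
      ← Nat.card_eq_fintype_card, ← index_eq_card, hm]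
    rfl
  · intro t htX htS htV
    have hz' : t * z * t⁻¹ ∈ V := (mem_normalizer_iff.1 htV z).1 hz
    have hzS' : ∀ s ∈ S, s * (t * z * t⁻¹) = t * z * t⁻¹ * s := by
      intro s hs
      have h1 : t⁻¹ * s * t ∈ S := (htS _).2 (by simpa [mul_assoc] using hs)
      calc s * (t * z * t⁻¹) = t * ((t⁻¹ * s * t) * z) * t⁻¹ := by simp [mul_assoc]
        _ = t * z * t⁻¹ * s := by rw [hzS _ h1]; simp [mul_assoc]
    rw [htr z hz, htr _ hz']
    let e : X ≃* X :=
      { toFun := fun x => ⟨t * x * t⁻¹, (htX x).1 x.2⟩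
        invFun := fun x => ⟨t⁻¹ * x * t, (htX _).2 (by simpa [mul_assoc] using x.2)⟩
        left_inv := fun x => Subtype.ext (by simp [mul_assoc])
        right_inv := fun x => Subtype.ext (by simp [mul_assoc])
        map_mul' := fun a b => Subtype.ext (by simp [mul_assoc]) }
    have he : ∀ a b : X, a⁻¹ * b ∈ S.subgroupOf X ↔ (e a)⁻¹ * e b ∈ S.subgroupOf X := by
      intro a b
      rw [← map_inv, ← map_mul, mem_subgroupOf, mem_subgroupOf]
      exact htS _
    let eq : X ⧸ S.subgroupOf X ≃ X ⧸ S.subgroupOf X :=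
      Quotient.congr e.toEquiv fun a b => by
        simp only [QuotientGroup.leftRel_apply]
        exact he a b
    let τ : V →* V :=
      { toFun := fun v => ⟨t * (v : H) * t⁻¹, (mem_normalizer_iff.1 htV v).1 v.2⟩
        map_one' := Subtype.ext (by simp)
        map_mul' := fun a b => Subtype.ext (by simp [mul_assoc]) }
    have hmain : ∏ q : X ⧸ S.subgroupOf X, σ q.out ⟨t * z * t⁻¹, hz'⟩ = τ (∏ q, f q) := by
      rw [map_prod]
      refine (Fintype.prod_equiv eq _ _ fun q => ?_).symm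
      obtain ⟨y, rfl⟩ := QuotientGroup.mk_surjective q
      have h3 : eq (y : X ⧸ S.subgroupOf X) = ((e y : X) : X ⧸ S.subgroupOf X) := rfl
      obtain ⟨⟨s, hs⟩, hse⟩ := QuotientGroup.mk_out_eq_mul (S.subgroupOf X) (e y)
      rw [h3, hfmk]
      refine Subtype.ext ?_
      show t * ((y : H) * z * (y : H)⁻¹) * t⁻¹ =
        (((e y : X) : X ⧸ S.subgroupOf X).out : H) * (t * z * t⁻¹) *
          (((e y : X) : X ⧸ S.subgroupOf X).out : H)⁻¹
      rw [hse]
      show _ = t * (y : H) * t⁻¹ * (s : H) * (t * z * t⁻¹) * (t * (y : H) * t⁻¹ * (s : H))⁻¹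
      rw [mul_assoc (t * (y : H) * t⁻¹) (s : H), hzS' (s : H) hs]
      simp [mul_assoc]
    rw [hmain]
    rfl

/-- Kieler's lemma for a normal subgroup. -/
theorem normal_case (hH : centralizer (pCore p H : Set H) ≤ pCore p H) (T : Sylow p H)
    (L : Subgroup H) [hLn : L.Normal] :
    L ⊓ centralizer (omegaZ p (T : Subgroup H) : Set H) =
      L ⊓ centralizer (omegaZ p ((T : Subgroup H) ⊓ L) : Set H) := by
  set S := (T : Subgroup H) ⊓ L with hS
  set Z := omegaZ p (T : Subgroup H)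
  set Z' := omegaZ p S
  set O := pCore p H
  haveI : O.Normal := Solvable.pCore_normal p
  have hOT : O ≤ (T : Subgroup H) := Fitting.pCore_le_sylow T
  have hTS : (T : Subgroup H) ≤ normalizer (S : Set H) :=
    CharP.sylow_le_normalizer_inf T L le_normalizer_of_normal
  have hSidx : ∀ X : Subgroup H, X ≤ L → S ≤ X → ¬ p ∣ (S.subgroupOf X).index := fun X hXL hSX h =>
    CharP.not_dvd_relIndex_inf T L le_normalizer_of_normal
      (h.trans (Dvd.intro _ (relIndex_mul_relIndex S X L hSX hXL)))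
  have hsm : ∀ (t : H) (Y : Subgroup H), t ∈ normalizer (Y : Set H) →
      ∀ x, x ∈ Y ↔ t * x * t⁻¹ ∈ Y := fun t Y ht x => mem_normalizer_iff.1 ht x
  -- `O ∩ L = O_p(L)`, and `L` has characteristic `p`
  have hLchar : centralizer (pCore p L : Set L) ≤ pCore p L :=
    CharP.hasCharP_of_normal (N := L) hH
  have hOL : O ⊓ L ≤ pCoreOf p L := by
    have h := map_mono (f := L.subtype) (Solvable.le_pCore p (inferInstance : (O.subgroupOf L).Normal)
      ((Solvable.isPGroup_pCore p).comap_subtype))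
    rwa [subgroupOf_map_subtype] at h
  have hLO : pCoreOf p L ≤ O := by
    haveI : (pCore p L).Normal := Solvable.pCore_normal p
    exact CharP.subnormal_pGroup_le_pCore
      (IsSubnormal.step _ L (map_subtype_le _) hLn.isSubnormal
        (by rw [subgroupOf, Cfsg.pCoreOf, comap_map_eq_self_of_injective L.subtype_injective]; infer_instance))
      ((Solvable.isPGroup_pCore p).map _)
  set V := omegaZ p O
  set V' := omegaZ p (pCoreOf p L)
  haveI : IsMulCommutative V := (Thompson.elab_omegaOne (p := p) (H := O ⊓ centralizer (O : Set H))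
    fun a ha b hb => mem_centralizer_iff.1 hb.2 a ha.1).1
  haveI : IsMulCommutative V' := (Thompson.elab_omegaOne (p := p)
    (H := pCoreOf p L ⊓ centralizer (pCoreOf p L : Set H))
    fun a ha b hb => mem_centralizer_iff.1 hb.2 a ha.1).1
  have hVn : ∀ g : H, g ∈ normalizer (V : Set H) := fun g => by
    refine mem_normalizer_iff.2 fun x => ⟨omegaZ_conj_mem
      ((le_normalizer_of_normal (H := O) : ⊤ ≤ normalizer (O : Set H)) (mem_top g)), fun hx => ?_⟩
    simpa [mul_assoc] using omegaZ_conj_mem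
      ((le_normalizer_of_normal (H := O) : ⊤ ≤ normalizer (O : Set H)) (mem_top g⁻¹)) hx
  have hV'n : ∀ g : H, g ∈ normalizer (pCoreOf p L : Set H) := by
    intro g
    have : pCoreOf p L = O ⊓ L := le_antisymm (le_inf hLO (map_subtype_le _)) hOL
    rw [this]
    exact (le_normalizer_of_normal (H := O ⊓ L) : ⊤ ≤ normalizer _) (mem_top g)
  have hV'n' : ∀ g : H, g ∈ normalizer (V' : Set H) := fun g => by
    refine mem_normalizer_iff.2 fun x => ⟨omegaZ_conj_mem (hV'n g), fun hx => ?_⟩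
    simpa [mul_assoc] using omegaZ_conj_mem (hV'n g⁻¹) hx
  have hLS : pCoreOf p L ≤ S := le_inf (hLO.trans hOT) (map_subtype_le _)
  have hZ'V' : Z' ≤ V' := fun z hz => by
    obtain ⟨h1, h2, h3⟩ := omegaZ_props hz
    have hc : z ∈ centralizer (pCoreOf p L : Set H) := centralizer_le hLS h2
    refine mem_omegaZ ⟨⟨z, h1.2⟩, hLchar (CharP.mem_centralizer_of_subtype.2 hc), rfl⟩ hc h3
  refine le_antisymm (le_inf inf_le_left ?_) (le_inf inf_le_left ?_)
  · -- `C_L(Z)` centralizes `Z'`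
    set X := L ⊓ centralizer (Z : Set H) with hX
    have hSX : S ≤ X := le_inf inf_le_right (inf_le_left.trans (le_centralizer_omegaZ _))
    set m := (S.subgroupOf X).index with hm
    have hmp : ¬ p ∣ m := hSidx X inf_le_left hSX
    have hTX : (T : Subgroup H) ≤ normalizer (X : Set H) := fun t ht => by
      refine mem_normalizer_iff.2 fun x => ?_
      rw [Subgroup.mem_inf, Subgroup.mem_inf]
      refine and_congr (hsm t L ((le_normalizer_of_normal (H := L) : ⊤ ≤ normalizer _) (mem_top t)) x) ?_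
      have h1 : ∀ w ∈ Z, t * w * t⁻¹ = w := fun w hw => by
        rw [mem_centralizer_iff.1 (omegaZ_props hw).2.1 t ht, mul_inv_cancel_right]
      constructor
      · intro hx
        refine mem_centralizer_iff.2 fun w hw => ?_
        calc w * (t * x * t⁻¹) = (t * w * t⁻¹) * (t * x * t⁻¹) := by rw [h1 w hw]
          _ = t * (w * x) * t⁻¹ := by simp [mul_assoc]
          _ = (t * x * t⁻¹) * (t * w * t⁻¹) := by
            rw [mem_centralizer_iff.1 hx w hw]; simp [mul_assoc]
          _ = t * x * t⁻¹ * w := by rw [h1 w hw]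
      · intro hx
        refine mem_centralizer_iff.2 fun w hw => ?_
        have h2 : t * w * t⁻¹ * (t * x * t⁻¹) = t * x * t⁻¹ * (t * w * t⁻¹) := by
          rw [h1 w hw]; exact mem_centralizer_iff.1 hx w hw
        refine (MulAut.conj t).injective ?_
        rw [map_mul, map_mul]
        exact h2
    obtain ⟨tr, htr, htm⟩ := exists_trace V' X S (fun g _ => hV'n' g) hm.symm
    have hfix : ∀ z ∈ Z', ∀ s ∈ S, s * z = z * s := fun z hz s hs =>
      mem_centralizer_iff.1 (omegaZ_props hz).2.1 s hs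
    have hmem : ∀ z ∈ Z', tr z ∈ Z' := fun z hz => by
      obtain ⟨h1, h2, -⟩ := htr z (hZ'V' hz) (hfix z hz)
      exact mem_omegaZ (hLS (omegaZ_props h1).1) (centralizer_le hSX h2) (omegaZ_props h1).2.2
    let K : Subgroup H :=
      { carrier := {z | z ∈ Z' ∧ tr z = 1}
        one_mem' := by
          refine ⟨one_mem _, ?_⟩
          have := htm 1 (one_mem _) 1 (one_mem _)
          rwa [one_mul, left_eq_mul] at this
        mul_mem' := fun {a b} ha hb => ⟨mul_mem ha.1 hb.1, by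
          rw [htm a (hZ'V' ha.1) b (hZ'V' hb.1), ha.2, hb.2, one_mul]⟩
        inv_mem' := fun {a} ha => ⟨inv_mem ha.1, by
          have h1 : tr 1 = 1 := by
            have := htm 1 (one_mem _) 1 (one_mem _)
            rwa [one_mul, left_eq_mul] at this
          have := htm a (hZ'V' ha.1) a⁻¹ (inv_mem (hZ'V' ha.1))
          rwa [mul_inv_cancel, h1, ha.2, one_mul, eq_comm] at this⟩ }
    have hKT : ∀ t ∈ (T : Subgroup H), ∀ z ∈ K, t * z * t⁻¹ ∈ K := by
      rintro t ht z ⟨hz, hz1⟩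
      refine ⟨omegaZ_conj_mem (hTS ht) hz, ?_⟩
      rw [(htr z (hZ'V' hz) (hfix z hz)).2.2.2.2 t (hsm t X (hTX ht)) (hsm t S (hTS ht)) (hV'n' t),
        hz1, mul_one, mul_inv_cancel]
    have hKbot : K = ⊥ := by
      by_contra hne
      have hKTle : K ≤ (T : Subgroup H) := fun z hz => (omegaZ_props hz.1).1.1
      haveI : (K.subgroupOf (T : Subgroup H)).Normal :=
        ⟨fun z hz t => hKT t t.2 z hz⟩
      haveI : Group.IsNilpotent ↥(T : Subgroup H) := IsPGroup.isNilpotent T.isPGroup'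
      have hne' : K.subgroupOf (T : Subgroup H) ≠ ⊥ := fun e => hne (by
        rw [← map_subgroupOf_eq_of_le hKTle, e, Subgroup.map_bot])
      obtain ⟨k, hk, hk1⟩ := (bot_or_exists_ne_one _).resolve_left
        (CfsgLib.PGroupBasic.inf_center_ne_bot (K.subgroupOf (T : Subgroup H)) hne')
      have hkZ' : (k : H) ∈ Z' := (mem_subgroupOf.1 hk.1).1
      have hkZ : (k : H) ∈ Z := mem_omegaZ k.2 (mem_centralizer_iff.2 fun v hv =>
        congrArg Subtype.val (mem_center_iff.1 hk.2 ⟨v, hv⟩)) (omegaZ_props hkZ').2.2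
      have hkX : (k : H) ∈ centralizer (X : Set H) :=
        le_centralizer_iff.1 (inf_le_right : X ≤ centralizer (Z : Set H)) hkZ
      have h1 := (htr _ (hZ'V' hkZ') (hfix _ hkZ')).2.2.2.1 hkX
      rw [(mem_subgroupOf.1 hk.1).2] at h1
      refine hk1 (Subtype.ext (orderOf_eq_one_iff.1 (Nat.eq_one_of_dvd_coprimes
        ((Fact.out : p.Prime).coprime_iff_not_dvd.2 hmp)
        (orderOf_dvd_of_pow_eq_one (omegaZ_props hkZ').2.2) (orderOf_dvd_of_pow_eq_one h1.symm))))
    refine le_centralizer_iff.1 fun z hz => ?_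
    obtain ⟨-, h2, -, -⟩ := htr z (hZ'V' hz) (hfix z hz)
    set w := tr z with hw
    have hwZ : w ∈ Z' := hmem z hz
    have hzm : z ^ m * w⁻¹ ∈ K := by
      refine ⟨mul_mem (pow_mem hz m) (inv_mem hwZ), ?_⟩
      have hpow : ∀ n : ℕ, tr (z ^ n) = w ^ n := by
        intro n
        induction n with
        | zero =>
          have := htm 1 (one_mem _) 1 (one_mem _)
          rw [one_mul, left_eq_mul] at this
          simpa using this
        | succ n ih => rw [pow_succ, htm _ (pow_mem (hZ'V' hz) n) _ (hZ'V' hz), ih, pow_succ]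
      have hww : tr w = w ^ m := (htr w (hZ'V' hwZ) (hfix w hwZ)).2.2.2.1 h2
      have hsum : tr (z ^ m * w⁻¹) * tr w = tr (z ^ m) := by
        rw [← htm _ (mul_mem (pow_mem (hZ'V' hz) m) (inv_mem (hZ'V' hwZ))) _ (hZ'V' hwZ),
          inv_mul_cancel_right]
      rw [hww, hpow] at hsum
      exact mul_eq_right.1 hsum
    rw [hKbot, mem_bot, mul_inv_eq_one] at hzm
    refine mem_of_pow_mem hmp (omegaZ_props hz).2.2 ?_
    rw [hzm]; exact h2
  · -- `C_L(Z')` centralizes `Z`
    set X := L ⊓ centralizer (Z' : Set H) with hX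
    have hSX : S ≤ X := le_inf inf_le_right (le_centralizer_omegaZ _)
    set m := (S.subgroupOf X).index with hm
    have hmp : ¬ p ∣ m := hSidx X inf_le_left hSX
    obtain ⟨tr, htr, -⟩ := exists_trace V X S (fun g _ => hVn g) hm.symm
    refine le_centralizer_iff.1 fun z hz => ?_
    obtain ⟨z1, z2, z3⟩ := omegaZ_props hz
    have hzc : z ∈ centralizer (O : Set H) := centralizer_le hOT z2
    have hzV : z ∈ V := mem_omegaZ (hH hzc) hzc z3
    have hzS : ∀ s ∈ S, s * z = z * s := fun s hs => mem_centralizer_iff.1 z2 s hs.1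
    obtain ⟨h1, h2, h3, -⟩ := htr z hzV hzS
    set w := tr z * (z ^ m)⁻¹ with hw
    have hwV : w ∈ V := mul_mem h1 (inv_mem (pow_mem hzV m))
    have hwL : w ∈ L := h3 L fun x hx => by
      have h4 := hLn.conj_mem x⁻¹ (inv_mem hx.1) z
      have := mul_mem hx.1 h4
      simpa [mul_assoc] using this
    have hwZ' : w ∈ Z' := by
      refine mem_omegaZ ⟨hOT (omegaZ_props hwV).1, hwL⟩ ?_ (omegaZ_props hwV).2.2
      refine mem_centralizer_iff.2 fun s hs => ?_
      exact ((show Commute s (tr z) from mem_centralizer_iff.1 h2 s (hSX hs)).mul_right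
        ((show Commute s z from hzS s hs).pow_right m).inv_right).eq
    have hwX : w ∈ centralizer (X : Set H) :=
      le_centralizer_iff.1 (inf_le_right : X ≤ centralizer (Z' : Set H)) hwZ'
    have hzm : z ^ m ∈ centralizer (X : Set H) := by
      have : z ^ m = w⁻¹ * tr z := by
        rw [hw, mul_inv_rev, inv_inv, inv_mul_cancel_right]
      rw [this]; exact mul_mem (inv_mem hwX) h2
    exact mem_of_pow_mem hmp z3 hzm

end CfsgLib.Kieler
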