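import Cfsg.Agent.CharP.LargestPReduced

/-!
The largest p-reduced normal subgroups of parabolic subgroups.
-/

set_option autoImplicit false
set_option linter.style.haveILetI false

namespace CfsgLib.CharP

open Subgroup Cfsg

variable {H : Type*} [Group H] [Finite H] {p : ℕ} [Fact p.Prime]

theorem largestPReducedOf_le_pCoreOf (L : Subgroup H) :
    largestPReducedOf p L ≤ pCoreOf p L :=
  map_mono (IsPReducedNormal.le_pCore largestPReduced_spec.1)

theorem largestPReducedOf_le_sylow (T : Sylow p H) {L : Subgroup H} (hTL : (T : Subgroup H) ≤ L) :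
    largestPReducedOf p L ≤ (T : Subgroup H) := by
  refine (largestPReducedOf_le_pCoreOf L).trans ?_
  refine (map_mono (Fitting.pCore_le_sylow (T.subtype hTL))).trans ?_
  rw [Sylow.coe_subtype, map_subgroupOf_eq_of_le hTL]

theorem pCoreOf_le_sylow (T : Sylow p H) {L : Subgroup H} (hTL : (T : Subgroup H) ≤ L) :
    pCoreOf p L ≤ (T : Subgroup H) := by
  refine (map_mono (Fitting.pCore_le_sylow (T.subtype hTL))).trans ?_
  rw [Sylow.coe_subtype, map_subgroupOf_eq_of_le hTL]

theorem pCoreOf_le_centralizer (L : Subgroup H) :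
    pCoreOf p L ≤ centralizer (largestPReducedOf p L : Set H) := by
  rintro _ ⟨x, hx, rfl⟩
  refine mem_centralizer_iff.2 ?_
  rintro _ ⟨y, hy, rfl⟩
  exact congrArg Subtype.val
    (mem_centralizer_iff.1 (pCore_le_centralizer largestPReduced_spec.1 hx) y hy)

theorem mem_centralizer_of_subtype {L : Subgroup H} {U : Subgroup L} {x : L} :
    x ∈ centralizer (U : Set L) ↔ (x : H) ∈ centralizer ((U.map L.subtype : Subgroup H) : Set H) := by
  constructor
  · intro h
    refine mem_centralizer_iff.2 ?_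
    rintro _ ⟨y, hy, rfl⟩
    exact congrArg Subtype.val (mem_centralizer_iff.1 h y hy)
  · exact fun h => mem_centralizer_iff.2 fun y hy =>
      Subtype.ext (mem_centralizer_iff.1 h (y : H) (mem_map_of_mem _ hy))

/-- `Y_L = Ω₁(Z(C_T(Y_L)))`, in the ambient group. -/
theorem largestPReducedOf_eq_omega (T : Sylow p H) (L : Subgroup H) (hTL : (T : Subgroup H) ≤ L)
    (hL : centralizer (pCore p ↥L : Set ↥L) ≤ pCore p ↥L) (T₀ : Subgroup H)
    (hT₀ : T₀ = (T : Subgroup H) ⊓ centralizer (largestPReducedOf p L : Set H)) :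
    largestPReducedOf p L = omegaOne p (T₀ ⊓ centralizer (T₀ : Set H)) := by
  have h := (largestPReduced_structure hL (T.subtype hTL) largestPReduced_spec _ rfl).2.2
  have hm : (((T.subtype hTL : Sylow p L) : Subgroup L) ⊓
      centralizer (largestPReduced p L : Set L)).map L.subtype = T₀ := by
    rw [hT₀]
    ext x
    constructor
    · rintro ⟨y, ⟨h1, h2⟩, rfl⟩
      exact ⟨h1, mem_centralizer_of_subtype.1 h2⟩
    · rintro ⟨h1, h2⟩
      exact ⟨⟨x, hTL h1⟩, ⟨h1, mem_centralizer_of_subtype.2 h2⟩, rfl⟩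
  rw [largestPReducedOf]
  conv_lhs => rw [h]
  rw [Thompson.map_omegaOne _ L.subtype_injective, map_inf_centralizer, hm]

/-- Transfer of `p`-reducedness between subgroups with the same image modulo the centralizer. -/
theorem le_largestPReducedOf_of_factor (T : Sylow p H) (L M : Subgroup H)
    (hTM : (T : Subgroup H) ≤ M) (hYL : largestPReducedOf p M ≤ L)
    (hfac : L ⊔ centralizer (largestPReducedOf p M : Set H) =
      M ⊔ centralizer (largestPReducedOf p M : Set H)) :
    largestPReducedOf p M ≤ largestPReducedOf p L := by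
  set Y := largestPReducedOf p M
  set C := centralizer (Y : Set H)
  have hMN : M ≤ normalizer (Y : Set H) := le_normalizer_largestPReducedOf M
  have hCN : C ≤ normalizer (Y : Set H) := fun c hc => mem_normalizer_iff.2 fun y => by
    constructor
    · intro hy
      rwa [← mem_centralizer_iff.1 hc y hy, mul_inv_cancel_right]
    · intro hy
      have := mem_centralizer_iff.1 hc _ hy
      rw [inv_mul_cancel_right] at this
      exact (mul_left_cancel this).symm ▸ hy
  have hLN : L ≤ normalizer (Y : Set H) := (le_sup_left.trans hfac.le).trans (sup_le hMN hCN)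
  have hYe : IsElementaryAbelian p Y := by
    obtain ⟨h1, h2⟩ := (largestPReduced_spec (L := M) (p := p)).1.2.1
    refine ⟨⟨⟨?_⟩⟩, ?_⟩
    · rintro ⟨_, a, ha, rfl⟩ ⟨_, b, hb, rfl⟩
      exact Subtype.ext (congrArg (fun z : M => (z : H)) (setLike_mul_comm (s := largestPReduced p M) ha hb))
    · rintro _ ⟨a, ha, rfl⟩
      exact congrArg Subtype.val (h2 a ha)
  suffices h : IsPReducedNormal p (Y.subgroupOf L) by
    have := map_mono (f := L.subtype) (le_largestPReduced h)
    rwa [map_subgroupOf_eq_of_le hYL] at this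
  refine isPReducedNormal_of (normal_subgroupOf_of_le_normalizer hLN)
    ⟨⟨⟨fun a b => Subtype.ext (Subtype.ext (by
      haveI := hYe.1
      exact setLike_mul_comm (s := Y) (mem_subgroupOf.1 a.2) (mem_subgroupOf.1 b.2) :
        ((a : L) : H) * ((b : L) : H) = (b : L) * (a : L)))⟩⟩,
      fun a ha => Subtype.ext (hYe.2 a ha)⟩ fun N hN hp => ?_
  -- work inside `N(Y)`, where `C` is normal
  set NY := normalizer (Y : Set H)
  have hCn : (C.subgroupOf NY).Normal := by
    refine normal_subgroupOf_of_le_normalizer fun g hg => ?_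
    have key : ∀ g ∈ normalizer (Y : Set H), ∀ c ∈ C, g * c * g⁻¹ ∈ C := by
      intro g hg c hc
      refine mem_centralizer_iff.2 fun y hy => ?_
      have h1 : g⁻¹ * y * g ∈ Y := by simpa using (mem_normalizer_iff.1 (inv_mem hg) y).1 hy
      calc y * (g * c * g⁻¹) = g * ((g⁻¹ * y * g) * c) * g⁻¹ := by simp [mul_assoc]
        _ = g * c * g⁻¹ * y := by rw [mem_centralizer_iff.1 hc _ h1]; simp [mul_assoc]
    refine mem_normalizer_iff.2 fun c => ⟨key g hg c, fun hc => ?_⟩
    simpa [mul_assoc] using key g⁻¹ (inv_mem hg) _ hc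
  set π := QuotientGroup.mk' (C.subgroupOf NY)
  have hpC : ∀ x : L, x ∈ centralizer ((Y.subgroupOf L : Subgroup L) : Set L) ↔ (x : H) ∈ C := by
    intro x
    rw [mem_centralizer_of_subtype, map_subgroupOf_eq_of_le hYL]
  set N' := (N.map (π.comp (inclusion hLN))).comap (π.comp (inclusion hMN)) with hN'
  have hN'n : N'.Normal := by
    refine ⟨fun m hm g => ?_⟩
    obtain ⟨n, hn, hnm⟩ := hm
    -- the image of `g` is the image of an element of `L`
    have hg : (g : H) ∈ L ⊔ C := hfac.ge (mem_sup_left g.2)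
    rw [← SetLike.mem_coe, coe_mul_of_left_le_normalizer_right L C
      (fun l hl => mem_normalizer_iff.2 fun c => by
        have := (mem_normalizer_iff.1 ((le_normalizer_of_normal (H := C.subgroupOf NY) :
          ⊤ ≤ normalizer ((C.subgroupOf NY : Subgroup NY) : Set NY)) (mem_top ⟨l, hLN hl⟩)))
        constructor
        · exact fun hc => (this ⟨c, hCN hc⟩).1 hc
        · intro hc
          have hc' : c ∈ NY := by
            simpa [mul_assoc] using mul_mem (mul_mem (inv_mem (hLN hl)) (hCN hc)) (hLN hl)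
          exact (this ⟨c, hc'⟩).2 hc)] at hg
    obtain ⟨l, hl, c, hc, hlc⟩ := hg
    refine ⟨⟨l, hl⟩ * n * ⟨l, hl⟩⁻¹, hN.conj_mem n hn ⟨l, hl⟩, ?_⟩
    have e : (π.comp (inclusion hLN)) ⟨l, hl⟩ = (π.comp (inclusion hMN)) g := by
      simp only [MonoidHom.comp_apply]
      refine QuotientGroup.eq.2 ?_
      show (l : H)⁻¹ * (g : H) ∈ C
      rw [← hlc]; simpa using hc
    simp only [map_mul, map_inv, e, hnm]
  have hN'C : ∀ m ∈ N', (m : H) ∈ C := by
    intro m hm
    refine mem_centralizer_of_subtype.1 (IsPReducedNormal.le_centralizer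
      (largestPReduced_spec (L := M) (p := p)).1 N' hN'n (fun y hy => ?_) hm)
    obtain ⟨n, hn, hny⟩ := hy
    obtain ⟨k, hk⟩ := hp n hn
    refine ⟨k, mem_centralizer_of_subtype.2 ?_⟩
    have h1 : (π.comp (inclusion hMN)) (y ^ p ^ k) = 1 := by
      rw [map_pow, ← hny, ← map_pow]
      exact (QuotientGroup.eq_one_iff _).2 ((hpC _).1 hk)
    exact (QuotientGroup.eq_one_iff (N := C.subgroupOf NY) _).1 h1
  intro x hx
  rw [hpC]
  have hg : (x : H) ∈ M ⊔ C := hfac.le (mem_sup_left x.2)
  rw [← SetLike.mem_coe, coe_mul_of_left_le_normalizer_right M C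
    (fun l hl => mem_normalizer_iff.2 fun c => by
      have := (mem_normalizer_iff.1 ((le_normalizer_of_normal (H := C.subgroupOf NY) :
        ⊤ ≤ normalizer ((C.subgroupOf NY : Subgroup NY) : Set NY)) (mem_top ⟨l, hMN hl⟩)))
      constructor
      · exact fun hc => (this ⟨c, hCN hc⟩).1 hc
      · intro hc
        have hc' : c ∈ NY := by
          simpa [mul_assoc] using mul_mem (mul_mem (inv_mem (hMN hl)) (hCN hc)) (hMN hl)
        exact (this ⟨c, hc'⟩).2 hc)] at hg
  obtain ⟨m, hm, c, hc, hmc⟩ := hg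
  have hmN : (⟨m, hm⟩ : M) ∈ N' := by
    refine ⟨x, hx, ?_⟩
    simp only [MonoidHom.comp_apply]
    refine (QuotientGroup.eq.2 ?_).symm
    show (m : H)⁻¹ * (x : H) ∈ C
    rw [← hmc]; simpa using hc
  rw [← hmc]
  exact mul_mem (hN'C ⟨m, hm⟩ hmN) hc

end CfsgLib.CharP
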