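import Cfsg.Agent.CharP.PIrreducible
import Cfsg.Agent.CharP.LargestPReducedOf
import Cfsg.Agent.Solvable.PGroupBasic

/-!
Groups minimal over a `p`-subgroup and the L-Lemma.
-/

set_option autoImplicit false
set_option linter.style.haveILetI false

namespace CfsgLib.YMinimal

open Subgroup Cfsg
open scoped commutatorElement

variable {G : Type*} [Group G] [Finite G] {p : ℕ} [Fact p.Prime]

theorem conj_conj (A : Subgroup G) (a b : G) :
    (A.map (MulAut.conj a).toMonoidHom).map (MulAut.conj b).toMonoidHom =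
      A.map (MulAut.conj (b * a)).toMonoidHom := by
  rw [Subgroup.map_map]; congr 1; ext x; simp [mul_assoc]

theorem conj_one (A : Subgroup G) : A.map (MulAut.conj (1 : G)).toMonoidHom = A := by
  ext x; simp

theorem mem_conj {A : Subgroup G} {g x : G} :
    x ∈ A.map (MulAut.conj g).toMonoidHom ↔ g⁻¹ * x * g ∈ A := by
  constructor
  · rintro ⟨y, hy, rfl⟩; simpa [mul_assoc] using hy
  · intro h; exact ⟨_, h, by simp [mul_assoc]⟩

theorem conj_le_iff {A B : Subgroup G} {g : G} :
    A.map (MulAut.conj g).toMonoidHom ≤ B ↔ A ≤ B.map (MulAut.conj g⁻¹).toMonoidHom := by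
  constructor
  · intro h x hx
    rw [mem_conj]
    simpa [mul_assoc] using h (mem_map_of_mem _ hx)
  · intro h x hx
    simpa [mul_assoc] using mem_conj.1 (h (mem_conj.1 hx))

theorem conj_mono {A B : Subgroup G} (h : A ≤ B) (g : G) :
    A.map (MulAut.conj g).toMonoidHom ≤ B.map (MulAut.conj g).toMonoidHom := map_mono h

theorem conj_eq_self {A : Subgroup G} {g : G} (hg : g ∈ normalizer (A : Set G)) :
    A.map (MulAut.conj g).toMonoidHom = A := by
  ext x
  rw [mem_conj]
  refine ⟨fun h => ?_, fun h => by simpa using (mem_normalizer_iff.1 (inv_mem hg) x).1 h⟩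
  simpa [mul_assoc] using (mem_normalizer_iff.1 hg _).1 h

theorem mem_normalizer_of_conj_le {A : Subgroup G} {g : G}
    (h : A.map (MulAut.conj g).toMonoidHom ≤ A) : g ∈ normalizer (A : Set G) := by
  have he : A.map (MulAut.conj g).toMonoidHom = A :=
    eq_of_le_of_card_ge h (card_map_of_injective (MulAut.conj g).injective).ge
  refine mem_normalizer_iff.2 fun x => ⟨fun hx => h (mem_map_of_mem _ hx), fun hx => ?_⟩
  rw [← he, mem_conj] at hx
  simpa [mul_assoc] using hx

theorem pCoreOf_le (L : Subgroup G) : pCoreOf p L ≤ L := map_subtype_le _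

theorem isPGroup_pCoreOf (L : Subgroup G) : IsPGroup p (pCoreOf p L) :=
  (Solvable.isPGroup_pCore p).map _

theorem le_normalizer_pCoreOf (L : Subgroup G) :
    L ≤ normalizer (pCoreOf p L : Set G) := fun g hg => mem_normalizer_of_conj_le (by
  rintro _ ⟨_, ⟨x, hx, rfl⟩, rfl⟩
  exact ⟨⟨g, hg⟩ * x * ⟨g, hg⟩⁻¹, (Solvable.pCore_normal p).conj_mem x hx _, by simp⟩)

theorem le_pCoreOf {L W : Subgroup G} (hW : W ≤ L) (hn : L ≤ normalizer (W : Set G))
    (hp : IsPGroup p W) : W ≤ pCoreOf p L := by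
  haveI : (W.subgroupOf L).Normal :=
    ⟨fun w hw g => mem_subgroupOf.2 ((mem_normalizer_iff.1 (hn g.2) _).1 (mem_subgroupOf.1 hw))⟩
  rw [← map_subgroupOf_eq_of_le hW]
  exact map_mono (Solvable.le_pCore p this hp.comap_subtype)

theorem pCoreOf_top : pCoreOf p (⊤ : Subgroup G) = pCore p G := by
  refine le_antisymm (Solvable.le_pCore p ?_ (isPGroup_pCoreOf _))
    (le_pCoreOf le_top ?_ (Solvable.isPGroup_pCore p))
  · exact normalizer_eq_top_iff.1 (top_le_iff.1 (le_normalizer_pCoreOf _))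
  · haveI := Solvable.pCore_normal p (G := G)
    exact le_normalizer_of_normal

theorem map_pCoreOf_le (L : Subgroup G) (g : G) :
    (pCoreOf p L).map (MulAut.conj g).toMonoidHom ≤
      pCoreOf p (L.map (MulAut.conj g).toMonoidHom) :=
  le_pCoreOf (map_mono (pCoreOf_le L))
    ((map_mono (le_normalizer_pCoreOf L)).trans (le_normalizer_map _))
    ((isPGroup_pCoreOf L).map _)

theorem map_pCoreOf (L : Subgroup G) (g : G) :
    (pCoreOf p L).map (MulAut.conj g).toMonoidHom =
      pCoreOf p (L.map (MulAut.conj g).toMonoidHom) := by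
  refine le_antisymm (map_pCoreOf_le L g) ?_
  have h := conj_mono (map_pCoreOf_le (p := p) (L.map (MulAut.conj g).toMonoidHom) g⁻¹) g
  rwa [conj_conj, conj_conj, mul_inv_cancel, conj_one, inv_mul_cancel, conj_one] at h

theorem isPGroup_sup_of_le_normalizer {A B : Subgroup G} (hA : IsPGroup p A) (hB : IsPGroup p B)
    (h : A ≤ normalizer (B : Set G)) : IsPGroup p (A ⊔ B : Subgroup G) :=
  hA.to_sup_of_normal_right' hB h

/-- A `p`-subgroup of index prime to `p` in `K`. -/
def IsSylowIn (p : ℕ) (P K : Subgroup G) : Prop :=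
  P ≤ K ∧ IsPGroup p P ∧ ¬ p ∣ P.relIndex K

theorem exists_sylowIn_ge {U K : Subgroup G} (hU : IsPGroup p U) (hUK : U ≤ K) :
    ∃ P, U ≤ P ∧ IsSylowIn p P K := by
  obtain ⟨S, hS⟩ := (hU.comap_subtype (K := K)).exists_le_sylow
  refine ⟨(S : Subgroup K).map K.subtype, ?_, map_subtype_le _, S.isPGroup'.map _, ?_⟩
  · rw [← map_subgroupOf_eq_of_le hUK]; exact map_mono hS
  · rw [relIndex, subgroupOf, comap_map_eq_self_of_injective K.subtype_injective]
    exact S.not_dvd_index

/-- The Sylow subgroup attached to `IsSylowIn`. -/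
theorem IsSylowIn.exists_sylow {P K : Subgroup G} (h : IsSylowIn p P K) :
    ∃ S : Sylow p K, (S : Subgroup K) = P.subgroupOf K :=
  ⟨(h.2.1.comap_subtype).toSylow h.2.2, rfl⟩

theorem IsSylowIn.conj {P U K : Subgroup G} (hP : IsSylowIn p P K) (hU : IsSylowIn p U K) :
    ∃ k ∈ K, P.map (MulAut.conj k).toMonoidHom = U := by
  obtain ⟨S, hS⟩ := hP.exists_sylow
  obtain ⟨S', hS'⟩ := hU.exists_sylow
  obtain ⟨k, hk⟩ := MulAction.exists_smul_eq K S S'
  refine ⟨k, k.2, ?_⟩
  rw [← map_subgroupOf_eq_of_le hP.1, ← map_subgroupOf_eq_of_le hU.1, ← hS, ← hS', ← hk,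
    Subgroup.map_map, Sylow.coe_subgroup_smul]
  show _ = ((S : Subgroup K).map (MulAut.conj k).toMonoidHom).map K.subtype
  rw [Subgroup.map_map]
  congr 1

theorem IsSylowIn.le_of_normalized {P K W : Subgroup G} (h : IsSylowIn p P K) (hW : W ≤ K)
    (hn : K ≤ normalizer (W : Set G)) (hp : IsPGroup p W) : W ≤ P := by
  obtain ⟨S, hS⟩ := h.exists_sylow
  haveI : (W.subgroupOf K).Normal :=
    ⟨fun w hw g => mem_subgroupOf.2 ((mem_normalizer_iff.1 (hn g.2) _).1 (mem_subgroupOf.1 hw))⟩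
  have h1 : W.subgroupOf K ≤ (S : Subgroup K) :=
    (Solvable.le_pCore p this hp.comap_subtype).trans (Fitting.pCore_le_sylow S)
  rw [← map_subgroupOf_eq_of_le hW, ← map_subgroupOf_eq_of_le h.1, ← hS]
  exact map_mono h1

theorem IsSylowIn.le_of_le {P K V : Subgroup G} (h : IsSylowIn p P K) (hPV : P ≤ V)
    (hV : IsPGroup p V) (hVK : V ≤ K) : V ≤ P := by
  obtain ⟨S, hS⟩ := h.exists_sylow
  have h1 : V.subgroupOf K = (S : Subgroup K) :=
    S.3 hV.comap_subtype (by rw [hS]; exact comap_mono hPV)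
  rw [← map_subgroupOf_eq_of_le hVK, h1, hS]
  exact map_subgroupOf_eq_of_le h.1 |>.le

/-- Normalizers grow in `p`-groups. -/
theorem exists_gt_normalizing {U K : Subgroup G} (hU : IsPGroup p U) (hUK : U ≤ K)
    (hns : ¬ IsSylowIn p U K) :
    ∃ R, U < R ∧ R ≤ K ∧ IsPGroup p R ∧ R ≤ normalizer (U : Set G) := by
  obtain ⟨P, hUP, hP⟩ := exists_sylowIn_ge hU hUK
  have hlt : U < P := lt_of_le_of_ne hUP fun e => hns (e ▸ hP)
  haveI : Group.IsNilpotent P := hP.2.1.isNilpotent
  have h1 : U.subgroupOf P < normalizer (U.subgroupOf P : Set P) :=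
    Group.normalizerCondition_of_isNilpotent _ (lt_top_iff_ne_top.2 fun e =>
      hlt.not_ge (subgroupOf_eq_top.1 e))
  refine ⟨(normalizer (U.subgroupOf P : Set P)).map P.subtype, ?_,
    (map_subtype_le _).trans hP.1, hP.2.1.to_le (map_subtype_le _), ?_⟩
  · conv_lhs => rw [← map_subgroupOf_eq_of_le hUP]
    exact (map_lt_map_iff_of_injective P.subtype_injective).2 h1
  · refine (le_normalizer_map _).trans ?_
    rw [map_subgroupOf_eq_of_le hUP]

/-! ### `Y`-minimal groups -/

section minimal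

variable {Y L₀ : Subgroup G}

theorem le_of_ne_top (hL₀ : IsCoatom L₀) (hY : Y ≤ L₀) (hmin : IsMinimalOver Y) {X : Subgroup G}
    (hX : Y ≤ X) (hne : X ≠ ⊤) : X ≤ L₀ := by
  obtain ⟨-, M, -, huniq⟩ := hmin
  obtain ⟨N, hN, hXN⟩ := (eq_top_or_exists_le_coatom X).resolve_left hne
  rw [huniq L₀ ⟨hL₀, hY⟩, ← huniq N ⟨hN, hX.trans hXN⟩]
  exact hXN

theorem not_le_normal (hL₀ : IsCoatom L₀) (hmin : IsMinimalOver Y) {N : Subgroup G} [N.Normal]
    (hYN : Y ≤ N) : ¬ N ≤ L₀ := fun h =>
  hL₀.1 (top_le_iff.1 (hmin.1 ▸ (normalClosure_le_normal hYN).trans h))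

theorem normalizer_eq (hL₀ : IsCoatom L₀) (hY : Y ≤ L₀) (hmin : IsMinimalOver Y) :
    normalizer (L₀ : Set G) = L₀ := by
  refine le_antisymm (le_of_ne_top hL₀ hY hmin (hY.trans le_normalizer) fun e => ?_) le_normalizer
  haveI : L₀.Normal := normalizer_eq_top_iff.1 e
  exact not_le_normal hL₀ hmin hY le_rfl

theorem sup_conj_eq_top (hL₀ : IsCoatom L₀) (hY : Y ≤ L₀) (hmin : IsMinimalOver Y) {g : G}
    (hg : g ∉ L₀) : Y ⊔ Y.map (MulAut.conj g).toMonoidHom = ⊤ := by
  by_contra hne
  have h1 : Y.map (MulAut.conj g).toMonoidHom ≤ L₀ :=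
    le_sup_right.trans (le_of_ne_top hL₀ hY hmin le_sup_left hne)
  have h2 : L₀.map (MulAut.conj g⁻¹).toMonoidHom ≤ L₀ := by
    refine le_of_ne_top hL₀ hY hmin (conj_le_iff.1 h1) fun e => hL₀.1 ?_
    have := congrArg (fun K : Subgroup G => K.map (MulAut.conj g).toMonoidHom) e
    simp only [conj_conj, mul_inv_cancel, conj_one] at this
    rw [this]
    exact map_top_of_surjective _ (MulAut.conj g).surjective
  rw [← normalizer_eq hL₀ hY hmin] at hg
  exact hg (by simpa using inv_mem (mem_normalizer_of_conj_le h2))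

theorem inf_conj_eq (hL₀ : IsCoatom L₀) (hY : Y ≤ L₀) (hmin : IsMinimalOver Y)
    (hYa : IsMulCommutative Y) {g : G} (hg : g ∉ L₀) :
    Y ⊓ Y.map (MulAut.conj g).toMonoidHom = Y ⊓ center G := by
  refine le_antisymm (le_inf inf_le_left fun z hz => mem_center_iff.2 fun x => ?_) ?_
  · have h : (⊤ : Subgroup G) ≤ centralizer ({z} : Set G) := by
      rw [← sup_conj_eq_top hL₀ hY hmin hg]
      refine sup_le (fun y hy => mem_centralizer_singleton_iff.2 (setLike_mul_comm (s := Y) hy hz.1))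
        fun y hy => mem_centralizer_singleton_iff.2 ?_
      obtain ⟨y, hy, rfl⟩ := hy
      obtain ⟨w, hw, hwz⟩ := hz.2
      rw [← hwz, ← map_mul, setLike_mul_comm (s := Y) hy hw, map_mul]
    exact mem_centralizer_singleton_iff.1 (h (mem_top x))
  · rintro z ⟨hz, hc⟩
    refine ⟨hz, mem_conj.2 ?_⟩
    rwa [mul_assoc, ← mem_center_iff.1 hc g, inv_mul_cancel_left]

theorem pCore_le (hL₀ : IsCoatom L₀) (hY : Y ≤ L₀) (hmin : IsMinimalOver Y)
    (hYp : IsPGroup p Y) : pCore p G ≤ L₀ := by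
  haveI := Solvable.pCore_normal p (G := G)
  refine le_sup_right.trans (le_of_ne_top hL₀ hY hmin (le_sup_left (b := pCore p G)) fun e => ?_)
  have hG : IsPGroup p (⊤ : Subgroup G) :=
    e ▸ hYp.to_sup_of_normal_right (Solvable.isPGroup_pCore p)
  haveI := (PGroupBasic.coatom_normal_index (p := p)
    (hG.of_equiv Subgroup.topEquiv) hL₀).1
  exact not_le_normal hL₀ hmin hY le_rfl

variable {P : Subgroup G}

theorem normalizer_sylow_le (hL₀ : IsCoatom L₀) (hmin : IsMinimalOver Y)
    (hP : IsSylowIn p P L₀) (hYP : Y ≤ P) : normalizer (P : Set G) ≤ L₀ := by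
  refine le_of_ne_top hL₀ (hYP.trans hP.1) hmin (hYP.trans le_normalizer) fun e => ?_
  haveI : P.Normal := normalizer_eq_top_iff.1 e
  exact not_le_normal hL₀ hmin hYP hP.1

theorem sylowIn_top (hL₀ : IsCoatom L₀) (hmin : IsMinimalOver Y)
    (hP : IsSylowIn p P L₀) (hYP : Y ≤ P) : IsSylowIn p P ⊤ := by
  by_contra hns
  obtain ⟨R, hPR, -, hR, hRn⟩ := exists_gt_normalizing hP.2.1 le_top hns
  exact hPR.not_ge (hP.le_of_le hPR.le hR
    (hRn.trans (normalizer_sylow_le hL₀ hmin hP hYP)))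

theorem sylow_inf_normal (hL₀ : IsCoatom L₀) (hmin : IsMinimalOver Y)
    (hP : IsSylowIn p P L₀) (hYP : Y ≤ P) (N : Subgroup G) [N.Normal] (hN : N ≤ L₀) :
    ∀ x ∈ N, ∀ k : ℕ, x ^ p ^ k = 1 → x ∈ pCore p G := by
  obtain ⟨S, hS⟩ := (sylowIn_top hL₀ hmin hP hYP).exists_sylow
  have hP' : ∃ T : Sylow p G, (T : Subgroup G) = P :=
    ⟨hP.2.1.toSylow (by simpa using (sylowIn_top hL₀ hmin hP hYP).2.2), rfl⟩
  obtain ⟨T, rfl⟩ := hP'
  set W := (T : Subgroup G) ⊓ N
  have hWn : (T : Subgroup G) ≤ normalizer (W : Set G) :=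
    CharP.sylow_le_normalizer_inf T N le_normalizer_of_normal
  have hW : normalizer (W : Set G) = ⊤ := by
    by_contra hne
    have h1 := le_of_ne_top hL₀ (hYP.trans hP.1) hmin (hYP.trans hWn) hne
    exact hL₀.1 (top_le_iff.1 ((CharP.normalizer_inf_sup T N).ge.trans (sup_le h1 hN)))
  have hWQ : W ≤ pCore p G :=
    Solvable.le_pCore p (normalizer_eq_top_iff.1 hW) (T.isPGroup'.to_le inf_le_left)
  intro x hx k hk
  haveI := Solvable.pCore_normal p (G := G)
  obtain ⟨R, hR⟩ := (CharP.isPGroup_zpowers hk).exists_le_sylow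
  obtain ⟨g, rfl⟩ := MulAction.exists_smul_eq G T R
  have hxT := hR (mem_zpowers x)
  rw [Sylow.coe_subgroup_smul] at hxT
  obtain ⟨t, ht, rfl⟩ := hxT
  refine Normal.conj_mem inferInstance t (hWQ ⟨ht, ?_⟩) g
  have := (inferInstance : N.Normal).conj_mem _ hx g⁻¹
  simpa [mul_assoc] using this

theorem normalCore_frattini (hL₀ : IsCoatom L₀) (hmin : IsMinimalOver Y)
    (hP : IsSylowIn p P L₀) (hYP : Y ≤ P) :
    (L₀.normalCore).map (QuotientGroup.mk' (pCore p G)) = frattini (G ⧸ pCore p G) := by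
  haveI := Solvable.pCore_normal p (G := G)
  set Q := pCore p G
  set π := QuotientGroup.mk' Q
  have hπ : Function.Surjective π := QuotientGroup.mk'_surjective Q
  have hQ : Q ≤ L₀ := pCore_le hL₀ (hYP.trans hP.1) hmin (hP.2.1.to_le hYP)
  refine le_antisymm ?_ ?_
  · refine le_iInf fun K => le_iInf fun hK => ?_
    rw [map_le_iff_le_comap]
    set M := K.comap π with hM
    by_contra hDM
    have hMc : IsCoatom M := isCoatom_comap_of_surjective hπ hK
    have hsup : L₀.normalCore ⊔ M = ⊤ := hMc.2 _ (lt_of_le_of_ne le_sup_right fun e =>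
      hDM (le_sup_left.trans e.ge))
    have hQM : Q ≤ M := fun x hx => by
      rw [hM, mem_comap, show π x = 1 from (QuotientGroup.eq_one_iff x).2 hx]; exact one_mem K
    set D := L₀.normalCore
    have hDM' : ¬ p ∣ (M ⊓ D).relIndex D := by
      obtain ⟨R, -, hR⟩ := exists_sylowIn_ge (IsPGroup.of_bot (p := p) (G := G)) (bot_le (a := D))
      refine fun h => hR.2.2 (h.trans (relIndex_dvd_of_le_left D ?_))
      refine le_inf (fun x hx => hQM ?_) hR.1
      obtain ⟨k, hk⟩ := CharP.exists_pow_eq_one_of_mem hR.2.1 hx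
      exact sylow_inf_normal hL₀ hmin hP hYP D L₀.normalCore_le x (hR.1 hx) k hk
    have hidx : M.index = (M ⊓ D).relIndex D := by
      have hc := Solvable.card_sup_mul_card_inf (A := M) (K := D) le_normalizer_of_normal
      rw [sup_comm, hsup, card_top, ← card_mul_index M] at hc
      have h2 := relIndex_mul_relIndex ⊥ (M ⊓ D) D bot_le inf_le_right
      rw [relIndex_bot_left, relIndex_bot_left] at h2
      have h3 : 0 < Nat.card (M ⊓ D : Subgroup G) := Nat.card_pos
      have h4 : 0 < Nat.card M := Nat.card_pos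
      rw [← h2] at hc
      refine Nat.eq_of_mul_eq_mul_left (Nat.mul_pos h4 h3) ?_
      linarith [hc]
    obtain ⟨R, -, hR⟩ := exists_sylowIn_ge (IsPGroup.of_bot (p := p) (G := G)) (bot_le (a := M))
    have hRtop : IsSylowIn p R ⊤ := by
      refine ⟨le_top, hR.2.1, fun h => ?_⟩
      rw [relIndex_top_right, ← relIndex_mul_index hR.1] at h
      rcases (Fact.out : p.Prime).dvd_mul.1 h with h | h
      · exact hR.2.2 h
      · exact hDM' (hidx ▸ h)
    obtain ⟨g, -, hg⟩ := (sylowIn_top hL₀ hmin hP hYP).conj hRtop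
    have h1 : Y ≤ M.map (MulAut.conj g⁻¹).toMonoidHom :=
      hYP.trans (conj_le_iff.1 (hg.le.trans hR.1))
    have h2 : M.map (MulAut.conj g⁻¹).toMonoidHom ≠ ⊤ := fun e => hMc.1 (by
      have := congrArg (fun K : Subgroup G => K.map (MulAut.conj g).toMonoidHom) e
      simp only [conj_conj, mul_inv_cancel, conj_one] at this
      rw [this]
      exact map_top_of_surjective _ (MulAut.conj g).surjective)
    have h3 := le_of_ne_top hL₀ (hYP.trans hP.1) hmin h1 h2
    have h4 : M = L₀.map (MulAut.conj g).toMonoidHom := by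
      refine (hMc.le_iff.1 ?_).resolve_left ?_ |>.symm
      · have := conj_mono h3 g
        rwa [conj_conj, mul_inv_cancel, conj_one] at this
      · intro e
        apply hL₀.1
        have := congrArg (fun K : Subgroup G => K.map (MulAut.conj g⁻¹).toMonoidHom) e
        simp only [conj_conj, inv_mul_cancel, conj_one] at this
        rw [this]
        exact map_top_of_surjective _ (MulAut.conj g⁻¹).surjective
    refine hDM (fun d hd => ?_)
    rw [h4, mem_conj]
    apply L₀.normalCore_le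
    simpa using (inferInstance : D.Normal).conj_mem d hd g⁻¹
  · set Φ := frattini (G ⧸ Q)
    have h1 : IsCoatom (L₀.map π) := by
      refine ⟨fun e => hL₀.1 ?_, fun K hK => ?_⟩
      · have := congrArg (fun K => K.comap π) e
        rwa [comap_map_eq_self (by rw [QuotientGroup.ker_mk']; exact hQ), comap_top] at this
      · have h2 : L₀ < K.comap π := by
          refine lt_of_le_of_ne (map_le_iff_le_comap.1 hK.le) fun e => ?_
          exact hK.ne (by rw [e, map_comap_eq_self_of_surjective hπ])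
        rw [← map_comap_eq_self_of_surjective hπ K, hL₀.2 _ h2, map_top_of_surjective _ hπ]
    have h2 : Φ.comap π ≤ L₀.normalCore := by
      rw [normal_le_normalCore]
      refine (comap_mono (frattini_le_coatom h1)).trans ?_
      rw [comap_map_eq_self (by rw [QuotientGroup.ker_mk']; exact hQ)]
    rw [← map_comap_eq_self_of_surjective hπ Φ]
    exact map_mono h2

theorem normal_quotient (hL₀ : IsCoatom L₀) (hmin : IsMinimalOver Y)
    (hP : IsSylowIn p P L₀) (hYP : Y ≤ P) (N : Subgroup G) [N.Normal] (hN : N ≤ L₀) :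
    IsPClosed p N ∧ Group.IsNilpotent (N ⧸ pCore p N) ∧
      (Nat.card (N ⧸ pCore p N)).Coprime p := by
  have hx := sylow_inf_normal hL₀ hmin hP hYP N hN
  haveI := Solvable.pCore_normal p (G := G)
  haveI := Solvable.pCore_normal p (G := N)
  have hcl : IsPClosed p N := (CharP.isPClosed_normal_iff N).2 hx
  refine ⟨hcl, ?_, ?_⟩
  · set Φ := frattini (G ⧸ pCore p G)
    haveI : Group.IsNilpotent Φ := frattini_nilpotent
    have hmem : ∀ n : N, QuotientGroup.mk' (pCore p G) (n : G) ∈ Φ := fun n => by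
      have := mem_map_of_mem (QuotientGroup.mk' (pCore p G))
        (show (n : G) ∈ L₀.normalCore from normal_le_normalCore.2 hN n.2)
      rwa [normalCore_frattini hL₀ hmin hP hYP] at this
    set f : N →* Φ := ((QuotientGroup.mk' (pCore p G)).comp N.subtype).codRestrict Φ hmem
    have hker : f.ker = pCore p N := by
      ext n
      rw [MonoidHom.mem_ker]
      have h1 := CharP.pCore_inf_normal (p := p) N
      constructor
      · intro hn
        have h2 : (n : G) ∈ (pCore p N).map N.subtype := by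
          rw [h1]
          exact ⟨(QuotientGroup.eq_one_iff _).1 (congrArg Subtype.val hn), n.2⟩
        obtain ⟨m, hm, hmn⟩ := h2
        rwa [← Subtype.ext hmn]
      · intro hn
        have h2 := mem_map_of_mem N.subtype hn
        rw [h1] at h2
        exact Subtype.ext ((QuotientGroup.eq_one_iff _).2 h2.1)
    have e : N ⧸ pCore p N ≃* f.range :=
      (QuotientGroup.quotientMulEquivOfEq hker.symm).trans (QuotientGroup.quotientKerEquivRange f)
    exact Group.nilpotent_of_mulEquiv e.symm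
  · refine ((Fact.out : p.Prime).coprime_iff_not_dvd.2 fun h => ?_).symm
    obtain ⟨T⟩ : Nonempty (Sylow p N) := inferInstance
    refine T.not_dvd_index ?_
    rw [show (T : Subgroup N) = pCore p N from le_antisymm
      (Solvable.le_pCore p (hcl T) T.isPGroup') (Fitting.pCore_le_sylow T)]
    exact h

theorem closure_facts (hL₀ : IsCoatom L₀) (hY : Y ≤ L₀) (hYel : IsElementaryAbelian p Y)
    (hmin : IsMinimalOver Y) (hOY : pCore p G ≤ normalizer (Y : Set G)) (A : Subgroup G)
    (hA : A = normalClosure ((pCore p G ⊓ Y : Subgroup G) : Set G)) {g : G} (hg : g ∉ L₀) :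
    (frattini ↥A).map A.subtype = ⁅A, A⁆ ∧ ⁅A, A⁆ = ⁅A ⊓ Y, A⁆ ∧
      ⁅A ⊓ Y, A⁆ = ⁅A ⊓ Y, A ⊓ Y.map (MulAut.conj g).toMonoidHom⁆ ∧
      ⁅A ⊓ Y, A⁆ ≤ Y ⊓ center G ∧
      Y ⊓ Y.map (MulAut.conj g).toMonoidHom = Y ⊓ center G ∧
      (A ⊓ Y) ⊓ (A ⊓ Y.map (MulAut.conj g).toMonoidHom) = Y ⊓ center G ∧
      A ⊓ center G = Y ⊓ center G := by
  haveI := hYel.1
  haveI := Solvable.pCore_normal p (G := G)
  set Q := pCore p G
  set Y₁ := Q ⊓ Y with hY₁
  set Y' := Y.map (MulAut.conj g).toMonoidHom with hY'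
  set Y₂ := Y₁.map (MulAut.conj g).toMonoidHom with hY₂
  haveI : IsMulCommutative Y' := inferInstance
  have hinf : Y ⊓ Y' = Y ⊓ center G := inf_conj_eq hL₀ hY hmin hYel.1 hg
  have htop : Y ⊔ Y' = ⊤ := sup_conj_eq_top hL₀ hY hmin hg
  have hOY' : Q ≤ normalizer (Y' : Set G) := by
    refine le_trans ?_ (le_normalizer_map _)
    intro q hq
    exact ⟨g⁻¹ * q * g, hOY (by simpa using (inferInstance : Q.Normal).conj_mem q hq g⁻¹),
      by simp [mul_assoc]⟩
  have hY₂eq : Y₂ = Q ⊓ Y' := by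
    rw [hY₂, hY₁, Subgroup.map_inf _ _ _ (MulAut.conj g).injective,
      conj_eq_self (le_normalizer_of_normal (H := Q) (mem_top g))]
  have hkey : ∀ {Z : Subgroup G}, Q ≤ normalizer (Z : Set G) → ∀ z ∈ Z, ∀ q ∈ Q,
      z * q * z⁻¹ * q⁻¹ ∈ Q ⊓ Z := fun {Z} hZ z hz q hq =>
    Subgroup.mem_inf.2 ⟨mul_mem ((inferInstance : Q.Normal).conj_mem q hq z) (inv_mem hq), by
      have := mul_mem hz ((mem_normalizer_iff.1 (hZ hq) z⁻¹).1 (inv_mem hz))
      simpa [mul_assoc] using this⟩
  have hB : ∀ {Z : Subgroup G}, Q ≤ normalizer (Z : Set G) → Q ⊓ Z ≤ Y₁ ⊔ Y₂ →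
      Z ≤ normalizer ((Y₁ ⊔ Y₂ : Subgroup G) : Set G) := by
    intro Z hZ hle z hz
    refine mem_normalizer_of_conj_le ?_
    rintro _ ⟨b, hb, rfl⟩
    have hbQ : b ∈ Q := (sup_le inf_le_left (hY₂eq ▸ inf_le_left) : Y₁ ⊔ Y₂ ≤ Q) hb
    show z * b * z⁻¹ ∈ _
    have := mul_mem (hle (hkey hZ z hz b hbQ)) hb
    simpa [mul_assoc] using this
  have hAB : A = Y₁ ⊔ Y₂ := by
    refine le_antisymm ?_ (sup_le (hA ▸ subset_normalClosure) ?_)
    · haveI : (Y₁ ⊔ Y₂).Normal := normalizer_eq_top_iff.1 (top_le_iff.1 (by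
        rw [← htop]
        exact sup_le (hB hOY le_sup_left) (hB hOY' (hY₂eq ▸ le_sup_right))))
      rw [hA]
      exact normalClosure_le_normal (SetLike.coe_subset_coe.2 le_sup_left)
    · rw [hA]
      rintro _ ⟨y, hy, rfl⟩
      exact normalClosure_normal.conj_mem y (subset_normalClosure hy) g
  have hAQ : A ≤ Q := hAB ▸ sup_le inf_le_left (hY₂eq ▸ inf_le_left)
  have hAY : A ⊓ Y = Y₁ := le_antisymm (inf_le_inf_right _ hAQ)
    (le_inf (hAB ▸ le_sup_left) inf_le_right)
  have hAY' : A ⊓ Y' = Y₂ := le_antisymm (hY₂eq ▸ inf_le_inf_right _ hAQ)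
    (le_inf (hAB ▸ le_sup_right) (hY₂eq ▸ inf_le_right))
  set C := ⁅Y₁, Y₂⁆ with hC
  have hCle : C ≤ Y ⊓ center G := by
    rw [← hinf, hC, commutator_le]
    intro a ha b hb
    rw [hY₂eq] at hb
    refine Subgroup.mem_inf.2 ⟨?_, ?_⟩
    · have := mul_mem ha.2 ((mem_normalizer_iff.1 (hOY hb.1) a⁻¹).1 (inv_mem ha.2))
      simpa [commutatorElement_def, mul_assoc] using this
    · exact mul_mem ((mem_normalizer_iff.1 (hOY' ha.1) b).1 hb.2) (inv_mem hb.2)
  haveI hCn : C.Normal := ⟨fun c hc x => by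
    rwa [mem_center_iff.1 (hCle hc).2 x, mul_inv_cancel_right]⟩
  have hcomm : ∀ a ∈ A, ∀ b ∈ A, Commute (QuotientGroup.mk' C a) (QuotientGroup.mk' C b) := by
    have h0 : ∀ a ∈ Y₁, ∀ b ∈ Y₂, Commute (QuotientGroup.mk' C a) (QuotientGroup.mk' C b) := by
      intro a ha b hb
      rw [← commutatorElement_eq_one_iff_commute, ← map_commutatorElement]
      exact (QuotientGroup.eq_one_iff _).2 (commutator_mem_commutator ha hb)
    have hle : A.map (QuotientGroup.mk' C) ≤
        centralizer ((A.map (QuotientGroup.mk' C) : Subgroup _) : Set _) := by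
      rw [hAB, Subgroup.map_sup, sup_le_iff]
      constructor
      · rintro _ ⟨a, ha, rfl⟩
        rw [← Subgroup.map_sup]
        refine mem_centralizer_iff.2 ?_
        rintro _ ⟨b, hb, rfl⟩
        have : (Y₁ ⊔ Y₂).map (QuotientGroup.mk' C) ≤
            centralizer ({QuotientGroup.mk' C a} : Set _) := by
          rw [Subgroup.map_sup, sup_le_iff]
          constructor <;> rintro _ ⟨c, hc, rfl⟩ <;> refine mem_centralizer_singleton_iff.2 ?_
          · rw [← map_mul, ← map_mul, setLike_mul_comm (s := Y) hc.2 ha.2]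
          · exact (h0 a ha c hc).symm.eq
        exact mem_centralizer_singleton_iff.1 (this (mem_map_of_mem _ hb))
      · rintro _ ⟨a, ha, rfl⟩
        rw [← Subgroup.map_sup]
        refine mem_centralizer_iff.2 ?_
        rintro _ ⟨b, hb, rfl⟩
        have : (Y₁ ⊔ Y₂).map (QuotientGroup.mk' C) ≤
            centralizer ({QuotientGroup.mk' C a} : Set _) := by
          rw [Subgroup.map_sup, sup_le_iff]
          constructor <;> rintro _ ⟨c, hc, rfl⟩ <;> refine mem_centralizer_singleton_iff.2 ?_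
          · exact (h0 c hc a ha).eq
          · rw [hY₂eq] at hc ha
            rw [← map_mul, ← map_mul, setLike_mul_comm (s := Y') hc.2 ha.2]
        exact mem_centralizer_singleton_iff.1 (this (mem_map_of_mem _ hb))
    exact fun a ha b hb =>
      (mem_centralizer_iff.1 (hle (mem_map_of_mem _ ha)) _ (mem_map_of_mem _ hb)).symm
  have hY₁A : Y₁ ≤ A := hAB ▸ le_sup_left
  have hY₂A : Y₂ ≤ A := hAB ▸ le_sup_right
  have hAA : ⁅A, A⁆ = C := by
    refine le_antisymm (commutator_le.2 fun a ha b hb => ?_) (commutator_mono hY₁A hY₂A)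
    refine (QuotientGroup.eq_one_iff _).1 ?_
    show QuotientGroup.mk' C ⁅a, b⁆ = 1
    rw [map_commutatorElement, commutatorElement_eq_one_iff_commute]
    exact hcomm a ha b hb
  have hY₁A' : ⁅Y₁, A⁆ = C :=
    le_antisymm ((commutator_mono hY₁A le_rfl).trans hAA.le) (commutator_mono le_rfl hY₂A)
  have hCA : C ≤ A := hAA ▸ commutator_le_self A
  have hΦ : (frattini ↥A).map A.subtype = ⁅A, A⁆ := by
    have he : (commutator ↥A).map A.subtype = ⁅A, A⁆ := by
      rw [_root_.commutator_def, Subgroup.map_commutator, ← MonoidHom.range_eq_map, range_subtype]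
    refine le_antisymm ?_ (he ▸ map_mono (PGroupBasic.commutator_pow_le_frattini
      ((Solvable.isPGroup_pCore p).to_le hAQ)).1)
    rw [hAA, map_le_iff_le_comap]
    refine PGroupBasic.frattini_le_of_elementary (p := p) (C.subgroupOf A) ?_ fun x => ?_
    · intro x hx
      exact mem_subgroupOf.2 (hAA ▸ he ▸ mem_map_of_mem A.subtype hx)
    · refine mem_subgroupOf.2 ((QuotientGroup.eq_one_iff _).1 ?_)
      show QuotientGroup.mk' C ((x : G) ^ p) = 1
      have hx : (x : G) ∈ Y₁ ⊔ Y₂ := hAB ▸ x.2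
      rw [sup_eq_closure] at hx
      rw [map_pow]
      generalize (x : G) = y at hx ⊢
      induction hx using Subgroup.closure_induction (k := ((Y₁ : Set G) ∪ Y₂)) with
      | mem y hy =>
        rw [← map_pow]
        rcases hy with hy | hy
        · rw [hYel.2 y hy.2, map_one]
        · obtain ⟨w, hw, rfl⟩ := hy
          rw [← map_pow, hYel.2 w hw.2, map_one, map_one]
      | one => simp
      | mul a b ha hb iha ihb =>
        rw [← sup_eq_closure, ← hAB] at ha hb
        rw [map_mul, (hcomm a ha b hb).mul_pow, iha, ihb, one_mul]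
      | inv a _ iha => rw [map_inv, inv_pow, iha, inv_one]
  have hcen : A ⊓ center G = Y ⊓ center G := by
    have hYc : Y ⊓ center G ≤ A := by
      haveI : (Y ⊓ center G).Normal := ⟨fun z hz x => by
        rwa [mem_center_iff.1 hz.2 x, mul_inv_cancel_right]⟩
      have hYp : IsPGroup p Y := fun y => ⟨1, Subtype.ext (by simpa using hYel.2 y y.2)⟩
      exact (le_inf (Solvable.le_pCore p inferInstance (hYp.to_le inf_le_left)) inf_le_left).trans
        hY₁A
    refine le_antisymm (fun z hz => ?_) (le_inf hYc inf_le_right)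
    rw [hAB] at hz
    obtain ⟨hzA, hzc⟩ := hz
    have hn : Y₁ ≤ normalizer (Y₂ : Set G) := by
      rw [hY₂eq]
      exact (le_inf (le_normalizer.trans' inf_le_left) (inf_le_left.trans hOY')).trans
        (inf_normalizer_le_normalizer_inf)
    replace hzA : z ∈ ((Y₁ ⊔ Y₂ : Subgroup G) : Set G) := hzA
    rw [coe_mul_of_left_le_normalizer_right _ _ hn] at hzA
    obtain ⟨a, ha, b, hb, hab⟩ := hzA
    rw [hY₂eq] at hb
    have hbz : b = a⁻¹ * z := by rw [← hab, inv_mul_cancel_left]
    have hbc : b ∈ center G := mem_center_iff.2 fun x => by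
      have : (⊤ : Subgroup G) ≤ centralizer ({b} : Set G) := by
        rw [← htop]
        refine sup_le (fun y hy => mem_centralizer_singleton_iff.2 ?_) fun y hy =>
          mem_centralizer_singleton_iff.2 (setLike_mul_comm (s := Y') hy hb.2)
        rw [hbz, ← mul_assoc, setLike_mul_comm (s := Y) hy (inv_mem ha.2), mul_assoc, mul_assoc,
          mem_center_iff.1 hzc y]
      exact mem_centralizer_singleton_iff.1 (this (mem_top x))
    have hbY : b ∈ Y := by
      have := mem_conj.1 hb.2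
      rwa [mul_assoc, ← mem_center_iff.1 hbc g, inv_mul_cancel_left] at this
    exact Subgroup.mem_inf.2 ⟨hab ▸ mul_mem ha.2 hbY, hzc⟩
  refine ⟨hΦ, hAA.trans (hAY.symm ▸ hY₁A'.symm), ?_, ?_, hinf, ?_, hcen⟩
  · rw [hAY, hAY', hY₁A']
  · rw [hAY, hY₁A']; exact hCle
  · rw [← inf_inf_distrib_left, hinf, ← hcen, ← inf_assoc, inf_idem]

end minimal

end CfsgLib.YMinimal
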