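import Cfsg.Agent.CharP.LargestPReducedOf
import Cfsg.Agent.LocalB.CharP
import Cfsg.Agent.Transfer.Basic
import Cfsg.Agent.Solvable.PGroupBasic
import Cfsg.Agent.S2824

/-!
The families `𝓛_H`, `𝓜_H`, `𝔐_H`: the basic property, and large subgroups.
-/

set_option autoImplicit false
set_option linter.style.haveILetI false
set_option linter.unusedSectionVars false

namespace CfsgLib.FrakM

open Subgroup CfsgLib CfsgLib.CharP

variable {H : Type*} [Group H] [Finite H] {p : ℕ} [hp : Fact p.Prime]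

theorem conj_mem_centralizer {Y : Subgroup H} {g c : H} (hg : g ∈ normalizer (Y : Set H))
    (hc : c ∈ centralizer (Y : Set H)) : g * c * g⁻¹ ∈ centralizer (Y : Set H) := by
  refine mem_centralizer_iff.2 fun y hy => ?_
  have h1 : g⁻¹ * y * g ∈ Y := by simpa using (mem_normalizer_iff.1 (inv_mem hg) y).1 hy
  calc y * (g * c * g⁻¹) = g * ((g⁻¹ * y * g) * c) * g⁻¹ := by simp [mul_assoc]
    _ = g * c * g⁻¹ * y := by rw [mem_centralizer_iff.1 hc _ h1]; simp [mul_assoc]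

theorem centralizer_le_normalizer (Y : Subgroup H) :
    centralizer (Y : Set H) ≤ normalizer (Y : Set H) := fun c hc => by
  have key : ∀ d ∈ centralizer (Y : Set H), ∀ y ∈ Y, d * y * d⁻¹ ∈ Y := fun d hd y hy => by
    rwa [← mem_centralizer_iff.1 hd y hy, mul_inv_cancel_right]
  refine mem_normalizer_iff.2 fun y => ⟨key c hc y, fun hy => ?_⟩
  simpa [mul_assoc] using key c⁻¹ (inv_mem hc) _ hy

theorem normalizer_le_normalizer_centralizer (Y : Subgroup H) :
    normalizer (Y : Set H) ≤ normalizer (centralizer (Y : Set H) : Set H) := fun g hg => by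
  refine mem_normalizer_iff.2 fun c => ⟨conj_mem_centralizer hg, fun hc => ?_⟩
  simpa [mul_assoc] using conj_mem_centralizer (inv_mem hg) hc

/-- Elements of `L·C`, for `L` normalizing `C`. -/
theorem exists_mul_of_mem_sup {L C : Subgroup H} (hLC : L ≤ normalizer (C : Set H)) {x : H}
    (hx : x ∈ L ⊔ C) : ∃ l ∈ L, ∃ c ∈ C, x = l * c := by
  rw [← SetLike.mem_coe, coe_mul_of_left_le_normalizer_right L C hLC] at hx
  obtain ⟨l, hl, c, hc, rfl⟩ := hx
  exact ⟨l, hl, c, hc, rfl⟩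

theorem inner_charP {L : Subgroup H} (hL : L ∈ Cfsg.charPSubgroups p H) :
    centralizer (Cfsg.pCore p ↥L : Set ↥L) ≤ Cfsg.pCore p ↥L := by
  intro x hx
  obtain ⟨y, hy, he⟩ := hL.2 (mem_centralizer_of_subtype.1 hx)
  exact Subtype.ext he ▸ hy

theorem le_pCoreOf {L A : Subgroup H} (hAL : A ≤ L) (hA : IsPGroup p A)
    (hn : L ≤ normalizer (A : Set H)) : A ≤ Cfsg.pCoreOf p L :=
  LocalB.le_opIn hAL hA hn

theorem le_normalizer_pCoreOf (L : Subgroup H) : L ≤ normalizer (Cfsg.pCoreOf p L : Set H) :=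
  LocalB.le_normalizer_opIn L

theorem isPGroup_pCoreOf (L : Subgroup H) : IsPGroup p (Cfsg.pCoreOf p L) :=
  LocalB.isPGroup_opIn L

theorem pCoreOf_eq_bot_iff (L : Subgroup H) : Cfsg.pCoreOf p L = ⊥ ↔ Cfsg.pCore p ↥L = ⊥ :=
  Subgroup.map_eq_bot_iff_of_injective _ L.subtype_injective

/-- Overgroups of a Sylow subgroup inside a member of `𝓛_H` are members. -/
theorem charP_of_le (T : Sylow p H) {L R : Subgroup H} (hTR : (T : Subgroup H) ≤ R) (hRL : R ≤ L)
    (hL : L ∈ Cfsg.charPSubgroups p H) : R ∈ Cfsg.charPSubgroups p H := by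
  have hO : Cfsg.pCoreOf p L ≤ Cfsg.pCoreOf p R :=
    le_pCoreOf ((pCoreOf_le_sylow T (hTR.trans hRL)).trans hTR) (isPGroup_pCoreOf L)
      (hRL.trans (le_normalizer_pCoreOf L))
  refine ⟨fun h => hL.1 ?_, (centralizer_le hO).trans (hL.2.trans hO)⟩
  rw [← pCoreOf_eq_bot_iff] at h ⊢
  exact le_bot_iff.1 (h ▸ hO)

/-- The hypothesis on `p`-locals containing a fixed Sylow subgroup. -/
def LocalCharP (T : Sylow p H) : Prop :=
  ∀ R : Subgroup H, IsPGroup p R → R ≠ ⊥ → (T : Subgroup H) ≤ normalizer (R : Set H) →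
    normalizer (R : Set H) ∈ Cfsg.charPSubgroups p H

theorem localCharP_of_parabolic (hH : Cfsg.IsOfParabolicCharacteristic p H) (T : Sylow p H) :
    LocalCharP T := by
  intro R hR hR1 hT
  have hin := hH R hR hR1 ⟨T, hT⟩
  have hRO : R ≤ Cfsg.pCoreOf p (normalizer (R : Set H)) := le_pCoreOf le_normalizer hR le_rfl
  refine ⟨fun h => hR1 (le_bot_iff.1 ((pCoreOf_eq_bot_iff _).2 h ▸ hRO)), fun x hx => ?_⟩
  have hxN : x ∈ normalizer (R : Set H) := centralizer_le_normalizer R (centralizer_le hRO hx)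
  exact ⟨⟨x, hxN⟩, hin (mem_centralizer_of_subtype.2 hx), rfl⟩

theorem normalizer_le_normalizer_pCoreOf (C : Subgroup H) :
    normalizer (C : Set H) ≤ normalizer (Cfsg.pCoreOf p C : Set H) := by
  have key : ∀ g ∈ normalizer (C : Set H), ∀ x ∈ Cfsg.pCoreOf p C, g * x * g⁻¹ ∈ Cfsg.pCoreOf p C := by
    intro g hg x hx
    refine le_pCoreOf (L := C) (A := (Cfsg.pCoreOf p C).map (MulAut.conj g).toMonoidHom) ?_
      ((isPGroup_pCoreOf C).map _) ?_ ⟨x, hx, rfl⟩
    · rintro _ ⟨y, hy, rfl⟩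
      exact (mem_normalizer_iff.1 hg y).1 (LocalB.opIn_le C hy)
    · intro c hc
      have hc' : g⁻¹ * c * g ∈ C := by simpa using (mem_normalizer_iff.1 (inv_mem hg) c).1 hc
      have hN := le_normalizer_pCoreOf (p := p) C
      refine mem_normalizer_iff.2 fun y => ⟨?_, ?_⟩
      · rintro ⟨z, hz, rfl⟩
        exact ⟨g⁻¹ * c * g * z * (g⁻¹ * c * g)⁻¹, (mem_normalizer_iff.1 (hN hc') z).1 hz,
          by simp [mul_assoc]⟩
      · rintro ⟨z, hz, he⟩
        refine ⟨(g⁻¹ * c * g)⁻¹ * z * (g⁻¹ * c * g), ?_, ?_⟩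
        · have := (mem_normalizer_iff.1 (inv_mem (hN hc')) z).1 hz
          rwa [inv_inv] at this
        · have he' : g * z * g⁻¹ = c * y * c⁻¹ := he
          show g * ((g⁻¹ * c * g)⁻¹ * z * (g⁻¹ * c * g)) * g⁻¹ = y
          calc _ = c⁻¹ * (g * z * g⁻¹) * c := by simp [mul_assoc]
            _ = y := by rw [he']; simp [mul_assoc]
  exact fun g hg => mem_normalizer_iff.2 fun x => ⟨key g hg x, fun hx => by
    simpa [mul_assoc] using key g⁻¹ (inv_mem hg) _ hx⟩

theorem largestPReducedOf_isPGroup (L : Subgroup H) :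
    IsPGroup p (Cfsg.largestPReducedOf p L) :=
  (isPGroup_pCoreOf L).to_le (largestPReducedOf_le_pCoreOf L)

theorem largestPReducedOf_ne_bot (T : Sylow p H) {L : Subgroup H} (hTL : (T : Subgroup H) ≤ L)
    (hL : L ∈ Cfsg.charPSubgroups p H) : Cfsg.largestPReducedOf p L ≠ ⊥ := by
  rw [largestPReducedOf_eq_omega T L hTL (inner_charP hL) _ rfl]
  set T₀ := (T : Subgroup H) ⊓ centralizer (Cfsg.largestPReducedOf p L : Set H) with hT₀
  have hOT₀ : Cfsg.pCoreOf p L ≤ T₀ := le_inf (pCoreOf_le_sylow T hTL) (pCoreOf_le_centralizer L)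
  have hT₀ne : T₀ ≠ ⊥ := fun h => hL.1 ((pCoreOf_eq_bot_iff L).1 (le_bot_iff.1 (h ▸ hOT₀)))
  have hT₀p : IsPGroup p T₀ := T.2.to_le inf_le_left
  haveI := hT₀p.isNilpotent
  haveI : Nontrivial T₀ := (nontrivial_iff_ne_bot T₀).2 hT₀ne
  haveI := hT₀p.center_nontrivial
  obtain ⟨⟨z, hz⟩, hz1⟩ := exists_ne (1 : center T₀)
  have hzp : IsPGroup p (center T₀) := hT₀p.to_subgroup _
  obtain ⟨k, hk⟩ := IsPGroup.iff_card.1 hzp
  have hk0 : k ≠ 0 := fun h => by
    rw [h, pow_zero, card_eq_one] at hk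
    exact hz1 (Subtype.ext (by simpa [hk] using hz))
  obtain ⟨⟨w, hw⟩, hwo⟩ := exists_prime_orderOf_dvd_card' (G := center T₀) p (hk ▸ dvd_pow_self p hk0)
  intro h
  have hwo' : orderOf (w : H) = p := by
    rw [← hwo, Subgroup.orderOf_mk, Subgroup.orderOf_coe]
  have hmem : (w : H) ∈ Cfsg.omegaOne p (T₀ ⊓ centralizer (T₀ : Set H)) := by
    refine Thompson.mem_omegaOne ⟨w.2, mem_centralizer_iff.2 fun t ht => ?_⟩
      (hwo' ▸ pow_orderOf_eq_one _)
    exact congrArg Subtype.val (mem_center_iff.1 hw ⟨t, ht⟩)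
  rw [h, mem_bot] at hmem
  rw [hmem, orderOf_one] at hwo'
  exact hp.out.ne_one hwo'.symm

/-- Images of `p`-reduced normal subgroups under isomorphisms. -/
theorem isPReducedNormal_map {A B : Type*} [Group A] [Group B] [Finite A] [Finite B] (e : A ≃* B)
    {V : Subgroup A} (hV : Cfsg.IsPReducedNormal p V) :
    Cfsg.IsPReducedNormal p (V.map e.toMonoidHom) := by
  refine isPReducedNormal_of (hV.1.map _ e.surjective) ⟨⟨⟨?_⟩⟩, ?_⟩ fun N hN hq => ?_
  · rintro ⟨_, a, ha, rfl⟩ ⟨_, b, hb, rfl⟩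
    refine Subtype.ext ?_
    show e.toMonoidHom a * e.toMonoidHom b = e.toMonoidHom b * e.toMonoidHom a
    haveI := hV.2.1.1
    rw [← map_mul, ← map_mul, setLike_mul_comm (s := V) ha hb]
  · rintro _ ⟨a, ha, rfl⟩
    rw [← map_pow, hV.2.1.2 a ha, map_one]
  have hc : ∀ x : A, x ∈ centralizer (V : Set A) ↔
      e x ∈ centralizer ((V.map e.toMonoidHom : Subgroup B) : Set B) := fun x => by
    rw [mem_centralizer_iff, mem_centralizer_iff]
    constructor
    · rintro h _ ⟨a, ha, rfl⟩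
      show e a * e x = e x * e a
      rw [← map_mul, ← map_mul, h a ha]
    · intro h a ha
      refine e.injective ?_
      rw [map_mul, map_mul]
      exact h _ ⟨a, ha, rfl⟩
  intro b hb
  obtain ⟨a, rfl⟩ := e.surjective b
  refine (hc a).1 (IsPReducedNormal.le_centralizer hV (N.comap e.toMonoidHom) (hN.comap _) (fun x hx => ?_) hb)
  obtain ⟨k, hk⟩ := hq _ hx
  exact ⟨k, (hc _).2 (by rw [map_pow]; exact hk)⟩

/-- `Y_R ≤ Y_L` for `T ≤ R ≤ L`. -/
theorem largestPReducedOf_mono (T : Sylow p H) {L R : Subgroup H} (hTR : (T : Subgroup H) ≤ R)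
    (hRL : R ≤ L) (hL : L ∈ Cfsg.charPSubgroups p H) :
    Cfsg.largestPReducedOf p R ≤ Cfsg.largestPReducedOf p L := by
  set e := (subgroupOfEquivOfLe hRL).symm with he
  set X := (Cfsg.largestPReduced p R).map e.toMonoidHom with hX
  have hXr : Cfsg.IsPReducedNormal p X := isPReducedNormal_map e largestPReduced_spec.1
  have hTR' : ((T.subtype (hTR.trans hRL) : Sylow p L) : Subgroup L) ≤ R.subgroupOf L := fun x hx =>
    hTR hx
  have hW := le_largestPReduced (normalClosure_isPReduced (inner_charP hL)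
    (T.subtype (hTR.trans hRL)) (R.subgroupOf L) hTR' X hXr)
  rintro _ ⟨y, hy, rfl⟩
  exact ⟨⟨y, hRL y.2⟩, hW (subset_normalClosure ⟨e y, ⟨y, hy, rfl⟩, rfl⟩), rfl⟩

theorem exists_max_above {L : Subgroup H} (hL : L ∈ Cfsg.charPSubgroups p H) :
    ∃ X ∈ Cfsg.maxCharPSubgroups p H, L ≤ X := by
  obtain ⟨X, ⟨hX, hLX⟩, hmax⟩ := (Set.toFinite {X : Subgroup H | X ∈ Cfsg.charPSubgroups p H ∧ L ≤ X}).exists_maximalFor
    id _ ⟨L, hL, le_rfl⟩
  exact ⟨X, ⟨hX, fun Z hZ hXZ => le_antisymm (hmax ⟨hZ, hLX.trans hXZ⟩ hXZ) hXZ⟩, hLX⟩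

theorem normalizer_eq_of_max (T : Sylow p H) (hloc : LocalCharP T) {X : Subgroup H}
    (hX : X ∈ Cfsg.maxCharPSubgroups p H) (hTX : (T : Subgroup H) ≤ X) :
    normalizer (Cfsg.largestPReducedOf p X : Set H) = X :=
  hX.2 _ (hloc _ (largestPReducedOf_isPGroup X) (largestPReducedOf_ne_bot T hTX hX.1)
    (hTX.trans (le_normalizer_largestPReducedOf X))) (le_normalizer_largestPReducedOf X)

theorem isPClosed_of_normal_sylow {D : Subgroup H} {P : Subgroup H} (hPD : P ≤ D)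
    (hP : IsPGroup p P) (hn : D ≤ normalizer (P : Set H)) (hidx : ¬ p ∣ P.relIndex D) :
    Cfsg.IsPClosed p ↥D := by
  set Q : Sylow p D := (hP.of_equiv (subgroupOfEquivOfLe hPD).symm).toSylow hidx with hQ
  haveI hQn : (Q : Subgroup D).Normal := normal_subgroupOf_of_le_normalizer hn
  haveI := Sylow.unique_of_normal Q hQn
  exact fun P' => (Subsingleton.elim Q P') ▸ hQn

/-- **The basic property**: the construction of a member of `𝔐_H`. -/
theorem exists_frakM (T : Sylow p H) (hloc : LocalCharP T) {L : Subgroup H}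
    (hTL : (T : Subgroup H) ≤ L) (hL : L ∈ Cfsg.charPSubgroups p H) :
    ∃ M Ls : Subgroup H, (T : Subgroup H) ≤ M ∧ Cfsg.IsInFrakM p M ∧ (T : Subgroup H) ≤ Ls ∧
      Ls ≤ M ∧ Ls ∈ Cfsg.charPSubgroups p H ∧
      Cfsg.largestPReducedOf p L = Cfsg.largestPReducedOf p Ls ∧
      Cfsg.largestPReducedOf p L ≤ Cfsg.largestPReducedOf p M ∧
      L ⊔ centralizer (Cfsg.largestPReducedOf p L : Set H) =
        Ls ⊔ centralizer (Cfsg.largestPReducedOf p L : Set H) := by
  classical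
  set Y := Cfsg.largestPReducedOf p L with hY
  set C := centralizer (Y : Set H) with hC
  have hNC : L ≤ normalizer (C : Set H) :=
    (le_normalizer_largestPReducedOf L).trans (normalizer_le_normalizer_centralizer Y)
  set T₀ := (T : Subgroup H) ⊓ C with hT₀
  -- replacing a subgroup with the same image by one with the same `Y`
  have hadj : ∀ Ls : Subgroup H, (T : Subgroup H) ≤ Ls → Ls ∈ Cfsg.charPSubgroups p H →
      Ls ⊔ C = L ⊔ C → ∃ Ls' ≤ Ls, (T : Subgroup H) ≤ Ls' ∧ Ls' ∈ Cfsg.charPSubgroups p H ∧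
        Cfsg.largestPReducedOf p Ls' = Y ∧ L ⊔ C = Ls' ⊔ C := by
    intro Ls hT' hLs' he
    have hTLs : (T : Subgroup H) ≤ Ls ⊓ normalizer (T₀ : Set H) :=
      le_inf hT' (sylow_le_normalizer_inf T C (hTL.trans hNC))
    exact ⟨_, inf_le_left, hTLs, charP_of_le T hTLs inf_le_left hLs',
      Cfsg.Agent.S2824.result T L Ls hTL hT' (inner_charP hL) (inner_charP hLs') T₀ rfl he _ rfl⟩
  obtain ⟨X₁, hX₁, hLX₁⟩ := exists_max_above hL
  obtain ⟨X, ⟨hX, hTX, Ls₀, hLs₀X, hTLs₀, hLs₀e⟩, hXmax⟩ :=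
    (Set.toFinite {X : Subgroup H | X ∈ Cfsg.maxCharPSubgroups p H ∧ (T : Subgroup H) ≤ X ∧
      ∃ Ls ≤ X, (T : Subgroup H) ≤ Ls ∧ Ls ⊔ C = L ⊔ C}).exists_maximalFor
      (fun X => Nat.card (Cfsg.largestPReducedOf p X)) _
      ⟨X₁, hX₁, hTL.trans hLX₁, L, hLX₁, hTL, rfl⟩
  set Y' := Cfsg.largestPReducedOf p X with hY'
  set C' := centralizer (Y' : Set H) with hC'
  have hNX := normalizer_eq_of_max T hloc hX hTX
  rw [← hY'] at hNX
  have hC'X : C' ≤ X := (centralizer_le_normalizer Y').trans hNX.le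
  have hXNC : X ≤ normalizer (C' : Set H) := hNX.ge.trans (normalizer_le_normalizer_centralizer Y')
  obtain ⟨Ls₁, hLs₁, hTLs₁, hLs₁c, hLs₁Y, hLs₁e⟩ :=
    hadj Ls₀ hTLs₀ (charP_of_le T hTLs₀ hLs₀X hX.1) hLs₀e
  have hLs₁X : Ls₁ ≤ X := hLs₁.trans hLs₀X
  have hYY' : Y ≤ Y' := hLs₁Y ▸ largestPReducedOf_mono T hTLs₁ hLs₁X hX.1
  have hC'C : C' ≤ C := centralizer_le hYY'
  -- the minimal supplement of `C(Y')`
  obtain ⟨M, ⟨hTM, hMX, hMe⟩, hMmin⟩ :=
    (Set.toFinite {M : Subgroup H | (T : Subgroup H) ≤ M ∧ M ≤ X ∧ M ⊔ C' = X}).exists_minimalFor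
      id _ ⟨X, hTX, le_rfl, sup_eq_left.2 hC'X⟩
  have hMc := charP_of_le T hTM hMX hX.1
  have hMY : Cfsg.largestPReducedOf p M = Y' := le_antisymm (largestPReducedOf_mono T hTM hMX hX.1)
    (le_largestPReducedOf_of_factor T M X hTX ((largestPReducedOf_le_sylow T hTX).trans hTM)
      (by rw [← hY', ← hC', hMe, sup_eq_left.2 hC'X]))
  have hMNC : M ≤ normalizer (C' : Set H) := hMX.trans hXNC
  set T₁ := (T : Subgroup H) ⊓ C' with hT₁
  have hTN₁ : (T : Subgroup H) ≤ normalizer (T₁ : Set H) :=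
    sylow_le_normalizer_inf T C' (hTX.trans hXNC)
  have hMT₁ : M ≤ normalizer (T₁ : Set H) := by
    have h := (Cfsg.Agent.S2824.result T X M hTX hTM (inner_charP hX.1) (inner_charP hMc) T₁ rfl
      (by rw [← hY', ← hC', hMe, sup_eq_left.2 hC'X]) _ rfl).2
    rw [← hY', ← hC', sup_eq_left.2 hC'X] at h
    exact (hMmin (j := M ⊓ normalizer (T₁ : Set H))
      ⟨le_inf hTM hTN₁, inf_le_left.trans hMX, h.symm⟩ inf_le_left).trans inf_le_right
  have hT₁D : T₁ ≤ M ⊓ C' := le_inf (inf_le_left.trans hTM) inf_le_right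
  have hT₁p : IsPGroup p T₁ := T.2.to_le inf_le_left
  have hT₁O : T₁ ≤ Cfsg.pCoreOf p M := le_pCoreOf (inf_le_left.trans hTM) hT₁p hMT₁
  have hDn : M ≤ normalizer ((M ⊓ C' : Subgroup H) : Set H) := fun m hm =>
    mem_normalizer_iff.2 fun x => by
      rw [Subgroup.mem_inf, Subgroup.mem_inf]
      exact and_congr (conj_mem_iff hm).symm (mem_normalizer_iff.1 (hMNC hm) x)
  have hDidx : ¬ p ∣ T₁.relIndex (M ⊓ C') := by
    have h := not_dvd_relIndex_inf T (M ⊓ C') (hTM.trans hDn)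
    have e : (T : Subgroup H) ⊓ (M ⊓ C') = T₁ := by
      rw [← inf_assoc, inf_eq_left.2 hTM]
    rwa [e] at h
  -- uniqueness of the maximal member over `M`
  have huniq : ∀ X' ∈ Cfsg.maxCharPSubgroups p H, M ≤ X' → X' = X := by
    intro X' hX' hMX'
    set Ls₂ := M ⊓ (Ls₁ ⊔ C') with hLs₂
    have he₂ : Ls₂ ⊔ C = L ⊔ C := by
      rw [hLs₁e]
      refine le_antisymm (sup_le (inf_le_right.trans (sup_le le_sup_left (hC'C.trans le_sup_right)))
        le_sup_right) (sup_le (fun l hl => ?_) le_sup_right)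
      obtain ⟨m, hm, c, hc, rfl⟩ := exists_mul_of_mem_sup hMNC (hMe.ge (hLs₁X hl))
      refine mul_mem (mem_sup_left ⟨hm, ?_⟩) (mem_sup_right (hC'C hc))
      have := mul_mem (mem_sup_left hl) (mem_sup_right (inv_mem hc) : c⁻¹ ∈ Ls₁ ⊔ C')
      rwa [mul_inv_cancel_right] at this
    have hTX' : (T : Subgroup H) ≤ X' := hTM.trans hMX'
    have hle : Y' ≤ Cfsg.largestPReducedOf p X' :=
      hMY ▸ largestPReducedOf_mono T hTM hMX' hX'.1
    have hcard := hXmax (j := X') ⟨hX', hTX', Ls₂, inf_le_left.trans hMX',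
      le_inf hTM (hTLs₁.trans le_sup_left), he₂⟩ (Nat.le_of_dvd Nat.card_pos (card_dvd_of_le hle))
    have heq : Y' = Cfsg.largestPReducedOf p X' := Solvable.eq_of_le_of_card_le hle hcard
    rw [← normalizer_eq_of_max T hloc hX' hTX', ← heq, hNX]
  have hM : Cfsg.IsInFrakM p M := by
    refine ⟨hMc, ?_, ?_, ?_, ?_, ?_⟩
    · rw [hMY, ← hC', hMe]; exact hX
    · rw [hMY, ← hC', hMe]; exact huniq
    · rw [hMY, ← hC', hMe]
    · rw [hMY, ← hC']
      exact isPClosed_of_normal_sylow hT₁D hT₁p (inf_le_left.trans hMT₁) hDidx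
    · rw [hMY, ← hC']
      set D := (M ⊓ C').subgroupOf M with hD
      haveI hDn' : D.Normal := normal_subgroupOf_of_le_normalizer hDn
      set π := QuotientGroup.mk' (Cfsg.pCore p ↥M) with hπ
      refine le_iInf₂ fun Kb hKb => ?_
      by_contra hnot
      set K := Kb.comap π with hK
      have hsurj := QuotientGroup.mk'_surjective (Cfsg.pCore p ↥M)
      have hOK : Cfsg.pCore p ↥M ≤ K := (QuotientGroup.ker_mk' _).ge.trans (MonoidHom.ker_le_comap _ _)
      have hKD : K ⊔ D = ⊤ := by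
        rcases eq_or_lt_of_le (le_sup_left : Kb ≤ Kb ⊔ D.map π) with h | h
        · exact absurd (h.symm ▸ le_sup_right) hnot
        have h2 := hKb.2 _ h
        rw [eq_top_iff]
        intro x _
        have hx : π x ∈ Kb ⊔ D.map π := h2 ▸ mem_top _
        rw [← map_comap_eq_self_of_surjective hsurj Kb, ← Subgroup.map_sup, ← mem_comap,
          comap_map_eq, QuotientGroup.ker_mk'] at hx
        exact (sup_le le_rfl (hOK.trans le_sup_left) : (K ⊔ D) ⊔ Cfsg.pCore p ↥M ≤ K ⊔ D) hx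
      have hKidx : ¬ p ∣ K.index := by
        have hsub : T₁.subgroupOf M ≤ K ⊓ D := by
          intro x hx
          obtain ⟨y, hy, hyx⟩ := hT₁O (mem_subgroupOf.1 hx)
          exact ⟨hOK (Subtype.ext hyx ▸ hy), mem_subgroupOf.2 (hT₁D (mem_subgroupOf.1 hx))⟩
        intro hdvd
        refine hDidx (hdvd.trans ?_)
        have e1 : K.index = (K ⊓ D).relIndex D := by
          have h1 := Solvable.card_sup_mul_card_inf (A := K) (K := D) le_normalizer_of_normal
          rw [hKD, card_top] at h1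
          have h2 := card_mul_index K
          have h3 := card_mul_index ((K ⊓ D).subgroupOf D)
          rw [Nat.card_congr (subgroupOfEquivOfLe (inf_le_right : K ⊓ D ≤ D)).toEquiv] at h3
          change Nat.card ↥(K ⊓ D) * (K ⊓ D).relIndex D = Nat.card D at h3
          rw [← h2, ← h3] at h1
          have hpos : 0 < Nat.card K * Nat.card ↥(K ⊓ D) := Nat.mul_pos Nat.card_pos Nat.card_pos
          refine Nat.eq_of_mul_eq_mul_left hpos ?_
          linarith
        rw [e1]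
        refine dvd_trans (relIndex_dvd_of_le_left D hsub) (dvd_of_eq ?_)
        exact relIndex_subgroupOf (inf_le_left : M ⊓ C' ≤ M)
      obtain ⟨k, hk⟩ : ∃ P : Sylow p M, (P : Subgroup M) ≤ K := by
        obtain ⟨P⟩ := (inferInstance : Nonempty (Sylow p K))
        refine ⟨((P.2.map K.subtype).toSylow ?_), le_rfl.trans (map_subtype_le _)⟩
        rw [index_map_subtype]
        exact fun h => ((Nat.Prime.dvd_mul hp.out).1 h).elim P.not_dvd_index hKidx
      obtain ⟨g, hg⟩ := MulAction.exists_smul_eq M k (T.subtype hTM)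
      set M' := (K.map (MulAut.conj g).toMonoidHom).map M.subtype with hM'
      have hTM' : (T : Subgroup H) ≤ M' := by
        intro t ht
        have h1 : (⟨t, hTM ht⟩ : M) ∈ ((g • k : Sylow p M) : Subgroup M) := by
          rw [hg]; exact ht
        obtain ⟨y, hy, hye⟩ := h1
        exact ⟨_, ⟨y, hk hy, hye⟩, rfl⟩
      have hM'e : M' ⊔ C' = X := by
        refine le_antisymm (sup_le ((map_subtype_le _).trans hMX) hC'X) (hMe.ge.trans (sup_le ?_ le_sup_right))
        intro m hm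
        have h1 : (⟨m, hm⟩ : M) ∈ (K ⊔ D).map (MulAut.conj g).toMonoidHom := by
          rw [hKD, Subgroup.map_top_of_surjective _ (MulAut.conj g).surjective]; exact mem_top _
        rw [Subgroup.map_sup] at h1
        have h2 : D.map (MulAut.conj g).toMonoidHom ≤ D := by
          rintro _ ⟨y, hy, rfl⟩; exact hDn'.conj_mem y hy g
        have h2' : (K.map (MulAut.conj g).toMonoidHom ⊔ D.map (MulAut.conj g).toMonoidHom) ≤
            K.map (MulAut.conj g).toMonoidHom ⊔ D := sup_le_sup_left h2 _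
        have h3 : m ∈ ((K.map (MulAut.conj g).toMonoidHom) ⊔ D).map M.subtype :=
          ⟨_, h2' h1, rfl⟩
        rw [Subgroup.map_sup] at h3
        have h4 : D.map M.subtype ≤ C' := by
          rintro _ ⟨y, hy, rfl⟩
          exact hy.2
        exact (show M' ⊔ D.map M.subtype ≤ M' ⊔ C' from sup_le_sup_left h4 _) h3
      have hle := hMmin (j := M') ⟨hTM', (map_subtype_le _).trans hMX, hM'e⟩ (map_subtype_le _)
      refine hKb.1 (eq_top_iff.2 fun y _ => ?_)
      obtain ⟨x, rfl⟩ := hsurj y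
      obtain ⟨_, ⟨y', hy', rfl⟩, hye⟩ := hle ((g * x * g⁻¹ : M)).2
      have he : g * y' * g⁻¹ = g * x * g⁻¹ := Subtype.ext hye
      exact (mul_left_cancel (mul_right_cancel he)) ▸ hy'
  -- the subgroup below `M`
  set Ls₂ := M ⊓ (Ls₁ ⊔ C') with hLs₂
  have he₂ : Ls₂ ⊔ C = L ⊔ C := by
    rw [hLs₁e]
    refine le_antisymm (sup_le (inf_le_right.trans (sup_le le_sup_left (hC'C.trans le_sup_right)))
      le_sup_right) (sup_le (fun l hl => ?_) le_sup_right)
    obtain ⟨m, hm, c, hc, rfl⟩ := exists_mul_of_mem_sup hMNC (hMe.ge (hLs₁X hl))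
    refine mul_mem (mem_sup_left ⟨hm, ?_⟩) (mem_sup_right (hC'C hc))
    have := mul_mem (mem_sup_left hl) (mem_sup_right (inv_mem hc) : c⁻¹ ∈ Ls₁ ⊔ C')
    rwa [mul_inv_cancel_right] at this
  have hTLs₂ : (T : Subgroup H) ≤ Ls₂ := le_inf hTM (hTLs₁.trans le_sup_left)
  obtain ⟨Ls, hLsle, hTLs, hLsc, hLsY, hLse⟩ :=
    hadj Ls₂ hTLs₂ (charP_of_le T hTLs₂ inf_le_left hMc) he₂
  exact ⟨M, Ls, hTM, hM, hTLs, hLsle.trans inf_le_left, hLsc, hLsY.symm, hMY.symm ▸ hYY', hLse⟩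

/-! ### Large subgroups -/

theorem exists_center_inf (T : Sylow p H) {U : Subgroup H} (hUT : U ≤ (T : Subgroup H))
    (hU : U ≠ ⊥) (hn : (T : Subgroup H) ≤ normalizer (U : Set H)) :
    U ⊓ centralizer ((T : Subgroup H) : Set H) ≠ ⊥ := by
  haveI := T.2.isNilpotent
  haveI : (U.subgroupOf (T : Subgroup H)).Normal := normal_subgroupOf_of_le_normalizer hn
  have hne : U.subgroupOf (T : Subgroup H) ≠ ⊥ := by
    rw [Ne, subgroupOf_eq_bot, disjoint_iff, inf_eq_left.2 hUT]; exact hU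
  intro h
  refine PGroupBasic.inf_center_ne_bot _ hne (eq_bot_iff.2 fun x hx => ?_)
  have : (x : H) ∈ U ⊓ centralizer ((T : Subgroup H) : Set H) :=
    ⟨hx.1, mem_centralizer_iff.2 fun t ht => congrArg Subtype.val (mem_center_iff.1 hx.2 ⟨t, ht⟩)⟩
  rw [h, mem_bot] at this
  exact mem_bot.2 (Subtype.ext this)

/-- A large subgroup is weakly closed. -/
theorem large_weaklyClosed (T : Sylow p H) {Q : Subgroup H} (hQ : Cfsg.IsLarge Q)
    (hQT : Q ≤ (T : Subgroup H)) : Cfsg.IsWeaklyClosed Q (T : Subgroup H) := by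
  refine ⟨hQT, fun g hg => ?_⟩
  by_cases hTbot : (T : Subgroup H) = ⊥
  · have h1 : Q = ⊥ := le_bot_iff.1 (hTbot ▸ hQT)
    rw [h1, Subgroup.map_bot]
  set Z := (T : Subgroup H) ⊓ centralizer ((T : Subgroup H) : Set H) with hZ
  have hZne : Z ≠ ⊥ := exists_center_inf T le_rfl hTbot le_normalizer
  have hZN : normalizer ((T : Subgroup H) : Set H) ≤ normalizer (Z : Set H) := fun n hn =>
    mem_normalizer_iff.2 fun x => by
      rw [hZ, Subgroup.mem_inf, Subgroup.mem_inf]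
      exact and_congr (mem_normalizer_iff.1 hn x)
        (mem_normalizer_iff.1 (normalizer_le_normalizer_centralizer _ hn) x)
  have hQn : normalizer (Z : Set H) ≤ normalizer (Q : Set H) :=
    hQ.2 Z (inf_le_right.trans (centralizer_le hQT)) hZne
  -- every conjugate inside `T` is normalized by `T`
  have hnorm : ∀ a : H, Q.map (MulAut.conj a).toMonoidHom ≤ (T : Subgroup H) →
      ∀ s ∈ (T : Subgroup H), (fun y => s * y * s⁻¹) '' (Q.map (MulAut.conj a).toMonoidHom : Set H) =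
        (Q.map (MulAut.conj a).toMonoidHom : Set H) := by
    intro a ha s hs
    have hmem : a⁻¹ * s * a ∈ normalizer (Q : Set H) := by
      have hle : Z.map (MulAut.conj a⁻¹).toMonoidHom ≤ centralizer (Q : Set H) := by
        rintro _ ⟨z, hz, rfl⟩
        refine mem_centralizer_iff.2 fun q hq => ?_
        have h1 : a * q * a⁻¹ * z = z * (a * q * a⁻¹) :=
          mem_centralizer_iff.1 hz.2 _ (ha ⟨q, hq, rfl⟩)
        show q * (a⁻¹ * z * a⁻¹⁻¹) = a⁻¹ * z * a⁻¹⁻¹ * q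
        calc q * (a⁻¹ * z * a⁻¹⁻¹) = a⁻¹ * (a * q * a⁻¹ * z) * a := by simp [mul_assoc]
          _ = a⁻¹ * (z * (a * q * a⁻¹)) * a := by rw [h1]
          _ = _ := by simp [mul_assoc]
      have hne : Z.map (MulAut.conj a⁻¹).toMonoidHom ≠ ⊥ := fun h0 =>
        hZne ((Subgroup.map_eq_bot_iff_of_injective _ (MulAut.conj a⁻¹).injective).1 h0)
      refine hQ.2 _ hle hne (mem_normalizer_iff.2 fun x => ?_)
      have hsZ := mem_normalizer_iff.1 (hZN (le_normalizer hs)) (a * x * a⁻¹)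
      have hconj : ∀ x : H, x ∈ Z.map (MulAut.conj a⁻¹).toMonoidHom ↔ a * x * a⁻¹ ∈ Z := fun x => by
        constructor
        · rintro ⟨z, hz, rfl⟩; simpa [mul_assoc] using hz
        · exact fun hx => ⟨_, hx, by simp [mul_assoc]⟩
      rw [hconj, hconj, hsZ]
      simp [mul_assoc]
    ext y
    constructor
    · rintro ⟨_, ⟨q, hq, rfl⟩, rfl⟩
      exact ⟨a⁻¹ * s * a * q * (a⁻¹ * s * a)⁻¹, (mem_normalizer_iff.1 hmem q).1 hq, by simp [mul_assoc]⟩
    · rintro ⟨q, hq, rfl⟩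
      refine ⟨_, ⟨(a⁻¹ * s * a)⁻¹ * q * (a⁻¹ * s * a), ?_, rfl⟩, by simp [mul_assoc]⟩
      have := (mem_normalizer_iff.1 (inv_mem hmem) q).1 hq
      rwa [inv_inv] at this
  have h1 : Q.map (MulAut.conj (1 : H)).toMonoidHom = Q := by ext x; simp
  have hQnorm := hnorm 1 (h1.symm ▸ hQT)
  rw [h1] at hQnorm
  obtain ⟨n, hn, he⟩ := TransferBasic.fusion_normal_subsets (P := T) (Q : Set H)
    ((Q.map (MulAut.conj g).toMonoidHom : Subgroup H) : Set H) hQnorm (hnorm g hg) g rfl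
  have hnQ := hQn (hZN hn)
  apply SetLike.coe_injective
  rw [← he]
  ext y
  constructor
  · rintro ⟨q, hq, rfl⟩; exact (mem_normalizer_iff.1 hnQ q).1 hq
  · intro hy
    refine ⟨n⁻¹ * y * n, ?_, by simp [mul_assoc]⟩
    have := (mem_normalizer_iff.1 (inv_mem hnQ) y).1 hy
    rwa [inv_inv] at this

/-- With a large subgroup every parabolic local is a member of `𝓛_H`. -/
theorem localCharP_of_large (T : Sylow p H) {Q : Subgroup H} (hQ : Cfsg.IsLarge Q)
    (hQT : Q ≤ (T : Subgroup H)) : LocalCharP T := by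
  intro R hR hR1 hTN
  set N := normalizer (R : Set H) with hN
  set O := Cfsg.pCoreOf p N with hO
  have hRO : R ≤ O := le_pCoreOf le_normalizer hR le_rfl
  have hOT : O ≤ (T : Subgroup H) := pCoreOf_le_sylow T hTN
  have hO1 : O ≠ ⊥ := fun h => hR1 (le_bot_iff.1 (h ▸ hRO))
  refine ⟨fun h => hO1 ((pCoreOf_eq_bot_iff N).2 h), ?_⟩
  set C := centralizer (O : Set H) with hC
  have hON : normalizer (O : Set H) ≥ N := le_normalizer_pCoreOf N
  have hCN : C ≤ N := (centralizer_le hRO).trans (centralizer_le_normalizer R)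
  have hNC : N ≤ normalizer (C : Set H) := hON.trans (normalizer_le_normalizer_centralizer O)
  have hCQ : C ≤ normalizer (Q : Set H) := by
    refine (centralizer_le inf_le_left).trans ((centralizer_le_normalizer _).trans
      (hQ.2 (O ⊓ centralizer ((T : Subgroup H) : Set H)) ?_ ?_))
    · exact inf_le_right.trans (centralizer_le hQT)
    · exact exists_center_inf T hOT hO1 (hTN.trans hON)
  have hQp : IsPGroup p Q := T.2.to_le hQT
  have hQC : Q ⊓ C ≤ O := by
    refine (le_pCoreOf (L := C) inf_le_right (hQp.to_le inf_le_left) fun c hc => ?_).trans ?_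
    · refine mem_normalizer_iff.2 fun x => ?_
      rw [Subgroup.mem_inf, Subgroup.mem_inf]
      exact and_congr (mem_normalizer_iff.1 (hCQ hc) x) (conj_mem_iff hc).symm
    · exact le_pCoreOf ((LocalB.opIn_le C).trans hCN) (isPGroup_pCoreOf C)
        (hNC.trans (normalizer_le_normalizer_pCoreOf C))
  have hCp : IsPGroup p C := by
    refine LocalB.isPGroup_of_forall fun c hc hcop => ?_
    have hcQ : c ∈ centralizer (Q : Set H) := by
      refine mem_centralizer_iff.2 fun q (hq : q ∈ Q) => ?_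
      have hmem : c * q * c⁻¹ * q⁻¹ ∈ Q ⊓ C := by
        refine ⟨Q.mul_mem ((mem_normalizer_iff.1 (hCQ hc) q).1 hq) (Q.inv_mem hq), ?_⟩
        rw [show c * q * c⁻¹ * q⁻¹ = c * (q * c⁻¹ * q⁻¹) by simp [mul_assoc]]
        exact mul_mem hc ((mem_normalizer_iff.1 (hNC (hTN (hQT hq))) c⁻¹).1 (inv_mem hc))
      exact (LocalB.commute_of_stab hQp hcop hmem.1
        (mem_centralizer_iff.1 hc _ (hQC hmem)).symm).eq.symm
    exact LocalB.eq_one_of_orderOf_coprime hQp (hQ.1 hcQ) hcop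
  exact le_pCoreOf hCN hCp hNC

/-- Members of the weak closure family of a weakly closed `Q` inside `X` are `X`-conjugates. -/
theorem exists_conj_of_le (T : Sylow p H) {Q : Subgroup H} (hw : Cfsg.IsWeaklyClosed Q (T : Subgroup H))
    {X : Subgroup H} (hTX : (T : Subgroup H) ≤ X) {g : H}
    (hg : Q.map (MulAut.conj g).toMonoidHom ≤ X) :
    ∃ x ∈ X, Q.map (MulAut.conj x).toMonoidHom = Q.map (MulAut.conj g).toMonoidHom := by
  have hp' : IsPGroup p (Q.map (MulAut.conj g).toMonoidHom) := (T.2.to_le hw.1).map _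
  obtain ⟨P, hP⟩ := (hp'.of_equiv (subgroupOfEquivOfLe hg).symm).exists_le_sylow
  obtain ⟨c, hc⟩ := MulAction.exists_smul_eq X P (T.subtype hTX)
  have hle : Q.map (MulAut.conj ((c : H) * g)).toMonoidHom ≤ (T : Subgroup H) := by
    rintro _ ⟨q, hq, rfl⟩
    have h1 : (⟨g * q * g⁻¹, hg ⟨q, hq, rfl⟩⟩ : X) ∈ (P : Subgroup X) :=
      hP (mem_subgroupOf.2 ⟨q, hq, rfl⟩)
    have h2 : c * (⟨g * q * g⁻¹, hg ⟨q, hq, rfl⟩⟩ : X) * c⁻¹ ∈
        ((c • P : Sylow p X) : Subgroup X) := ⟨_, h1, rfl⟩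
    rw [hc, Sylow.coe_subtype, mem_subgroupOf] at h2
    simpa [mul_assoc] using h2
  have he := hw.2 _ hle
  refine ⟨(c : H)⁻¹, inv_mem c.2, ?_⟩
  conv_lhs => rw [← he]
  rw [map_map]
  congr 1
  ext y
  simp [mul_assoc]

theorem weakClosure_mono (Q : Subgroup H) {A B : Subgroup H} (h : A ≤ B) :
    Cfsg.weakClosure Q A ≤ Cfsg.weakClosure Q B :=
  iSup_le fun g => le_iSup (fun g : {g : H // Q.map (MulAut.conj g).toMonoidHom ≤ B} =>
    Q.map (MulAut.conj (g : H)).toMonoidHom) ⟨g.1, g.2.trans h⟩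

/-- `(L C(Y))° = L°` for `Y` nontrivial, normalized by `L`. -/
theorem weakClosure_sup_centralizer (T : Sylow p H) {Q : Subgroup H} (hQ : Cfsg.IsLarge Q)
    (hQT : Q ≤ (T : Subgroup H)) {L Y : Subgroup H} (hTL : (T : Subgroup H) ≤ L)
    (hLY : L ≤ normalizer (Y : Set H)) (hYT : Y ≤ (T : Subgroup H)) (hY : Y ≠ ⊥) :
    Cfsg.weakClosure Q (L ⊔ centralizer (Y : Set H)) = Cfsg.weakClosure Q L := by
  set C := centralizer (Y : Set H) with hC
  have hLC : L ≤ normalizer (C : Set H) := hLY.trans (normalizer_le_normalizer_centralizer Y)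
  have hCQ : C ≤ normalizer (Q : Set H) :=
    (centralizer_le inf_le_left).trans ((centralizer_le_normalizer _).trans
      (hQ.2 (Y ⊓ centralizer ((T : Subgroup H) : Set H)) (inf_le_right.trans (centralizer_le hQT))
        (exists_center_inf T hYT hY (hTL.trans hLY))))
  refine le_antisymm (iSup_le fun g => ?_) (weakClosure_mono Q le_sup_left)
  obtain ⟨x, hx, he⟩ := exists_conj_of_le T (large_weaklyClosed T hQ hQT)
    (hTL.trans le_sup_left) g.2
  obtain ⟨l, hl, c, hc, rfl⟩ := exists_mul_of_mem_sup hLC hx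
  have hlle : Q.map (MulAut.conj l).toMonoidHom ≤ L := by
    rintro _ ⟨q, hq, rfl⟩
    exact mul_mem (mul_mem hl (hTL (hQT hq))) (inv_mem hl)
  rw [← he]
  refine le_trans ?_ (le_iSup (fun g : {g : H // Q.map (MulAut.conj g).toMonoidHom ≤ L} =>
    Q.map (MulAut.conj (g : H)).toMonoidHom) ⟨l, hlle⟩)
  rintro _ ⟨q, hq, rfl⟩
  exact ⟨c * q * c⁻¹, (mem_normalizer_iff.1 (hCQ hc) q).1 hq, by simp [mul_assoc]⟩

end CfsgLib.FrakM
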