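import Cfsg.Agent.CharP.Kieler
import Cfsg.Agent.CharP.ResidualCommutator
import Cfsg.Agent.Solvable.CoprimeAct
import Cfsg.Agent.Solvable.CoprimeAbelian
import Cfsg.Agent.Solvable.PGroupRank
import Cfsg.Agent.Solvable.PGroupBasic
import Cfsg.Agent.Transfer.Frobenius
import Cfsg.Agent.LocalB.CharP
import Cfsg.Agent.CharP.YMinimal
import Cfsg.Agent.CharP.FrakM
import Cfsg.Prelude.Def_CaseTheorems

/-!
Coprime action consequences.
-/

set_option autoImplicit false
set_option linter.style.haveILetI false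

namespace CfsgLib.CoprimeActions

open Subgroup Cfsg CfsgLib.YMinimal
open scoped commutatorElement

universe u

variable {G : Type u} [Group G] [Finite G] {p : ℕ} [Fact p.Prime]

theorem coprime_pGroup {P B : Subgroup G} (hP : IsPGroup p P) (hB : ¬ p ∣ Nat.card B) :
    (Nat.card B).Coprime (Nat.card P) := by
  obtain ⟨k, hk⟩ := IsPGroup.iff_card.1 hP
  rw [hk]
  exact (((Fact.out : p.Prime).coprime_iff_not_dvd.2 hB).symm).pow_right k

/-- In a nilpotent group a subgroup absorbed by commutators is trivial. -/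
theorem eq_bot_of_le_commutator {X : Type*} [Group X] [Group.IsNilpotent X] {N : Subgroup X}
    (h : N ≤ ⁅N, (⊤ : Subgroup X)⁆) : N = ⊥ := by
  have key : ∀ n : ℕ, N ≤ (⊤ : Subgroup X).lowerCentralSeries n := by
    intro n
    induction n with
    | zero => simp
    | succ n ih =>
      rw [Subgroup.lowerCentralSeries_succ]
      exact h.trans (commutator_mono ih le_rfl)
  obtain ⟨n, hn⟩ := Subgroup.nilpotent_iff_lowerCentralSeries.1 (inferInstance : Group.IsNilpotent X)
  exact le_bot_iff.1 (hn ▸ key n)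

theorem commutator_eq_bot (P A B : Subgroup G) (hP : IsPGroup p P) (hA : IsPGroup p A)
    (hB : ¬ p ∣ Nat.card B) (hnA : A ≤ normalizer (P : Set G)) (hnB : B ≤ normalizer (P : Set G))
    (hAB : ⁅A, B⁆ = ⊥) (hcomm : ⁅P, B⁆ ≤ ⁅P, A⁆) : ⁅P, B⁆ = ⊥ := by
  set Φ := (frattini P).map P.subtype with hΦ
  have hcomPA : ∀ {Y : Subgroup G}, Y ≤ normalizer (P : Set G) → ⁅P, Y⁆ ≤ P := fun {Y} hY =>
    commutator_le.2 fun x hx y hy => by
      have := mul_mem hx ((mem_normalizer_iff.1 (hY hy) x⁻¹).1 (inv_mem hx))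
      simpa [commutatorElement_def, mul_assoc] using this
  have hΦn : ∀ g ∈ normalizer (P : Set G), g ∈ normalizer (Φ : Set G) := fun g hg =>
    mem_normalizer_of_conj_le (by
      rintro _ ⟨_, ⟨f, hf, rfl⟩, rfl⟩
      exact ⟨P.normalizerMonoidHom ⟨g, hg⟩ f,
        characteristic_iff_le_comap.1 frattini_characteristic _ hf, rfl⟩)
  set f := QuotientGroup.mk' (frattini P)
  have hfc : ∀ x y : P, f x * f y = f y * f x := fun x y => by
    rw [← commutatorElement_eq_one_iff_mul_comm, ← map_commutatorElement]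
    exact (QuotientGroup.eq_one_iff _).2 ((PGroupBasic.commutator_pow_le_frattini hP).1
      (commutator_mem_commutator (mem_top x) (mem_top y)))
  set N := ⁅⁅P, B⁆, A⁆ ⊔ Φ with hN
  have hNP : N ≤ P := sup_le ((commutator_mono (hcomPA hnB) le_rfl).trans (hcomPA hnA))
    (map_subtype_le _)
  have hΦN : Φ ≤ N := le_sup_right
  -- subgroups of `P` over `Φ` are normal in `P`
  have hPN : ∀ M : Subgroup G, M ≤ P → Φ ≤ M → P ≤ normalizer (M : Set G) := fun M hM hΦM x hx =>
    mem_normalizer_of_conj_le (by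
      rintro _ ⟨m, hm, rfl⟩
      have h1 : f (⟨x, hx⟩ * ⟨m, hM hm⟩ * ⟨x, hx⟩⁻¹ * ⟨m, hM hm⟩⁻¹) = 1 := by
        rw [map_mul, map_mul, map_mul, map_inv, map_inv, hfc, mul_inv_cancel_right, mul_inv_cancel]
      have h2 := mul_mem (hΦM (mem_map_of_mem P.subtype ((QuotientGroup.eq_one_iff _).1 h1))) hm
      simpa [mul_assoc] using h2)
  -- three subgroup lemma modulo `Φ`
  have h3 : ⁅⁅P, A⁆, B⁆ ≤ N := by
    rw [commutator_le]
    intro w hw b hb
    let S : Subgroup G :=
      { carrier := {x | x ∈ P ∧ ⁅x, b⁆ ∈ N}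
        one_mem' := ⟨one_mem _, by simp⟩
        mul_mem' := fun {x y} hx hy => ⟨mul_mem hx.1 hy.1, by
          rw [commutatorElement_mul_left_eq_conj_mul]
          exact mul_mem ((mem_normalizer_iff.1 (hPN N hNP hΦN hx.1) _).1 hy.2) hx.2⟩
        inv_mem' := fun {x} hx => ⟨inv_mem hx.1, by
          have h := (mem_normalizer_iff.1 (inv_mem (hPN N hNP hΦN hx.1)) _).1 (inv_mem hx.2)
          simpa [commutatorElement_def, mul_assoc] using h⟩ }
    suffices hS : ⁅P, A⁆ ≤ S from (hS hw).2
    rw [commutator_le]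
    intro x hx a ha
    refine ⟨hcomPA hnA (commutator_mem_commutator hx ha), ?_⟩
    have hab : a * b = b * a := commutatorElement_eq_one_iff_mul_comm.1
      (mem_bot.1 (hAB ▸ commutator_mem_commutator ha hb))
    have hy : ⁅x, b⁆ ∈ P := hcomPA hnB (commutator_mem_commutator hx hb)
    have h1 : ⁅⁅x, b⁆, a⁆ ∈ N := mem_sup_left
      (commutator_mem_commutator (commutator_mem_commutator hx hb) ha)
    have ha' : a * x * a⁻¹ ∈ P := (mem_normalizer_iff.1 (hnA ha) x).1 hx
    have hb' : b * x * b⁻¹ ∈ P := (mem_normalizer_iff.1 (hnB hb) x).1 hx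
    have hd : a * (b * x * b⁻¹) * a⁻¹ ∈ P := (mem_normalizer_iff.1 (hnA ha) _).1 hb'
    set xp : P := ⟨x, hx⟩
    set xa : P := ⟨_, ha'⟩
    set xb : P := ⟨_, hb'⟩
    set xd : P := ⟨_, hd⟩
    have he : f (xp * xa⁻¹ * (xd * xb⁻¹)) = f (xp * xb⁻¹ * (xd * xa⁻¹)) := by
      simp only [map_mul, map_inv]
      haveI : Std.Commutative (α := P ⧸ frattini P) (· * ·) := ⟨fun u v => by
        obtain ⟨u, rfl⟩ := QuotientGroup.mk'_surjective _ u
        obtain ⟨v, rfl⟩ := QuotientGroup.mk'_surjective _ v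
        exact hfc u v⟩
      ac_rfl
    have hL : ⁅⁅x, a⁆, b⁆ = ((xp * xa⁻¹ * (xd * xb⁻¹) : P) : G) := by
      show _ = x * (a * x * a⁻¹)⁻¹ * (a * (b * x * b⁻¹) * a⁻¹ * (b * x * b⁻¹)⁻¹)
      calc ⁅⁅x, a⁆, b⁆ = x * (a * x⁻¹ * a⁻¹) * ((b * a) * x * (b * a)⁻¹) * (b * x⁻¹ * b⁻¹) := by
            simp [commutatorElement_def, mul_assoc]
        _ = _ := by rw [← hab]; simp [mul_assoc]
    have hR : ⁅⁅x, b⁆, a⁆ = ((xp * xb⁻¹ * (xd * xa⁻¹) : P) : G) := by
      show _ = x * (b * x * b⁻¹)⁻¹ * (a * (b * x * b⁻¹) * a⁻¹ * (a * x * a⁻¹)⁻¹)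
      simp [commutatorElement_def, mul_assoc]
    rw [hL]
    rw [hR] at h1
    have h2 : (xp * xb⁻¹ * (xd * xa⁻¹))⁻¹ * (xp * xa⁻¹ * (xd * xb⁻¹)) ∈ frattini P :=
      QuotientGroup.eq.1 he.symm
    have := mul_mem h1 (hΦN (mem_map_of_mem P.subtype h2))
    rw [Subgroup.coe_subtype, ← Subgroup.coe_mul, mul_inv_cancel_left] at this
    exact this
  have hsolv : Group.IsSolvable B ∨ Group.IsSolvable P := by
    haveI := hP.isNilpotent
    exact Or.inr inferInstance
  have hkey : ⁅P, B⁆ ≤ N :=
    (CoprimeAct.commutator_commutator hnB (coprime_pGroup hP hB) hsolv).ge.trans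
      ((commutator_mono hcomm le_rfl).trans h3)
  -- `[P, B] ≤ Φ`
  have hPB : ⁅P, B⁆ ≤ Φ := by
    set X := A ⊔ P with hX
    have hXp : IsPGroup p X := isPGroup_sup_of_le_normalizer hA hP hnA
    have hXP : X ≤ normalizer (P : Set G) := sup_le hnA le_normalizer
    have hΦX : Φ ≤ X := (map_subtype_le _).trans le_sup_right
    haveI : (Φ.subgroupOf X).Normal :=
      normal_subgroupOf_of_le_normalizer fun x hx => hΦn x (hXP hx)
    set π := QuotientGroup.mk' (Φ.subgroupOf X)
    haveI : Group.IsNilpotent (X ⧸ Φ.subgroupOf X) :=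
      (hXp.of_surjective π (QuotientGroup.mk'_surjective _)).isNilpotent
    set W := ⁅P, B⁆ ⊔ Φ with hW
    have hWX : W ≤ X := sup_le ((hcomPA hnB).trans le_sup_right) hΦX
    have hA' : A ≤ X := le_sup_left
    have h4 : W.subgroupOf X ≤ ⁅W.subgroupOf X, A.subgroupOf X⁆ ⊔ Φ.subgroupOf X := by
      rw [← map_le_map_iff_of_injective X.subtype_injective, Subgroup.map_sup, map_commutator,
        map_subgroupOf_eq_of_le hWX, map_subgroupOf_eq_of_le hA', map_subgroupOf_eq_of_le hΦX]
      exact sup_le (hkey.trans (sup_le_sup_right (commutator_mono le_sup_left le_rfl) _))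
        le_sup_right
    have h5 := eq_bot_of_le_commutator (N := (W.subgroupOf X).map π) (by
      refine (map_mono h4).trans ?_
      rw [Subgroup.map_sup, map_commutator,
        (Subgroup.map_eq_bot_iff (f := π) (Φ.subgroupOf X)).2 (by rw [QuotientGroup.ker_mk']),
        sup_bot_eq]
      exact commutator_mono le_rfl le_top)
    rw [Subgroup.map_eq_bot_iff, QuotientGroup.ker_mk'] at h5
    intro w hw
    exact mem_subgroupOf.1
      (h5 (show (⟨w, hWX (mem_sup_left hw)⟩ : X) ∈ W.subgroupOf X from mem_sup_left hw))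
  refine commutator_eq_bot_iff_le_centralizer.2 (le_centralizer_iff.1
    (CoprimeAct.trivial_on_frattini_quotient hnB ?_ fun b hb x hx => ?_))
  · exact (coprime_pGroup hP hB).coprime_dvd_right (card_subgroup_dvd_card _)
  · rw [show b * x * b⁻¹ * x⁻¹ = ⁅x, b⁆⁻¹ by simp [commutatorElement_def, mul_assoc]]
    exact inv_mem (hPB (commutator_mem_commutator hx hb))

theorem commutator_le_centralizer (E : Subgroup G) [E.Normal] (hE : IsPGroup p E) (U : Subgroup G)
    (hU : IsElementaryAbelian p U) (hnc : ¬ IsCyclic U)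
    (hcond : (∀ u ∈ U, u ≠ 1 → E ⊓ centralizer (U : Set G) = E ⊓ centralizer ({u} : Set G)) ∨
      (∀ u ∈ U, u ≠ 1 → ⁅E, U⁆ = ⁅E, zpowers u⁆))
    (R : Subgroup G) (hR : ¬ p ∣ Nat.card R) (hRU : U ≤ normalizer (R : Set G)) :
    ⁅R, U⁆ ≤ centralizer (E : Set G) := by
  haveI := hU.1
  have hUp : IsPGroup p U := fun u => ⟨1, Subtype.ext (by simpa using hU.2 u u.2)⟩
  rw [commutator_le]
  intro r hr v hv
  let S : Subgroup G :=
    { carrier := {x | x ∈ R ∧ ⁅x, v⁆ ∈ centralizer (E : Set G)}
      one_mem' := ⟨one_mem _, by simp⟩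
      mul_mem' := fun {x y} hx hy => ⟨mul_mem hx.1 hy.1, by
        rw [commutatorElement_mul_left_eq_conj_mul]
        exact mul_mem ((inferInstance : (centralizer (E : Set G)).Normal).conj_mem _ hy.2 x) hx.2⟩
      inv_mem' := fun {x} hx => ⟨inv_mem hx.1, by
        have h := (inferInstance : (centralizer (E : Set G)).Normal).conj_mem _ (inv_mem hx.2) x⁻¹
        simpa [commutatorElement_def, mul_assoc] using h⟩ }
  suffices hS : R ≤ S from (hS hr).2
  conv_lhs => rw [← CoprimeAct.generated_by_centralizers hnc hRU (coprime_pGroup hUp hR).symm]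
  rintro r hr
  refine (iSup₂_le fun u hu x hx => ?_ : _ ≤ S) hr
  obtain ⟨huU, hu1⟩ := hu
  refine ⟨(Subgroup.mem_inf.1 hx).1, ?_⟩
  set w := ⁅x, v⁆ with hw
  have hwR : w ∈ R := by
    have := mul_mem (Subgroup.mem_inf.1 hx).1
      ((mem_normalizer_iff.1 (hRU hv) x⁻¹).1 (inv_mem (Subgroup.mem_inf.1 hx).1))
    simpa [hw, commutatorElement_def, mul_assoc] using this
  have hux : u * x = x * u := (mem_centralizer_singleton_iff.1 (Subgroup.mem_inf.1 hx).2).symm
  have huv : u * v = v * u := setLike_mul_comm (s := U) huU hv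
  have huw : Commute u w := by
    have c1 : Commute u x := hux
    have c2 : Commute u v := huv
    exact ((c1.mul_right c2).mul_right c1.inv_right).mul_right c2.inv_right
  have hwcop : (orderOf w).Coprime p := by
    refine ((Fact.out : p.Prime).coprime_iff_not_dvd.2 hR).symm.coprime_dvd_left ?_
    exact orderOf_mk w hwR ▸ orderOf_dvd_natCard (⟨w, hwR⟩ : R)
  have hwn : w ∈ normalizer (E : Set G) := le_normalizer_of_normal (mem_top w)
  rcases hcond with hc | hc
  · -- fixed points
    have hfix : ∀ e ∈ E, (∀ π ∈ zpowers u, π * e = e * π) → Commute w e := by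
      intro e he heu
      have heC : ∀ z ∈ E, u * z = z * u → v * z = z * v := fun z hz hzu => by
        have h1 : z ∈ E ⊓ centralizer ({u} : Set G) :=
          Subgroup.mem_inf.2 ⟨hz, mem_centralizer_singleton_iff.2 hzu.symm⟩
        rw [← hc u huU hu1] at h1
        exact mem_centralizer_iff.1 (Subgroup.mem_inf.1 h1).2 v hv
      have h1 : Commute v e := heC e he (heu u (mem_zpowers u))
      have h2 : Commute v (x⁻¹ * e * x) := by
        refine heC _ (by simpa using (inferInstance : E.Normal).conj_mem e he x⁻¹) ?_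
        have c1 : Commute u x := hux
        exact ((c1.inv_right.mul_right (heu u (mem_zpowers u))).mul_right c1).eq
      show w * e = e * w
      calc w * e = x * (v * x⁻¹ * (v⁻¹ * e)) := by simp [hw, commutatorElement_def, mul_assoc]
        _ = x * (v * (x⁻¹ * e * x)) * x⁻¹ * v⁻¹ := by rw [h1.inv_left.eq]; simp [mul_assoc]
        _ = x * ((x⁻¹ * e * x) * v) * x⁻¹ * v⁻¹ := by rw [h2.eq]
        _ = e * w := by simp [hw, commutatorElement_def, mul_assoc]
    refine mem_centralizer_iff.2 fun e he => ?_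
    exact (LocalB.commute_of_pxq (hUp.to_le (zpowers_le.2 huU)) hE
      (fun g _ => le_normalizer_of_normal (mem_top g)) hwcop hwn
      (fun π hπ => by obtain ⟨i, rfl⟩ := mem_zpowers_iff.1 hπ; exact huw.zpow_left i) hfix e he).eq.symm
  · -- commutators
    set A := zpowers u with hA
    set B := zpowers w with hB
    have hB' : ¬ p ∣ Nat.card B := by
      rw [hB, Nat.card_zpowers]
      exact (Fact.out : p.Prime).coprime_iff_not_dvd.1 hwcop.symm
    have hAB : ⁅A, B⁆ = ⊥ := by
      rw [commutator_eq_bot_iff_le_centralizer, hA, hB, zpowers_le]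
      refine mem_centralizer_iff.2 fun z hz => ?_
      obtain ⟨i, rfl⟩ := mem_zpowers_iff.1 hz
      exact (huw.zpow_right i).symm.eq
    set N := ⁅E, U⁆ with hN
    have hNA : N = ⁅E, A⁆ := hc u huU hu1
    have hNE : N ≤ E := commutator_le_left _ _
    have hEN : E ≤ normalizer (N : Set G) := normalizer_commutator_ge_left _ _
    -- `x` normalizes `[E, u] = [E, U]`
    have hxN : x ∈ normalizer (N : Set G) := by
      refine mem_normalizer_of_conj_le ?_
      rw [hNA, map_commutator]
      refine commutator_mono (conj_eq_self (le_normalizer_of_normal (mem_top x))).le ?_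
      rw [hA, MonoidHom.map_zpowers, zpowers_le]
      show x * u * x⁻¹ ∈ _
      rw [← hux, mul_inv_cancel_right]
      exact mem_zpowers u
    have key : ∀ e ∈ E, ⁅e, w⁆ ∈ N := by
      intro e he
      have hvv : ∀ z ∈ E, ⁅z, v⁆ ∈ N := fun z hz => commutator_mem_commutator hz hv
      let T : Subgroup G :=
        { carrier := {g | g ∈ normalizer (N : Set G) ∧ ∀ z ∈ E, g * z * g⁻¹ * z⁻¹ ∈ N}
          one_mem' := ⟨one_mem _, fun z _ => by simp⟩
          mul_mem' := fun {g k} hg hk => ⟨mul_mem hg.1 hk.1, fun z hz => by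
            have h1 := (mem_normalizer_iff.1 hg.1 _).1 (hk.2 z hz)
            have h2 := mul_mem h1 (hg.2 z hz)
            simpa [mul_assoc] using h2⟩
          inv_mem' := fun {g} hg => ⟨inv_mem hg.1, fun z hz => by
            have h1 := (mem_normalizer_iff.1 (inv_mem hg.1) _).1 (inv_mem (hg.2 z hz))
            simpa [mul_assoc] using h1⟩ }
      have hvT : v ∈ T := by
        refine ⟨normalizer_commutator_ge_right E U hv, fun z hz => ?_⟩
        have := inv_mem (hvv z hz)
        simpa [commutatorElement_def, mul_assoc] using this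
      have hxvT : x * v * x⁻¹ ∈ T := by
        refine ⟨mul_mem (mul_mem hxN hvT.1) (inv_mem hxN), fun z hz => ?_⟩
        have h1 := (mem_normalizer_iff.1 hxN _).1
          (hvT.2 (x⁻¹ * z * x) (by simpa using (inferInstance : E.Normal).conj_mem z hz x⁻¹))
        simpa [mul_assoc] using h1
      have hwT : w ∈ T := by
        have := mul_mem hxvT (inv_mem hvT)
        rw [hw, commutatorElement_def]
        exact this
      have := inv_mem (hwT.2 e he)
      simpa [commutatorElement_def, mul_assoc] using this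
    have hle : ⁅E, B⁆ ≤ ⁅E, A⁆ := by
      rw [← hNA, commutator_le]
      intro e he b hb
      obtain ⟨i, rfl⟩ := mem_zpowers_iff.1 hb
      let T : Subgroup G :=
        { carrier := {g | g ∈ normalizer (N : Set G) ∧ ∀ z ∈ E, ⁅z, g⁆ ∈ N}
          one_mem' := ⟨one_mem _, fun z _ => by simp⟩
          mul_mem' := fun {g k} hg hk => ⟨mul_mem hg.1 hk.1, fun z hz => by
            have h1 := (mem_normalizer_iff.1 hg.1 _).1 (hk.2 z hz)
            have h2 := mul_mem (hg.2 z hz) h1
            simpa [commutatorElement_def, mul_assoc] using h2⟩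
          inv_mem' := fun {g} hg => ⟨inv_mem hg.1, fun z hz => by
            have h1 := (mem_normalizer_iff.1 (inv_mem hg.1) _).1 (inv_mem (hg.2 z hz))
            simpa [commutatorElement_def, mul_assoc] using h1⟩ }
      have hwT : w ∈ T := ⟨by
        rw [hw, commutatorElement_def]
        have hvN := normalizer_commutator_ge_right E U hv
        exact mul_mem (mul_mem (mul_mem hxN hvN) (inv_mem hxN)) (inv_mem hvN), key⟩
      exact (zpow_mem hwT i).2 e he
    have h0 := commutator_eq_bot E A B hE (hUp.to_le (zpowers_le.2 huU)) hB'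
      (fun g _ => le_normalizer_of_normal (mem_top g))
      (fun g _ => le_normalizer_of_normal (mem_top g)) hAB hle
    refine mem_centralizer_iff.2 fun e he => ?_
    exact commutatorElement_eq_one_iff_mul_comm.1
      (mem_bot.1 (h0 ▸ commutator_mem_commutator he (mem_zpowers w)))

/-- Transfer of fixed points of a Sylow subgroup of `O^p(H)`. -/
theorem eq_commutator_sup_centralizer (V H : Subgroup G) (hV : IsElementaryAbelian p V)
    (hHV : H ≤ normalizer (V : Set G)) (R : Subgroup G)
    (hR : R = (pResidual p ↥H).map H.subtype) (S : Sylow p R) (T : Subgroup G)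
    (hT : T = (S : Subgroup R).map R.subtype)
    (hgen : ∀ W : Subgroup G, H ≤ normalizer (W : Set G) →
      V ⊓ centralizer (T : Set G) ≤ W → V ≤ W) :
    ⁅V, R⁆ ⊔ (V ⊓ centralizer (R : Set G)) = V := by
  haveI := hV.1
  have hRH : R ≤ H := hR ▸ map_subtype_le _
  have hRV : R ≤ normalizer (V : Set G) := hRH.trans hHV
  have hle : ⁅V, R⁆ ≤ V := commutator_le.2 fun v hv r hr => by
    have := mul_mem hv ((mem_normalizer_iff.1 (hRV hr) v⁻¹).1 (inv_mem hv))
    simpa [commutatorElement_def, mul_assoc] using this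
  haveI := PResidual.pResidual_normal (G := H) p
  have hHR : H ≤ normalizer (R : Set G) := by
    rw [hR]
    intro h hh
    refine mem_normalizer_of_conj_le ?_
    rintro _ ⟨_, ⟨x, hx, rfl⟩, rfl⟩
    exact ⟨⟨h, hh⟩ * x * ⟨h, hh⟩⁻¹,
      (inferInstance : (pResidual p H).Normal).conj_mem x hx _, rfl⟩
  refine le_antisymm (sup_le hle inf_le_left) (hgen _ (fun h hh => ?_) fun z hz => ?_)
  · refine mem_normalizer_of_conj_le ?_
    rw [Subgroup.map_sup, map_commutator, conj_eq_self (hHV hh), conj_eq_self (hHR hh)]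
    refine sup_le_sup_left ?_ _
    rw [Subgroup.map_inf _ _ _ (MulAut.conj h).injective, conj_eq_self (hHV hh)]
    exact inf_le_inf_left _
      (conj_eq_self ((FrakM.normalizer_le_normalizer_centralizer R (hHR hh)))).le
  · obtain ⟨hzV, hzT⟩ := Subgroup.mem_inf.1 hz
    obtain ⟨tr, htr, -⟩ := Kieler.exists_trace V R T hRV (m := (T.subgroupOf R).index) rfl
    obtain ⟨h1, h2, h3, -⟩ := htr z hzV fun s hs => mem_centralizer_iff.1 hzT s hs
    have h4 := h3 ⁅V, R⁆ fun r hr => by
      rw [commutator_comm]; exact commutator_mem_commutator hr hzV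
    refine Kieler.mem_of_pow_mem (m := (T.subgroupOf R).index) ?_ (hV.2 z hzV) ?_
    · rw [hT, subgroupOf, comap_map_eq_self_of_injective R.subtype_injective]
      exact S.not_dvd_index
    · rw [show z ^ (T.subgroupOf R).index =
          (tr z * (z ^ (T.subgroupOf R).index)⁻¹)⁻¹ * tr z by simp]
      exact mul_mem (mem_sup_left (inv_mem h4)) (mem_sup_right (Subgroup.mem_inf.2 ⟨h1, h2⟩))

theorem hasNormalPComplement_of_omega_central (hp : p ≠ 2) (P : Sylow p G)
    (hZ : omegaOne p (P : Subgroup G) ≤ center G) : HasNormalPComplement p G := by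
  refine Fusion.hasNormalPComplement_of_localCondition fun Q hQ g hg hcop => ?_
  set a : MulAut Q := Q.normalizerMonoidHom ⟨g, hg⟩ with ha
  have hcopa : (orderOf a).Coprime p :=
    hcop.coprime_dvd_left ((orderOf_map_dvd _ _).trans
      (orderOf_mk g hg).dvd)
  have h1 : a = 1 := by
    refine PGroupRank.aut_eq_one_of_omega_one hp hQ a hcopa fun x hx => Subtype.ext ?_
    have hxG : (x : G) ^ p = 1 := congrArg Subtype.val hx
    obtain ⟨S, hS⟩ := hQ.exists_le_sylow
    obtain ⟨m, hm⟩ := MulAction.exists_smul_eq G S P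
    have hxP : m * x * m⁻¹ ∈ (P : Subgroup G) := by
      rw [← hm, Sylow.coe_subgroup_smul]; exact mem_map_of_mem _ (hS x.2)
    have hc := hZ (Thompson.mem_omegaOne hxP (by rw [conj_pow, hxG, mul_one, mul_inv_cancel]))
    have hxc : (x : G) ∈ center G := by
      simpa [mul_assoc] using (inferInstance : (center G).Normal).conj_mem _ hc m⁻¹
    show g * (x : G) * g⁻¹ = x
    rw [mem_center_iff.1 hxc g, mul_inv_cancel_right]
  refine mem_centralizer_iff.2 fun q hq => ?_
  have h2 : g * q * g⁻¹ = q :=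
    congrArg Subtype.val (show a ⟨q, hq⟩ = (⟨q, hq⟩ : Q) by rw [h1]; rfl)
  exact (mul_inv_eq_iff_eq_mul.1 h2).symm

end CfsgLib.CoprimeActions
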