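import Cfsg.Agent.Solvable.Basics
import Mathlib.GroupTheory.SpecificGroups.Dihedral
import Mathlib.GroupTheory.Sylow
import Mathlib.GroupTheory.Frattini
import Mathlib.GroupTheory.IndexNormal
import Mathlib.Tactic.LinearCombination
import Mathlib.Tactic.Group

/-!
Groups with dihedral quotient of order `2r` over `O_2`.
-/

set_option autoImplicit false
set_option linter.style.haveILetI false

namespace CfsgLib.DihedralTop

open Subgroup

section Dihedral

variable {r : ℕ} [Fact r.Prime]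

theorem exists_sr (hr : r ≠ 2) {d : DihedralGroup r} (hd : orderOf d = 2) :
    ∃ i, d = DihedralGroup.sr i := by
  haveI : NeZero r := ⟨(Fact.out : r.Prime).ne_zero⟩
  rcases d with i | i
  · refine absurd ?_ hr
    have h : orderOf (DihedralGroup.r i : DihedralGroup r) ∣ r := by
      rw [DihedralGroup.orderOf_r]
      exact Nat.div_dvd_of_dvd (Nat.gcd_dvd_left r i.val)
    rw [hd] at h
    exact ((Nat.prime_dvd_prime_iff_eq Nat.prime_two Fact.out).1 h).symm
  · exact ⟨i, rfl⟩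

theorem dihedral_conj (hr : r ≠ 2) {d d' : DihedralGroup r} (hd : orderOf d = 2)
    (hd' : orderOf d' = 2) : ∃ c, c * d * c⁻¹ = d' := by
  obtain ⟨i, rfl⟩ := exists_sr hr hd
  obtain ⟨j, rfl⟩ := exists_sr hr hd'
  have h2 : ((r + 1) / 2 : ℕ) * 2 = r + 1 :=
    Nat.div_mul_cancel (even_iff_two_dvd.1 ((Fact.out : r.Prime).odd_of_ne_two hr).add_one)
  have h3 : (((r + 1) / 2 : ℕ) : ZMod r) * 2 = 1 := by
    have := congrArg (Nat.cast : ℕ → ZMod r) h2
    simpa using this
  refine ⟨DihedralGroup.r ((i - j) * (((r + 1) / 2 : ℕ) : ZMod r)), ?_⟩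
  rw [DihedralGroup.r_mul_sr, DihedralGroup.inv_r, DihedralGroup.sr_mul_r]
  congr 1
  linear_combination (j - i) * h3

theorem dihedral_inverts (hr : r ≠ 2) {d x : DihedralGroup r} (hd : orderOf d = 2) (hx : x ^ r = 1) :
    d * x * d⁻¹ = x⁻¹ := by
  haveI : NeZero r := ⟨(Fact.out : r.Prime).ne_zero⟩
  obtain ⟨i, rfl⟩ := exists_sr hr hd
  rcases x with j | j
  · rw [DihedralGroup.sr_mul_r, DihedralGroup.inv_sr, DihedralGroup.sr_mul_sr, DihedralGroup.inv_r]
    congr 1
    ring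
  · refine absurd ?_ hr
    have h := orderOf_dvd_of_pow_eq_one hx
    rw [DihedralGroup.orderOf_sr] at h
    exact ((Nat.prime_dvd_prime_iff_eq Nat.prime_two Fact.out).1 h).symm

end Dihedral

variable {G : Type*} [Group G] [Finite G] {r : ℕ} [Fact r.Prime]

theorem conjugate_and_card (hr : r ≠ 2) [hN : (Cfsg.pCore 2 G).Normal]
    (hquot : Nonempty (G ⧸ Cfsg.pCore 2 G ≃* DihedralGroup r)) (R : Sylow r G)
    (hC : Cfsg.pCore 2 G ⊓ centralizer ((R : Subgroup G) : Set G) = ⊥) :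
    Nonempty (↥(normalizer ((R : Subgroup G) : Set G)) ≃* DihedralGroup r) ∧
      ∀ a : G, a ∈ normalizer ((R : Subgroup G) : Set G) → orderOf a = 2 →
        (∀ b : G, orderOf b = 2 → b ∉ Cfsg.pCore 2 G → ∃ g : G, g * a * g⁻¹ = b) ∧
          Nat.card ↥(Cfsg.pCore 2 G ⊓ centralizer ({a} : Set G)) ^ 2 =
            Nat.card ↥(Cfsg.pCore 2 G) := by
  haveI : Fact (Nat.Prime 2) := ⟨Nat.prime_two⟩
  haveI : NeZero r := ⟨(Fact.out : r.Prime).ne_zero⟩
  obtain ⟨e⟩ := hquot
  set O := Cfsg.pCore 2 G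
  set N := normalizer ((R : Subgroup G) : Set G)
  set q := QuotientGroup.mk' O
  have hq1 : ∀ g, q g = 1 ↔ g ∈ O := fun g => QuotientGroup.eq_one_iff g
  have hquotcard : Nat.card (G ⧸ O) = 2 * r := by
    rw [Nat.card_congr e.toEquiv, DihedralGroup.nat_card]
  have hRO : (R : Subgroup G) ⊓ O = ⊥ := by
    obtain ⟨i, hi⟩ := IsPGroup.iff_card.1 R.2
    obtain ⟨j, hj⟩ := IsPGroup.iff_card.1 (Solvable.isPGroup_pCore 2 (G := G))
    exact disjoint_iff.1 (Subgroup.disjoint_of_coprime_natCard (by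
      rw [hi, hj]
      exact ((Nat.coprime_primes Fact.out Nat.prime_two).2 hr).pow i j))
  -- `R` has order `r`
  have hRcard : Nat.card (R : Subgroup G) = r := by
    obtain ⟨i, hi⟩ := IsPGroup.iff_card.1 R.2
    have hinj : Function.Injective (q.comp (R : Subgroup G).subtype) := by
      rw [← MonoidHom.ker_eq_bot_iff, eq_bot_iff]
      intro x hx
      have h1 : (x : G) ∈ (R : Subgroup G) ⊓ O := ⟨x.2, (hq1 _).1 hx⟩
      rw [hRO, mem_bot] at h1
      exact mem_bot.2 (Subtype.ext h1)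
    have hdvd := card_dvd_of_injective _ hinj
    rw [hquotcard, hi] at hdvd
    have h1 : r ^ i ∣ r := (((Nat.coprime_primes Fact.out Nat.prime_two).2 hr).pow_left i).dvd_of_dvd_mul_left hdvd
    have hi0 : i ≠ 0 := by
      rintro rfl
      have h2 := R.dvd_card_of_dvd_card (by
        rw [← O.index_mul_card, index_eq_card, hquotcard]
        exact dvd_mul_of_dvd_left (dvd_mul_left r 2) _)
      change r ∣ Nat.card (R : Subgroup G) at h2
      rw [hi, pow_zero] at h2
      exact (Fact.out : r.Prime).not_dvd_one h2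
    exact hi.trans (Nat.dvd_antisymm h1 (dvd_pow_self r hi0))
  -- Frattini argument
  set M := ((R : Subgroup G).map q).comap q
  haveI : ((R : Subgroup G).map q).Normal := by
    refine Subgroup.normal_of_index_eq_two ?_
    have h := ((R : Subgroup G).map q).card_mul_index
    have hc : Nat.card ((R : Subgroup G).map q) = r := by
      refine Eq.trans (Nat.card_congr (Equiv.ofBijective
        (fun x : (R : Subgroup G) => (⟨q x, mem_map_of_mem q x.2⟩ : ((R : Subgroup G).map q)))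
        ⟨fun x y hxy => ?_, fun ⟨_, x, hx, rfl⟩ => ⟨⟨x, hx⟩, rfl⟩⟩)).symm hRcard
      have h1 : (x : G)⁻¹ * y ∈ (R : Subgroup G) ⊓ O :=
        ⟨(R : Subgroup G).mul_mem ((R : Subgroup G).inv_mem x.2) y.2, QuotientGroup.eq.1 (congrArg Subtype.val hxy)⟩
      rw [hRO, mem_bot, inv_mul_eq_one] at h1
      exact Subtype.ext h1
    rw [hquotcard, hc, mul_comm 2 r] at h
    exact Nat.eq_of_mul_eq_mul_left (Fact.out : r.Prime).pos h
  haveI : M.Normal := inferInstanceAs (((R : Subgroup G).map q).comap q).Normal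
  have hNsurj : ∀ g : G, ∃ n ∈ N, q n = q g := by
    intro g
    have htop := Sylow.normalizer_sup_eq_top' R (le_comap_map q _ : (R : Subgroup G) ≤ M)
    have hle : M ≤ (N.map q).comap q := comap_mono (map_mono le_normalizer)
    obtain ⟨n, hn, hnq⟩ := (sup_le (le_comap_map q N) hle) (htop.ge (mem_top g))
    exact ⟨n, hn, hnq⟩
  have hNO : ∀ n ∈ N, n ∈ O → n = 1 := by
    intro n hn hnO
    have h1 : n ∈ O ⊓ centralizer ((R : Subgroup G) : Set G) := by
      refine ⟨hnO, mem_centralizer_iff.2 fun x hx => ?_⟩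
      have h2 : n * x * n⁻¹ * x⁻¹ ∈ (R : Subgroup G) ⊓ O :=
        ⟨(R : Subgroup G).mul_mem ((mem_normalizer_iff.1 hn x).1 hx) ((R : Subgroup G).inv_mem hx), by
          rw [show n * x * n⁻¹ * x⁻¹ = n * (x * n⁻¹ * x⁻¹) by simp [mul_assoc]]
          exact mul_mem hnO (hN.conj_mem _ (inv_mem hnO) x)⟩
      rw [hRO, mem_bot, mul_inv_eq_one, mul_inv_eq_iff_eq_mul] at h2
      exact h2.symm
    rwa [hC, mem_bot] at h1
  have hbij : Function.Bijective (q.comp N.subtype) := by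
    refine ⟨(injective_iff_map_eq_one _).2 fun n hn => Subtype.ext (hNO n n.2 ((hq1 _).1 hn)),
      fun u => ?_⟩
    obtain ⟨g, rfl⟩ := QuotientGroup.mk'_surjective O u
    obtain ⟨n, hn, hnq⟩ := hNsurj g
    exact ⟨⟨n, hn⟩, hnq⟩
  let eN : N ≃* DihedralGroup r := (MulEquiv.ofBijective _ hbij).trans e
  refine ⟨⟨eN⟩, fun a haN ha => ?_⟩
  have ha2 : a * a = 1 := by rw [← pow_two, ← ha, pow_orderOf_eq_one]
  have hainv : a⁻¹ = a := inv_eq_of_mul_eq_one_right ha2
  have haord : orderOf (eN ⟨a, haN⟩) = 2 := by rw [eN.orderOf_eq, orderOf_mk, ha]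
  have hinv : ∀ x ∈ (R : Subgroup G), a * x * a⁻¹ = x⁻¹ := by
    intro x hx
    have hxr : (⟨x, le_normalizer hx⟩ : N) ^ r = 1 := Subtype.ext (by
      have h := pow_card_eq_one' (x := (⟨x, hx⟩ : (R : Subgroup G)))
      rw [hRcard] at h
      exact (congrArg Subtype.val h : x ^ r = 1))
    have h := dihedral_inverts hr haord (x := eN ⟨x, le_normalizer hx⟩) (by rw [← map_pow, hxr, map_one])
    rw [← map_inv, ← map_mul, ← map_mul, ← map_inv] at h
    exact congrArg Subtype.val (eN.injective h)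
  haveI : Nontrivial (R : Subgroup G) :=
    Finite.one_lt_card_iff_nontrivial.1 (by rw [hRcard]; exact (Fact.out : r.Prime).one_lt)
  obtain ⟨⟨x, hxR⟩, hx1⟩ := exists_ne (1 : (R : Subgroup G))
  have hRx : (R : Subgroup G) = zpowers x := by
    refine (eq_of_le_of_card_ge (zpowers_le.2 hxR) ?_).symm
    rw [hRcard, Nat.card_zpowers]
    have hd := Subgroup.orderOf_dvd_natCard _ hxR
    rw [hRcard] at hd
    rcases (Nat.dvd_prime Fact.out).1 hd with h | h
    · exact absurd (Subtype.ext (orderOf_eq_one_iff.1 h)) hx1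
    · exact h.ge
  have hCx : ∀ o ∈ O, o * x = x * o → o = 1 := fun o ho h => by
    have h1 : o ∈ O ⊓ centralizer ((R : Subgroup G) : Set G) := by
      refine ⟨ho, ?_⟩
      rw [hRx, zpowers_eq_closure, centralizer_closure]
      exact mem_centralizer_singleton_iff.2 h
    rwa [hC, mem_bot] at h1
  have hxr : x ^ r = 1 := by
    have h := pow_card_eq_one' (x := (⟨x, hxR⟩ : (R : Subgroup G)))
    rw [hRcard] at h
    exact congrArg Subtype.val h
  set a' := a * x
  have haO : a ∉ O := fun h => by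
    rw [hNO a haN h, orderOf_one] at ha
    omega
  -- elements over `a`, `a'` and `x`
  let I : G → Type _ := fun u => {b : G // b * b = 1 ∧ q b = q u}
  -- the conjugator from `a` to `a'`
  set c := x ^ ((r - 1) / 2)
  have hc2 : c * c = x⁻¹ := by
    rw [← pow_add, show (r - 1) / 2 + (r - 1) / 2 = r - 1 by
      obtain ⟨k, hk⟩ := (Fact.out : r.Prime).odd_of_ne_two hr; omega]
    exact eq_inv_of_mul_eq_one_left (by
      rw [← pow_succ, Nat.sub_add_cancel (Fact.out : r.Prime).one_lt.le, hxr])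
  have hcR : c ∈ (R : Subgroup G) := pow_mem hxR _
  have hca : c * a * c⁻¹ = a' := by
    have h1 : a * c * a⁻¹ = c⁻¹ := hinv c hcR
    calc c * a * c⁻¹ = (a * c * a⁻¹)⁻¹ * a * c⁻¹ := by rw [h1, inv_inv]
      _ = a * (c⁻¹ * c⁻¹) := by simp [mul_assoc]
      _ = a' := by rw [← mul_inv_rev, hc2, inv_inv]
  have hII : Nat.card (I a) = Nat.card (I a') := by
    refine Nat.card_congr
      { toFun := fun b => ⟨c * b.1 * c⁻¹, by rw [conj_mul, b.2.1, mul_one, mul_inv_cancel], by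
          rw [← hca, map_mul, map_mul, b.2.2, ← map_mul, ← map_mul]⟩
        invFun := fun b => ⟨c⁻¹ * b.1 * c⁻¹⁻¹, by rw [conj_mul, b.2.1, mul_one, mul_inv_cancel], by
          rw [map_mul, map_mul, b.2.2, ← map_mul, ← map_mul, ← hca]; simp [mul_assoc]⟩
        left_inv := fun b => Subtype.ext (by simp [mul_assoc])
        right_inv := fun b => Subtype.ext (by simp [mul_assoc]) }
  -- `O` acts regularly on the coset of `x`
  let T := {y : G // q y = q x}
  have hTO : Nat.card T = Nat.card O := by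
    refine Nat.card_congr
      { toFun := fun y => ⟨y.1 * x⁻¹, (hq1 _).1 (by rw [map_mul, y.2, map_inv, mul_inv_cancel])⟩
        invFun := fun o => ⟨o.1 * x, by rw [map_mul, (hq1 _).2 o.2, one_mul]⟩
        left_inv := fun y => Subtype.ext (by simp)
        right_inv := fun o => Subtype.ext (by simp) }
  let ψ : O → T := fun o => ⟨o.1 * x * o.1⁻¹, by rw [map_mul, map_mul, map_inv, (hq1 _).2 o.2]; simp⟩
  have hψ : Function.Bijective ψ := by
    refine (Nat.bijective_iff_injective_and_card ψ).2 ⟨fun o o' h => ?_, hTO.symm⟩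
    have h1 : o.1 * x * o.1⁻¹ = o'.1 * x * o'.1⁻¹ := congrArg Subtype.val h
    refine Subtype.ext (inv_mul_eq_one.1 (hCx _ (mul_mem (inv_mem o'.2) o.2) ?_)).symm
    calc o'.1⁻¹ * o.1 * x = o'.1⁻¹ * (o.1 * x * o.1⁻¹) * o.1 := by simp [mul_assoc]
      _ = x * (o'.1⁻¹ * o.1) := by rw [h1]; simp [mul_assoc]
  have ha'2 : a' * a' = 1 := by
    calc a * x * (a * x) = (a * x * a⁻¹) * (a * a) * x := by simp [mul_assoc]
      _ = 1 := by rw [hinv x hxR, ha2, mul_one, inv_mul_cancel]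
  let Φ : I a × I a' → T := fun p => ⟨p.1.1 * p.2.1, by
    rw [map_mul, p.1.2.2, p.2.2.2, ← map_mul, ← mul_assoc, ha2, one_mul]⟩
  have hΦ : Function.Bijective Φ := by
    constructor
    · rintro ⟨⟨b, hb, hbq⟩, ⟨b', hb', hb'q⟩⟩ ⟨⟨d, hd, hdq⟩, ⟨d', hd', hd'q⟩⟩ h
      have h' : b * b' = d * d' := congrArg Subtype.val h
      obtain ⟨⟨o, ho⟩, hy⟩ := hψ.2 (Φ (⟨b, hb, hbq⟩, ⟨b', hb', hb'q⟩))
      have hy' : o * x * o⁻¹ = b * b' := congrArg Subtype.val hy
      have key : ∀ i i' : G, i * i = 1 → i' * i' = 1 → q i = q a → i * i' = o * x * o⁻¹ →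
          o⁻¹ * i * o = a := by
        intro i i' hi hi' hiq hii
        set j := o⁻¹ * i * o
        have hxj : x = o⁻¹ * (i * i') * o := by rw [hii]; simp [mul_assoc]
        have hjx : j * x * j⁻¹ = x⁻¹ := by
          rw [hxj]
          simp [j, mul_assoc, inv_eq_of_mul_eq_one_right hi, inv_eq_of_mul_eq_one_right hi']
          rw [← mul_assoc i i, hi, one_mul]
        have hjN : j ∈ N := by
          refine mem_normalizer_iff_map_conj_eq.2 ?_
          rw [hRx, MonoidHom.map_zpowers]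
          show zpowers (j * x * j⁻¹) = zpowers x
          rw [hjx, zpowers_inv]
        have hjO : j * a⁻¹ ∈ O := (hq1 _).1 (by
          rw [map_mul, map_mul, map_mul, map_inv, hiq, (hq1 _).2 ho]
          simp)
        exact mul_inv_eq_one.1 (hNO _ (mul_mem hjN (inv_mem haN)) hjO)
      have e1 := key b b' hb hb' hbq hy'.symm
      have e2 := key d d' hd hd' hdq (h'.symm.trans hy'.symm)
      have hbd : b = d := by
        have := e1.trans e2.symm
        simpa [mul_assoc] using this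
      have hbd' : b' = d' := by subst hbd; exact mul_left_cancel h'
      subst hbd hbd'
      rfl
    · intro y
      obtain ⟨⟨o, ho⟩, rfl⟩ := hψ.2 y
      refine ⟨(⟨o * a * o⁻¹, by rw [conj_mul, ha2, mul_one, mul_inv_cancel],
        by rw [map_mul, map_mul, map_inv, (hq1 _).2 ho]; simp⟩,
        ⟨o * a' * o⁻¹, by rw [conj_mul, ha'2, mul_one, mul_inv_cancel],
        by rw [map_mul, map_mul, map_inv, (hq1 _).2 ho]; simp⟩), Subtype.ext ?_⟩
      show o * a * o⁻¹ * (o * a' * o⁻¹) = o * x * o⁻¹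
      rw [conj_mul, ← mul_assoc a a x, ha2, one_mul]
  have hsq : Nat.card (I a) * Nat.card (I a) = Nat.card O := by
    conv_lhs => arg 2; rw [hII]
    rw [← Nat.card_prod, Nat.card_congr (Equiv.ofBijective Φ hΦ), hTO]
  -- centralizers
  set C := O ⊓ centralizer ({a} : Set G)
  have hCC : Nat.card C * Nat.card C ≤ Nat.card O := by
    rw [← Nat.card_prod]
    have hmem : ∀ v : C, c * v.1 * c⁻¹ ∈ O := fun v => hN.conj_mem _ v.2.1 c
    refine Nat.card_le_card_of_injective
      (fun p : C × C => (⟨p.1.1 * (c * p.2.1 * c⁻¹), mul_mem p.1.2.1 (hmem _)⟩ : O)) ?_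
    rintro ⟨u, v⟩ ⟨u', v'⟩ h
    have h' : u.1 * (c * v.1 * c⁻¹) = u'.1 * (c * v'.1 * c⁻¹) := congrArg Subtype.val h
    have e1 : u'.1⁻¹ * u.1 = c * (v'.1 * v.1⁻¹) * c⁻¹ := by
      calc u'.1⁻¹ * u.1 = u'.1⁻¹ * (u.1 * (c * v.1 * c⁻¹)) * (c * v.1 * c⁻¹)⁻¹ := by simp [mul_assoc]
        _ = _ := by rw [h']; simp [mul_assoc]
    set w := u'.1⁻¹ * u.1
    have hwa : w * a = a * w :=
      mem_centralizer_singleton_iff.1 (mul_mem (inv_mem u'.2.2) u.2.2)
    have hwa' : w * a' = a' * w := by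
      have hv : (v'.1 * v.1⁻¹) * a = a * (v'.1 * v.1⁻¹) :=
        mem_centralizer_singleton_iff.1 (mul_mem v'.2.2 (inv_mem v.2.2))
      rw [e1, ← hca, conj_mul, hv, ← conj_mul]
    have hw1 : w = 1 := by
      refine hCx w (mul_mem (inv_mem u'.2.1) u.2.1) ?_
      calc w * x = (a * a) * w * x := by rw [ha2, one_mul]
        _ = a * ((a * w) * x) := by simp [mul_assoc]
        _ = a * (w * a') := by rw [← hwa]; simp [a', mul_assoc]
        _ = a * (a' * w) := by rw [hwa']
        _ = x * w := by simp only [a', ← mul_assoc]; rw [ha2, one_mul]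
    have hu : u' = u := Subtype.ext (inv_mul_eq_one.1 hw1)
    subst hu
    have hv : v = v' := Subtype.ext (by simpa using mul_left_cancel h')
    rw [hv]
  set K := C.subgroupOf O
  let orb : O ⧸ K → I a := Quotient.lift (fun o : O => (⟨o.1 * a * o.1⁻¹,
      by rw [conj_mul, ha2, mul_one, mul_inv_cancel],
      by rw [map_mul, map_mul, map_inv, (hq1 _).2 o.2]; simp⟩ : I a)) (fun o o' h => Subtype.ext (by
    obtain ⟨-, h2⟩ := mem_subgroupOf.1 (QuotientGroup.leftRel_apply.1 h)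
    have h3 := mem_centralizer_singleton_iff.1 h2
    simp only [Subgroup.coe_mul, Subgroup.coe_inv] at h3
    calc o.1 * a * o.1⁻¹ = o.1 * (a * (o.1⁻¹ * o'.1)) * o'.1⁻¹ := by simp [mul_assoc]
      _ = o'.1 * a * o'.1⁻¹ := by rw [← h3]; simp [mul_assoc]))
  have horb : Function.Injective orb := by
    rintro ⟨o⟩ ⟨o'⟩ h
    have h' : o.1 * a * o.1⁻¹ = o'.1 * a * o'.1⁻¹ := congrArg Subtype.val h
    refine QuotientGroup.eq.2 (mem_subgroupOf.2 ⟨O.mul_mem (O.inv_mem o.2) o'.2,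
      mem_centralizer_singleton_iff.2 ?_⟩)
    simp only [Subgroup.coe_mul, Subgroup.coe_inv]
    calc o.1⁻¹ * o'.1 * a = o.1⁻¹ * (o'.1 * a * o'.1⁻¹) * o'.1 := by simp [mul_assoc]
      _ = a * (o.1⁻¹ * o'.1) := by rw [← h']; simp [mul_assoc]
  have h1 : Nat.card (O ⧸ K) ≤ Nat.card (I a) := Nat.card_le_card_of_injective _ horb
  have h2 : Nat.card C * Nat.card (O ⧸ K) = Nat.card O := by
    rw [← Nat.card_congr (subgroupOfEquivOfLe (inf_le_left : C ≤ O)).toEquiv, ← index_eq_card]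
    exact K.card_mul_index
  have hpos : 0 < Nat.card O := Nat.card_pos
  have hCI : Nat.card C = Nat.card (I a) ∧ Nat.card (O ⧸ K) = Nat.card (I a) := by
    have h3 : Nat.card C ≤ Nat.card (I a) := Nat.mul_self_le_mul_self_iff.1 (hCC.trans hsq.ge)
    have h4 : 0 < Nat.card (O ⧸ K) := Nat.card_pos
    constructor <;> nlinarith
  refine ⟨fun b hb hbO => ?_, by rw [pow_two, hCI.1, hsq]⟩
  obtain ⟨n, hn, hnb⟩ := hNsurj b
  have hb2 : b * b = 1 := by rw [← pow_two, ← hb, pow_orderOf_eq_one]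
  have hn2 : orderOf n = 2 := by
    refine orderOf_eq_prime ?_ fun h => hbO ((hq1 _).1 (by rw [← hnb, h, map_one]))
    refine hNO _ (pow_mem hn 2) ((hq1 _).1 ?_)
    rw [map_pow, hnb, pow_two, ← map_mul, hb2, map_one]
  obtain ⟨d, hd⟩ := dihedral_conj hr (d' := eN ⟨n, hn⟩) haord (by rw [eN.orderOf_eq, orderOf_mk, hn2])
  obtain ⟨d, rfl⟩ := eN.surjective d
  rw [← map_inv, ← map_mul, ← map_mul] at hd
  have hd' : (d : G) * a * (d : G)⁻¹ = n := congrArg Subtype.val (eN.injective hd)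
  have horbs := ((Nat.bijective_iff_injective_and_card orb).2 ⟨horb, hCI.2⟩).2
    ⟨(d : G)⁻¹ * b * (d : G)⁻¹⁻¹, by rw [conj_mul, hb2, mul_one, mul_inv_cancel], by
      rw [map_mul, map_mul, ← hnb, ← map_mul, ← map_mul, ← hd']; simp [mul_assoc]⟩
  obtain ⟨⟨o⟩, ho⟩ := horbs
  refine ⟨d * o.1, ?_⟩
  have h' : o.1 * a * o.1⁻¹ = (d : G)⁻¹ * b * (d : G)⁻¹⁻¹ := congrArg Subtype.val ho
  calc (d : G) * o.1 * a * ((d : G) * o.1)⁻¹ = d * (o.1 * a * o.1⁻¹) * (d : G)⁻¹ := by simp [mul_assoc]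
    _ = b := by rw [h']; simp [mul_assoc]

end CfsgLib.DihedralTop
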