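import Cfsg.Agent.FGSA.Extraspecial
import Mathlib.GroupTheory.PGroup

/-!
Elements of order 4 in extraspecial 2-groups of plus type.
-/

set_option autoImplicit false
set_option linter.style.haveILetI false

namespace CfsgLib.ExtraCount

open Subgroup
open scoped commutatorElement

variable {E : Type*} [Group E] [Finite E] {p : ℕ} [Fact p.Prime]

/-- `|H| |C(H)| ≤ |E| |Z(E)|` in an extraspecial group. -/
theorem card_mul_card_centralizer_le (hE : Cfsg.IsExtraspecial p E) :
    ∀ H : Subgroup E, center E ≤ H →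
      Nat.card H * Nat.card (centralizer (H : Set E)) ≤ Nat.card (center E) * Nat.card E := by
  intro H
  induction H using WellFoundedLT.induction with
  | ind H ih =>
    intro hZ
    by_cases hH : H ≤ center E
    · rw [le_antisymm hH hZ]
      exact Nat.mul_le_mul_left _ (card_le_card_group _)
    obtain ⟨x, hx, hxZ⟩ := SetLike.not_le_iff_exists.1 hH
    obtain ⟨y, hxy⟩ : ∃ y, ¬ Commute x y := by
      by_contra! h
      exact hxZ (mem_center_iff.2 fun g => (h g).eq.symm)
    obtain ⟨h1, -⟩ := Extraspecial.card_commHom_step hE hx hxy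
    set H₁ := H ⊓ centralizer ({y} : Set E)
    have hlt : H₁ < H :=
      lt_of_le_of_ne inf_le_left fun e => hxy (mem_centralizer_singleton_iff.1 (e.ge hx).2)
    have h2 := ih H₁ hlt (le_inf hZ (center_le_centralizer _))
    set C := centralizer (H : Set E)
    set C₁ := centralizer (H₁ : Set E)
    have hle : C ≤ C₁ := centralizer_le inf_le_left
    have hy : y ∈ C₁ := mem_centralizer_iff.2 fun h hh => mem_centralizer_singleton_iff.1 hh.2
    have hyC : y ∉ C := fun h => hxy (mem_centralizer_iff.1 h x hx)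
    obtain ⟨d, hd⟩ := card_dvd_of_le hle
    have hd2 : p ≤ d := by
      obtain ⟨a, ha⟩ := IsPGroup.iff_card.1 (hE.1.1.to_subgroup C)
      obtain ⟨b, hb⟩ := IsPGroup.iff_card.1 (hE.1.1.to_subgroup C₁)
      rcases Nat.lt_or_ge a b with hab | hab
      · obtain ⟨c, rfl⟩ := Nat.exists_eq_add_of_lt hab
        rw [ha, hb, add_assoc, pow_add] at hd
        rw [← Nat.eq_of_mul_eq_mul_left (pow_pos (Fact.out : p.Prime).pos a) hd]
        exact Nat.le_self_pow (by omega) p
      · refine absurd ((eq_of_le_of_card_ge hle ?_).ge hy) hyC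
        rw [ha, hb]
        exact Nat.pow_le_pow_right (Fact.out : p.Prime).pos hab
    calc Nat.card H * Nat.card C = Nat.card H₁ * (p * Nat.card C) := by rw [h1]; ring
      _ ≤ Nat.card H₁ * Nat.card C₁ := by
          refine Nat.mul_le_mul_left _ ?_
          rw [hd, mul_comm]
          exact Nat.mul_le_mul_left _ hd2
      _ ≤ _ := h2

theorem card_orderOf_four {E : Type*} [Group E] [Finite E] (m : ℕ) (hE : Cfsg.IsExtraspecial 2 E)
    (hcard : Nat.card E = 2 ^ (2 * m + 1))
    (hplus : ∃ A : Subgroup E, Cfsg.IsElementaryAbelian 2 A ∧ Nat.card A = 2 ^ (m + 1)) :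
    Nat.card {x : E // orderOf x = 4} = 2 ^ (2 * m) - 2 ^ m := by
  classical
  haveI : Fact (Nat.Prime 2) := ⟨Nat.prime_two⟩
  haveI := Fintype.ofFinite E
  obtain ⟨A, ⟨hAc, hAe⟩, hA⟩ := hplus
  haveI := hAc
  have hcomm : ∀ a ∈ A, ∀ b ∈ A, a * b = b * a := fun a ha b hb => setLike_mul_comm (s := A) ha hb
  -- `A` contains the centre and is its own centralizer
  have hbound : ∀ B : Subgroup E, center E ≤ B → B ≤ centralizer (B : Set E) →
      Nat.card B * Nat.card (centralizer (B : Set E)) ≤ Nat.card A * Nat.card A := fun B h1 _ => by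
    refine (card_mul_card_centralizer_le hE B h1).trans (le_of_eq ?_)
    rw [hA, hE.2, hcard]
    ring
  have hAA : A ≤ centralizer (A : Set E) := fun a ha => mem_centralizer_iff.2 fun b hb => hcomm b hb a ha
  have hZA : center E ≤ A := by
    set B := A ⊔ center E
    have hBB : B ≤ centralizer (B : Set E) := by
      refine sup_le (le_centralizer_iff.1 (sup_le hAA ?_)) (center_le_centralizer _)
      exact center_le_centralizer _
    have h1 := hbound B le_sup_right hBB
    have h2 : Nat.card B * Nat.card B ≤ Nat.card A * Nat.card A :=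
      (Nat.mul_le_mul_left _ (Subgroup.card_le_of_le hBB)).trans h1
    exact le_sup_right.trans
      (eq_of_le_of_card_ge (le_sup_left : A ≤ B) (Nat.mul_self_le_mul_self_iff.1 h2)).ge
  have hCA : centralizer (A : Set E) = A := (eq_of_le_of_card_ge hAA (Nat.le_of_mul_le_mul_left
    (hbound A hZA hAA) Nat.card_pos)).symm
  -- a partner in `A` for each coset
  have hpick : ∀ q : E ⧸ A, ∃ a ∈ A, q.out ∉ A → ¬ Commute q.out a := by
    intro q
    by_cases h : q.out ∈ A
    · exact ⟨1, one_mem _, fun h' => absurd h h'⟩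
    · replace h : q.out ∉ centralizer (A : Set E) := fun h' => h (hCA.le h')
      rw [mem_centralizer_iff] at h
      push Not at h
      obtain ⟨a, ha, hne⟩ := h
      exact ⟨a, ha, fun _ hc => hne hc.eq.symm⟩
  choose f hfA hf using hpick
  have hnc : ∀ x : E, x ∉ A → ¬ Commute x (f (x : E ⧸ A)) := by
    intro x hx hc
    obtain ⟨a, ha⟩ := QuotientGroup.mk_out_eq_mul A x
    refine hf (x : E ⧸ A) (fun h => hx ?_) ?_
    · rw [ha] at h
      simpa using mul_mem h (inv_mem a.2)
    · rw [ha]
      exact hc.mul_left (hcomm _ a.2 _ (hfA _))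
  let g : E → E := fun x => x * f (x : E ⧸ A)
  have hgq : ∀ x : E, ((g x : E) : E ⧸ A) = x := fun x => QuotientGroup.eq.2 (by
    simp only [g, mul_inv_rev, inv_mul_cancel_right]
    exact inv_mem (hfA _))
  have hgg : ∀ x, g (g x) = x := fun x => by
    have h2 := hAe _ (hfA (x : E ⧸ A))
    show g x * f (g x : E ⧸ A) = x
    rw [hgq]
    show x * f (x : E ⧸ A) * f (x : E ⧸ A) = x
    rw [mul_assoc, ← pow_two, h2, mul_one]
  have hgA : ∀ x, g x ∈ A ↔ x ∈ A := fun x => Subgroup.mul_mem_cancel_right A (hfA _)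
  have hsq : ∀ x : E, x ^ 2 ∈ center E := Extraspecial.pow_mem_center hE
  have htwo : ∀ u ∈ center E, ∀ v ∈ center E, u ≠ 1 → v ≠ 1 → u = v := by
    intro u hu v hv hu1 hv1
    obtain ⟨a, b, hab, huniv⟩ := Nat.card_eq_two_iff.1 hE.2
    by_contra hne
    have hU : ∀ w : center E, w = a ∨ w = b := fun w => by
      have : w ∈ ({a, b} : Set (center E)) := huniv ▸ Set.mem_univ w
      simpa using this
    rcases hU 1 with h1 | h1 <;> rcases hU ⟨u, hu⟩ with h2 | h2 <;> rcases hU ⟨v, hv⟩ with h3 | h3 <;>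
      first
        | exact hu1 (congrArg Subtype.val (h2.trans h1.symm))
        | exact hv1 (congrArg Subtype.val (h3.trans h1.symm))
        | exact hne (congrArg Subtype.val (h2.trans h3.symm))
  have hflip : ∀ x : E, x ∉ A → ((g x) ^ 2 = 1 ↔ ¬ x ^ 2 = 1) := by
    intro x hx
    set a := f (x : E ⧸ A)
    have ha2 : a * a = 1 := by rw [← pow_two]; exact hAe _ (hfA _)
    have hdiff : (g x) ^ 2 ≠ x ^ 2 := by
      intro h
      apply hnc x hx
      show x * a = a * x
      have h1 : (x * a) * (x * a) = x * x := by simpa [g, pow_two] using h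
      calc x * a = (x * a * (x * a)) * (a⁻¹ * x⁻¹) := by simp [mul_assoc]
        _ = x * x * (a⁻¹ * x⁻¹) := by rw [h1]
        _ = x * x * (a * x⁻¹) := by rw [inv_eq_of_mul_eq_one_right ha2]
        _ = a * x := by
          rw [show a * x = x * x * ((x * x)⁻¹ * (a * x)) by simp [mul_assoc],
            show (x * x)⁻¹ * (a * x) = a * ((x * x)⁻¹ * x) by
              have hc : Commute (x * x) a := by
                rw [← pow_two]; exact (mem_center_iff.1 (hsq x) a).symm
              rw [← mul_assoc, hc.inv_left.eq, mul_assoc]]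
          simp [mul_assoc]
    constructor
    · exact fun h h' => hdiff (h.trans h'.symm)
    · exact fun h => by_contra fun h' => hdiff (htwo _ (hsq _) _ (hsq _) h' h)
  -- the outside elements split in halves
  set P : Finset E := Finset.univ.filter fun x => x ∉ A ∧ x ^ 2 ≠ 1
  set Q : Finset E := Finset.univ.filter fun x => x ∉ A ∧ x ^ 2 = 1
  have hPQ : P.card = Q.card := by
    refine Finset.card_nbij' g g (fun x hx => ?_) (fun x hx => ?_) (fun x _ => hgg x) (fun x _ => hgg x)
    · simp only [P, Q, Finset.coe_filter, Finset.mem_univ, true_and, Set.mem_ofPred_eq] at hx ⊢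
      exact ⟨fun h => hx.1 ((hgA x).1 h), (hflip x hx.1).2 hx.2⟩
    · simp only [P, Q, Finset.coe_filter, Finset.mem_univ, true_and, Set.mem_ofPred_eq] at hx ⊢
      exact ⟨fun h => hx.1 ((hgA x).1 h), fun h => ((hflip x hx.1).1 h) hx.2⟩
  have hsum : P.card + Q.card + Nat.card A = Nat.card E := by
    have h1 := Finset.card_filter_add_card_filter_not (s := (Finset.univ : Finset E)) (fun x => x ∈ A)
    have h2 := Finset.card_filter_add_card_filter_not
      (s := Finset.univ.filter fun x : E => x ∉ A) (fun x => x ^ 2 = 1)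
    rw [Finset.filter_filter, Finset.filter_filter] at h2
    have h3 : Nat.card A = (Finset.univ.filter fun x : E => x ∈ A).card := by
      rw [Nat.card_eq_fintype_card, Fintype.card_subtype]
    rw [Nat.card_eq_fintype_card (α := E), ← Finset.card_univ, ← h1, h3]
    simp only [P, Q, ne_eq]
    omega
  have hset : Nat.card {x : E // orderOf x = 4} = P.card := by
    rw [Nat.card_eq_fintype_card, Fintype.card_subtype]
    congr 1
    ext x
    simp only [P, Finset.mem_filter, Finset.mem_univ, true_and]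
    constructor
    · intro h
      have h2 : x ^ 2 ≠ 1 := fun e => by
        have := Nat.le_of_dvd (by norm_num) (h ▸ orderOf_dvd_of_pow_eq_one e)
        omega
      exact ⟨fun hx => h2 (hAe x hx), h2⟩
    · rintro ⟨-, h2⟩
      exact orderOf_eq_prime_pow (p := 2) (n := 1) (by simpa using h2)
        (by simpa using Extraspecial.sq_dvd hE x)
  rw [hset]
  have e1 : 2 ^ (2 * m + 1) = 2 * 2 ^ (2 * m) := by ring
  have e2 : 2 ^ (m + 1) = 2 * 2 ^ m := by ring
  rw [hcard, hA, e1, e2] at hsum
  omega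

theorem four_dvd {E : Type*} [Group E] [Finite E] (m : ℕ) (hE : Cfsg.IsExtraspecial 2 E)
    (hcard : Nat.card E = 2 ^ (2 * m + 1))
    (hplus : ∃ A : Subgroup E, Cfsg.IsElementaryAbelian 2 A ∧ Nat.card A = 2 ^ (m + 1))
    (ω : E ≃* E) (hω : orderOf ω = 5) (hfix : ∀ x : E, ω x = x ↔ x ∈ center E) : 4 ∣ m := by
  haveI : Fact (Nat.Prime 5) := ⟨by norm_num⟩
  have hord : ∀ (σ : E ≃* E) (x : E), orderOf (σ x) = orderOf x := fun σ x => σ.orderOf_eq x
  letI act : MulAction (zpowers (ω : MulAut E)) {x : E // orderOf x = 4} :=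
    { smul := fun σ x => ⟨(σ : MulAut E) x.1, (hord _ _).trans x.2⟩
      one_smul := fun _ => Subtype.ext rfl
      mul_smul := fun _ _ _ => Subtype.ext rfl }
  have hp5 : IsPGroup 5 (zpowers (ω : MulAut E)) :=
    IsPGroup.of_card (n := 1) (by rw [Nat.card_zpowers, pow_one]; exact hω)
  have h := hp5.card_modEq_card_fixedPoints {x : E // orderOf x = 4}
  haveI : IsEmpty (MulAction.fixedPoints (zpowers (ω : MulAut E)) {x : E // orderOf x = 4}) := ⟨by
    rintro ⟨⟨x, hx⟩, hfx⟩
    have h1 : ω x = x := congrArg Subtype.val (hfx ⟨ω, mem_zpowers _⟩)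
    have h2 := (hfix x).1 h1
    have h3 := Subgroup.orderOf_dvd_natCard _ h2
    rw [hE.2, hx] at h3
    exact absurd (Nat.le_of_dvd two_pos h3) (by norm_num)⟩
  rw [Nat.card_of_isEmpty (α := MulAction.fixedPoints (zpowers (ω : MulAut E)) {x : E // orderOf x = 4}),
    card_orderOf_four m hE hcard hplus, Nat.modEq_zero_iff_dvd,
    show 2 ^ (2 * m) - 2 ^ m = 2 ^ m * (2 ^ m - 1) by rw [Nat.mul_sub_one]; ring_nf] at h
  have h5 : 5 ∣ 2 ^ m - 1 :=
    (((by norm_num : Nat.Coprime 5 2).pow_right m).dvd_of_dvd_mul_left h)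
  have hr : 2 ^ m % 5 = 1 := by
    have := Nat.one_le_two_pow (n := m)
    omega
  have hm : m % 4 = 0 := by
    have e : 2 ^ m = 16 ^ (m / 4) * 2 ^ (m % 4) := by
      rw [show (16 : ℕ) = 2 ^ 4 by norm_num, ← pow_mul, ← pow_add, Nat.div_add_mod]
    rw [e, Nat.mul_mod, Nat.pow_mod] at hr
    have hlt : m % 4 < 4 := Nat.mod_lt _ (by norm_num)
    interval_cases h4 : m % 4 <;> simp_all
  exact Nat.dvd_of_mod_eq_zero hm

end CfsgLib.ExtraCount
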