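import Cfsg.Prelude.Def_Local
import Cfsg.Agent.Comp.Layer
import Cfsg.Agent.Solvable.CoprimeAct

/-!
A `p`-group acting on a group `L = F*(L)` whose Fitting subgroup has order prime to `p`:
`L = [L,Y] C_L(Y)` and `[L,Y] = [L,Y,Y]`.
-/

set_option autoImplicit false
set_option linter.style.haveILetI false

namespace CfsgLib.FStarAct

open Subgroup
open scoped commutatorElement

variable {G : Type*} [Group G]

theorem normalizer_inf_le_commutator (A B : Subgroup G) :
    normalizer (A : Set G) ⊓ normalizer (B : Set G) ≤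
      normalizer ((⁅A, B⁆ : Subgroup G) : Set G) := by
  intro g hg
  have hmap : ∀ {K : Subgroup G} {x : G}, x ∈ normalizer (K : Set G) →
      K.map (MulAut.conj x).toMonoidHom = K := by
    intro K x hx
    ext y
    simp only [Subgroup.mem_map, MulEquiv.coe_toMonoidHom, MulAut.conj_apply]
    constructor
    · rintro ⟨z, hz, rfl⟩
      exact (mem_normalizer_iff.mp hx z).mp hz
    · intro hy
      exact ⟨x⁻¹ * y * x, (mem_normalizer_iff''.mp hx y).mp hy, by group⟩
  have h : (⁅A, B⁆).map (MulAut.conj g).toMonoidHom = ⁅A, B⁆ := by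
    rw [map_commutator, hmap hg.1, hmap hg.2]
  rw [mem_normalizer_iff]
  intro y
  conv_rhs => rw [← h]
  constructor
  · exact fun hy => ⟨y, hy, rfl⟩
  · rintro ⟨z, hz, hzy⟩
    have : z = y := by simpa using hzy
    exact this ▸ hz

theorem normalizer_le_map_char (P : Subgroup G) (H : Subgroup P) [hH : H.Characteristic] :
    normalizer (P : Set G) ≤ normalizer (H.map P.subtype : Set G) := by
  intro g hg
  have key : ∀ g' : normalizer (P : Set G), ∀ y ∈ H.map P.subtype,
      (g' : G) * y * (g' : G)⁻¹ ∈ H.map P.subtype := by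
    rintro g' _ ⟨z, hz, rfl⟩
    exact ⟨P.normalizerMonoidHom g' z, characteristic_iff_le_comap.1 hH _ hz, rfl⟩
  rw [mem_normalizer_iff]
  refine fun y => ⟨key ⟨g, hg⟩ y, fun h => ?_⟩
  have := key ⟨g⁻¹, inv_mem hg⟩ _ h
  simpa [mul_assoc] using this

variable [Finite G]

/-- A component of `L` (seen in the ambient group) lies in a normal subgroup `N` of `L` containing
`[K, Y]`, or is centralized by `Y`. -/
theorem component_le_or_centralized {L Y N : Subgroup G} {K : Subgroup L}
    (hK : Cfsg.IsComponent K) (hN : N ≤ L) (hNn : L ≤ normalizer (N : Set G))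
    (hKY : ⁅K.map L.subtype, Y⁆ ≤ N) :
    K.map L.subtype ≤ N ∨ ⁅K.map L.subtype, Y⁆ = ⊥ := by
  have hn : (N.subgroupOf L).Normal := normal_subgroupOf_of_le_normalizer hNn
  rcases Comp.component_le_or_commutator_eq_bot hK hn.isSubnormal with h | h
  · left
    have := map_mono (f := L.subtype) h
    rwa [map_subgroupOf_eq_of_le hN] at this
  · right
    have h' : ⁅K.map L.subtype, N⁆ = ⊥ := by
      have := congrArg (map L.subtype) h
      rwa [map_commutator, map_subgroupOf_eq_of_le hN, Subgroup.map_bot] at this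
    have hperf : ⁅K.map L.subtype, K.map L.subtype⁆ = K.map L.subtype := by
      rw [← map_commutator, Comp.component_perfect hK]
    rw [commutator_comm]
    refine Comp.commutator_eq_bot_of_perfect hperf ?_
    rw [eq_bot_iff, ← h', commutator_comm (K.map L.subtype) N, commutator_comm Y]
    exact commutator_mono hKY le_rfl

/-- The decomposition. -/
theorem act {p : ℕ} [Fact p.Prime] {L Y : Subgroup G} (hY : IsPGroup p Y)
    (hYL : Y ≤ normalizer (L : Set G)) (hFs : Cfsg.generalizedFittingSubgroup L = ⊤)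
    (hp : ¬ p ∣ Nat.card (Cfsg.fittingSubgroup L)) :
    ⁅L, Y⁆ ⊔ (L ⊓ centralizer (Y : Set G)) = L ∧ ⁅L, Y⁆ = ⁅⁅L, Y⁆, Y⁆ := by
  set FL := (Cfsg.fittingSubgroup L).map L.subtype with hFL
  set C := L ⊓ centralizer (Y : Set G) with hC
  set N := ⁅L, Y⁆ with hN
  set N2 := ⁅N, Y⁆ with hN2
  have hNL : N ≤ L := le_normalizer_iff_commutator_le_left.1 hYL
  have hN2N : N2 ≤ N := le_normalizer_iff_commutator_le_left.1 (normalizer_commutator_ge_right _ _)
  haveI : (Cfsg.fittingSubgroup L).Characteristic :=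
    characteristic_iff_map_le.mpr fun e => Comp.map_fitting_le e
  have hYF : Y ≤ normalizer (FL : Set G) := hYL.trans (normalizer_le_map_char L _)
  have hcop : (Nat.card Y).Coprime (Nat.card FL) := by
    obtain ⟨k, hk⟩ := IsPGroup.iff_card.1 hY
    rw [hk]
    refine Nat.Coprime.pow_left k ((Fact.out : p.Prime).coprime_iff_not_dvd.mpr ?_)
    rwa [hFL, card_map_of_injective L.subtype_injective]
  have hsol : Group.IsSolvable Y ∨ Group.IsSolvable FL := by
    haveI : Group.IsNilpotent Y := hY.isNilpotent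
    exact Or.inl inferInstance
  have hFC : FL ⊓ centralizer (Y : Set G) ≤ C := inf_le_inf_right _ (map_subtype_le _)
  have hcover : ∀ M : Subgroup G, M ≤ L → L ≤ normalizer (M : Set G) → ⁅FL, Y⁆ ≤ M →
      (∀ K : Subgroup L, Cfsg.IsComponent K →
        K.map L.subtype ≤ M ∨ ⁅K.map L.subtype, Y⁆ = ⊥) → M ⊔ C = L := by
    intro M hML hMn hFM hcomp
    refine le_antisymm (sup_le hML inf_le_left) ?_
    have h : L ≤ (Cfsg.layer L).map L.subtype ⊔ FL := by
      rw [hFL, ← Subgroup.map_sup]
      change L ≤ (Cfsg.generalizedFittingSubgroup L).map L.subtype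
      rw [hFs, ← MonoidHom.range_eq_map, range_subtype]
    refine h.trans (sup_le ?_ ?_)
    · refine map_le_iff_le_comap.mpr (Comp.layer_le fun K hK => map_le_iff_le_comap.mp ?_)
      rcases hcomp K hK with h | h
      · exact h.trans le_sup_left
      · exact (le_inf (map_subtype_le K)
          (commutator_eq_bot_iff_le_centralizer.mp h)).trans le_sup_right
    · calc FL = ⁅FL, Y⁆ ⊔ (FL ⊓ centralizer (Y : Set G)) :=
            (CoprimeAct.commutator_sup_centralizer hYF hcop hsol).symm
        _ ≤ M ⊔ C := sup_le_sup hFM hFC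
  have hFN : ⁅FL, Y⁆ ≤ N := commutator_mono (map_subtype_le _) le_rfl
  have h1 : N ⊔ C = L := hcover N hNL (normalizer_commutator_ge_left _ _) hFN fun K hK =>
    component_le_or_centralized hK hNL (normalizer_commutator_ge_left _ _)
      (commutator_mono (map_subtype_le _) le_rfl)
  refine ⟨h1, le_antisymm ?_ hN2N⟩
  have hN2n : L ≤ normalizer (N2 : Set G) := by
    rw [← h1]
    refine sup_le (normalizer_commutator_ge_left _ _) ?_
    exact le_trans (le_inf (inf_le_left.trans (normalizer_commutator_ge_left _ _))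
      (inf_le_right.trans (centralizer_le_normalizer _))) (normalizer_inf_le_commutator N Y)
  have hF2 : ⁅FL, Y⁆ ≤ N2 := by
    rw [← CoprimeAct.commutator_commutator hYF hcop hsol]
    exact commutator_mono hFN le_rfl
  have h2 : N2 ⊔ C = L := hcover N2 (hN2N.trans hNL) hN2n hF2 fun K hK => by
    rcases component_le_or_centralized hK hNL (normalizer_commutator_ge_left L Y)
      (commutator_mono (map_subtype_le _) le_rfl) with h | h
    · exact component_le_or_centralized hK (hN2N.trans hNL) hN2n (commutator_mono h le_rfl)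
    · exact Or.inr h
  rw [hN, commutator_le]
  intro l hl y hy
  have hCn : C ≤ normalizer (N2 : Set G) := inf_le_left.trans hN2n
  rw [← h2, sup_comm, ← SetLike.mem_coe, coe_mul_of_left_le_normalizer_right _ _ hCn] at hl
  obtain ⟨c, hc, n, hn, rfl⟩ := Set.mem_mul.mp hl
  have hcy : ⁅c, y⁆ = 1 :=
    commutatorElement_eq_one_iff_mul_comm.2 ((mem_centralizer_iff.1 (mem_inf.1 hc).2) y hy).symm
  rw [commutatorElement_mul_left_eq_conj_mul, hcy, mul_one]
  exact (mem_normalizer_iff.1 (hCn hc) _).1 (commutator_mem_commutator (hN2N hn) hy)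

/-- `F*(A) ∩ B = F*(B)` for subnormal `B`. -/
theorem Fstar_inf_subnormal {B : Subgroup G} (hB : B.IsSubnormal) :
    Cfsg.generalizedFittingSubgroup G ⊓ B =
      (Cfsg.generalizedFittingSubgroup B).map B.subtype := by
  obtain ⟨n, hn⟩ : ∃ n, Nat.card G = n := ⟨_, rfl⟩
  induction n using Nat.strong_induction_on generalizing G with
  | _ n ih =>
    subst hn
    rcases hB.lt_normal with rfl | ⟨M, hMn, hBM, hMlt⟩
    · exact Comp.Fstar_inf_normal ⊤
    haveI := hMn
    have hlt : Nat.card M < Nat.card G :=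
      lt_of_le_of_ne (card_le_card_group M) fun h => hMlt.ne (eq_top_of_card_eq M h)
    have h := congrArg (map M.subtype) (ih _ hlt (hB.subgroupOf (K := M)) rfl)
    rw [map_inf _ _ _ M.subtype_injective, map_subgroupOf_eq_of_le hBM, Subgroup.map_map,
      ← Comp.Fstar_inf_normal M, inf_assoc, inf_eq_right.mpr hBM] at h
    rw [h]
    set e := subgroupOfEquivOfLe hBM with he
    have h2 : (Cfsg.generalizedFittingSubgroup (B.subgroupOf M)).map e.toMonoidHom =
        Cfsg.generalizedFittingSubgroup B := by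
      refine le_antisymm (Comp.map_Fstar_le e) ?_
      rw [map_equiv_eq_comap_symm', ← map_le_iff_le_comap]
      exact Comp.map_Fstar_le e.symm
    rw [← h2, Subgroup.map_map]
    rfl

theorem Fstar_eq_top_of_le {L : Subgroup G} (hL : L.IsSubnormal)
    (hle : L ≤ Cfsg.generalizedFittingSubgroup G) : Cfsg.generalizedFittingSubgroup L = ⊤ := by
  apply Subgroup.map_injective L.subtype_injective
  rw [← Fstar_inf_subnormal hL, inf_eq_right.mpr hle, ← MonoidHom.range_eq_map, range_subtype]

theorem fitting_prime_to {p : ℕ} [Fact p.Prime] (hO : Cfsg.pCore p G = ⊥) :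
    ¬ p ∣ Nat.card (Cfsg.fittingSubgroup G) := by
  intro hdvd
  haveI := Comp.fitting_isNilpotent (G := G)
  haveI : (Cfsg.fittingSubgroup G).Characteristic :=
    characteristic_iff_map_le.mpr fun e => Comp.map_fitting_le e
  obtain ⟨P⟩ := (inferInstance : Nonempty (Sylow p (Cfsg.fittingSubgroup G)))
  haveI : (P : Subgroup (Cfsg.fittingSubgroup G)).Characteristic :=
    Sylow.characteristic_of_normal P inferInstance
  have hle : (P : Subgroup (Cfsg.fittingSubgroup G)).map (Cfsg.fittingSubgroup G).subtype ≤ ⊥ :=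
    hO ▸ le_sSup ⟨inferInstance, P.isPGroup'.map _⟩
  rw [le_bot_iff, map_eq_bot_iff_of_injective _ (subtype_injective _)] at hle
  exact P.ne_bot_of_dvd_card hdvd hle

theorem fitting_prime_to_subnormal {p : ℕ} [Fact p.Prime] (hO : Cfsg.pCore p G = ⊥)
    {L : Subgroup G} (hL : L.IsSubnormal) : ¬ p ∣ Nat.card (Cfsg.fittingSubgroup L) := by
  intro h
  apply fitting_prime_to (G := G) hO
  refine h.trans ?_
  rw [← card_map_of_injective L.subtype_injective]
  exact card_dvd_of_le (Comp.fitting_subgroupOf_le hL)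

/-- The decomposition for a subnormal subgroup inside `F*(G)` when `O_p(G) = 1`. -/
theorem act_subnormal {p : ℕ} [Fact p.Prime] (hO : Cfsg.pCore p G = ⊥) {L Y : Subgroup G}
    (hY : IsPGroup p Y) (hYL : Y ≤ normalizer (L : Set G)) (hL : L.IsSubnormal)
    (hle : L ≤ Cfsg.generalizedFittingSubgroup G) :
    ⁅L, Y⁆ ⊔ (L ⊓ centralizer (Y : Set G)) = L ∧ ⁅L, Y⁆ = ⁅⁅L, Y⁆, Y⁆ :=
  act hY hYL (Fstar_eq_top_of_le hL hle) (fitting_prime_to_subnormal hO hL)

end CfsgLib.FStarAct

namespace CfsgLib.FStarAct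

open Subgroup

/-- If `A ≤ [A, Y]` and `Y` lies in a subnormal subgroup, so does `A`. -/
theorem le_of_commutator_eq {G : Type*} [Group G] [Finite G] {A Y K : Subgroup G}
    (hK : K.IsSubnormal) (hYK : Y ≤ K) (h : A ≤ ⁅A, Y⁆) : A ≤ K := by
  obtain ⟨n, hn⟩ : ∃ n, Nat.card G = n := ⟨_, rfl⟩
  induction n using Nat.strong_induction_on generalizing G with
  | _ n ih =>
    subst hn
    rcases hK.lt_normal with rfl | ⟨M, hMn, hKM, hMlt⟩
    · exact le_top
    haveI := hMn
    have hlt : Nat.card M < Nat.card G :=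
      lt_of_le_of_ne (card_le_card_group M) fun h => hMlt.ne (eq_top_of_card_eq M h)
    have hAM : A ≤ M := h.trans ((commutator_mono le_top (hYK.trans hKM)).trans
      (commutator_le_right _ _))
    have h' : A.subgroupOf M ≤ ⁅A.subgroupOf M, Y.subgroupOf M⁆ := by
      rw [← Subgroup.map_le_map_iff_of_injective M.subtype_injective, map_commutator,
        map_subgroupOf_eq_of_le hAM, map_subgroupOf_eq_of_le (hYK.trans hKM)]
      exact h
    have := map_mono (f := M.subtype)
      (ih _ hlt (hK.subgroupOf (K := M)) (comap_mono hYK) h' rfl)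
    rwa [map_subgroupOf_eq_of_le hAM, map_subgroupOf_eq_of_le hKM] at this

/-- A `p`-subgroup centralizing `F*(G)` is trivial when `O_p(G) = 1`. -/
theorem pGroup_centralizing_Fstar {G : Type*} [Group G] [Finite G] {p : ℕ} [Fact p.Prime]
    (hO : Cfsg.pCore p G = ⊥) {Y : Subgroup G} (hY : IsPGroup p Y)
    (h : Y ≤ centralizer (Cfsg.generalizedFittingSubgroup G : Set G)) : Y = ⊥ := by
  haveI hn : (Cfsg.generalizedFittingSubgroup G ⊓
      centralizer (Cfsg.generalizedFittingSubgroup G : Set G)).Normal := inferInstance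
  set Z := Cfsg.generalizedFittingSubgroup G ⊓
      centralizer (Cfsg.generalizedFittingSubgroup G : Set G) with hZ
  have hc : IsMulCommutative Z := ⟨⟨fun a b => Subtype.ext
    (mem_centralizer_iff.mp (mem_inf.mp b.2).2 _ (mem_inf.mp a.2).1)⟩⟩
  haveI : Group.IsNilpotent Z := by
    open scoped IsMulCommutative in
    haveI := hc
    exact CommGroup.isNilpotent
  have hle : Y ≤ Cfsg.fittingSubgroup G :=
    (le_inf (h.trans Comp.centralizer_Fstar_le) h).trans (Comp.le_fitting hn inferInstance)
  by_contra hne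
  obtain ⟨k, hk⟩ := IsPGroup.iff_card.1 hY
  have hk0 : k ≠ 0 := fun h0 => hne (eq_bot_of_card_eq _ (by rw [hk, h0, pow_zero]))
  exact fitting_prime_to hO ((dvd_pow_self p hk0).trans (hk ▸ card_dvd_of_le hle))

end CfsgLib.FStarAct
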