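import Mathlib.GroupTheory.Frattini
import Cfsg.Agent.CharP.FStarAction
import Cfsg.Agent.Solvable.CoprimeAbelian
import Cfsg.Agent.Solvable.PGroupBasic

/-!
The largest normal subgroup `F` of `F*(H)` centralized by a `p`-subgroup `Q`, and
`L = [F*(H), Q]`, when `O_p(H) = 1`.
-/

set_option autoImplicit false
set_option linter.style.haveILetI false

namespace CfsgLib.FStarAct

open Subgroup
open scoped commutatorElement

variable {G : Type*} [Group G]

theorem normalizer_le_centralizer_normalizer (H : Subgroup G) :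
    normalizer (H : Set G) ≤ normalizer (centralizer (H : Set G) : Set G) := by
  intro g hg
  have key : ∀ g ∈ normalizer (H : Set G), ∀ c ∈ centralizer (H : Set G),
      g * c * g⁻¹ ∈ centralizer (H : Set G) := by
    intro g hg c hc
    rw [mem_centralizer_iff]
    intro h hh
    have h1 := mem_centralizer_iff.mp hc _ ((mem_normalizer_iff''.mp hg h).mp hh)
    calc h * (g * c * g⁻¹) = g * ((g⁻¹ * h * g) * c) * g⁻¹ := by group
      _ = g * (c * (g⁻¹ * h * g)) * g⁻¹ := by rw [h1]
      _ = g * c * g⁻¹ * h := by group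
  rw [mem_normalizer_iff]
  refine fun c => ⟨key g hg c, fun h => ?_⟩
  simpa [mul_assoc] using key g⁻¹ (inv_mem hg) _ h

theorem normalizer_inf_le_sup (A B : Subgroup G) :
    normalizer (A : Set G) ⊓ normalizer (B : Set G) ≤
      normalizer ((A ⊔ B : Subgroup G) : Set G) := by
  intro g hg
  have key : ∀ g ∈ normalizer (A : Set G) ⊓ normalizer (B : Set G),
      (A ⊔ B).map (MulAut.conj g).toMonoidHom ≤ A ⊔ B := by
    intro g hg
    rw [Subgroup.map_sup]
    refine sup_le_sup ?_ ?_
    · rintro _ ⟨x, hx, rfl⟩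
      exact (mem_normalizer_iff.mp hg.1 x).mp hx
    · rintro _ ⟨x, hx, rfl⟩
      exact (mem_normalizer_iff.mp hg.2 x).mp hx
  rw [mem_normalizer_iff]
  refine fun c => ⟨fun hc => key g hg ⟨c, hc, rfl⟩, fun hc => ?_⟩
  simpa [mul_assoc] using key g⁻¹ (inv_mem hg) ⟨_, hc, rfl⟩

/-- `[x, b ^ n] = [x, b] ^ n` when `b` centralizes `[x, b]`. -/
theorem commutatorElement_pow_right {x b : G} (h : Commute b ⁅x, b⁆) (n : ℕ) :
    ⁅x, b ^ n⁆ = ⁅x, b⁆ ^ n := by
  induction n with
  | zero => simp
  | succ n ih =>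
    rw [pow_succ' b, commutatorElement_mul_right_eq_mul_conj, ih,
      mul_assoc ⁅x, b⁆ b, (h.pow_right n).eq, ← mul_assoc ⁅x, b⁆ (⁅x, b⁆ ^ n) b, mul_assoc,
      mul_assoc, mul_inv_cancel, mul_one, pow_succ']

/-- A commutator commuting with a `p`-element and lying in a `p'`-group is trivial. -/
theorem commutatorElement_eq_one {p : ℕ} [Fact p.Prime] [Finite G] {x b : G} {F : Subgroup G}
    (hb : ∃ k, b ^ p ^ k = 1) (h : Commute b ⁅x, b⁆) (hF : ⁅x, b⁆ ∈ F)
    (hp : ¬ p ∣ Nat.card F) : ⁅x, b⁆ = 1 := by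
  obtain ⟨k, hk⟩ := hb
  have h1 : ⁅x, b⁆ ^ p ^ k = 1 := by
    rw [← commutatorElement_pow_right h, hk, commutatorElement_one_right]
  have h2 : orderOf ⁅x, b⁆ ∣ Nat.gcd (p ^ k) (Nat.card F) :=
    Nat.dvd_gcd (orderOf_dvd_of_pow_eq_one h1) (F.orderOf_dvd_natCard hF)
  rw [Nat.Coprime.gcd_eq_one (Nat.Coprime.pow_left k
    ((Fact.out : p.Prime).coprime_iff_not_dvd.mpr hp))] at h2
  exact orderOf_eq_one_iff.mp (Nat.dvd_one.mp h2)

variable [Finite G]

/-- Coprime action on `L` with `[L, Q] = L`: the fixed points in `L` lie in `L'`. -/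
theorem fixed_le_commutator {p : ℕ} [Fact p.Prime] {L Q Z : Subgroup G} (hQ : IsPGroup p Q)
    (hQL : Q ≤ normalizer (L : Set G)) (hLQ : ⁅L, Q⁆ = L)
    (hFs : Cfsg.generalizedFittingSubgroup L = ⊤)
    (hp : ¬ p ∣ Nat.card (Cfsg.fittingSubgroup L))
    (hZL : Z ≤ L) (hZQ : Z ≤ centralizer (Q : Set G)) : Z ≤ ⁅L, L⁆ := by
  set D := ⁅L, L⁆ with hD
  have hnX : (D.subgroupOf (L ⊔ Q)).Normal :=
    normal_subgroupOf_of_le_normalizer ((sup_le (le_inf le_normalizer le_normalizer)
      (le_inf hQL hQL)).trans (normalizer_inf_le_commutator L L))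
  haveI := hnX
  set X := L ⊔ Q with hX
  set π := QuotientGroup.mk' (D.subgroupOf X) with hπ
  set A := (L.subgroupOf X).map π with hA
  set B := (Q.subgroupOf X).map π with hB
  have hcomm : ∀ U V W : Subgroup G, U ≤ X → V ≤ X → ⁅U, V⁆ = W →
      ⁅U.subgroupOf X, V.subgroupOf X⁆ = W.subgroupOf X := by
    intro U V W hU hV hUV
    apply Subgroup.map_injective X.subtype_injective
    rw [map_commutator, map_subgroupOf_eq_of_le hU, map_subgroupOf_eq_of_le hV, hUV,
      map_subgroupOf_eq_of_le]
    exact hUV ▸ (commutator_mono hU hV).trans (commutator_le_self X)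
  have hAB : ⁅A, B⁆ = A := by
    rw [hA, hB, ← map_commutator, hcomm L Q L le_sup_left le_sup_right hLQ]
  have hAA : ⁅A, A⁆ = ⊥ := by
    rw [hA, ← map_commutator, hcomm L L D le_sup_left le_sup_left hD.symm]
    exact (Subgroup.map_eq_bot_iff _).mpr (by rw [QuotientGroup.ker_mk'])
  haveI : IsMulCommutative A := by
    refine ⟨⟨fun a b => Subtype.ext ?_⟩⟩
    exact (mem_centralizer_iff.mp (commutator_eq_bot_iff_le_centralizer.mp hAA b.2) a a.2)
  set FL := (Cfsg.fittingSubgroup L).map L.subtype with hFL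
  have hLsplit : L ≤ D ⊔ FL := by
    have h : L ≤ (Cfsg.layer L).map L.subtype ⊔ FL := by
      rw [hFL, ← Subgroup.map_sup]
      change L ≤ (Cfsg.generalizedFittingSubgroup L).map L.subtype
      rw [hFs, ← MonoidHom.range_eq_map, range_subtype]
    refine h.trans (sup_le_sup ?_ le_rfl)
    rw [← Comp.layer_perfect, map_commutator]
    exact commutator_mono (map_subtype_le _) (map_subtype_le _)
  have hAF : A ≤ (FL.subgroupOf X).map π := by
    have hDX : D ≤ X := (commutator_le_self L).trans le_sup_left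
    have hFX : FL ≤ X := (map_subtype_le _).trans le_sup_left
    refine (map_mono (comap_mono hLsplit)).trans ?_
    change ((D ⊔ FL).subgroupOf X).map π ≤ _
    rw [subgroupOf_sup hDX hFX, Subgroup.map_sup]
    exact sup_le (((Subgroup.map_eq_bot_iff _).mpr (by rw [QuotientGroup.ker_mk'])).le.trans bot_le) le_rfl
  have hdvd : Nat.card A ∣ Nat.card (Cfsg.fittingSubgroup L) := by
    refine (card_dvd_of_le hAF).trans ((card_map_dvd _ _).trans ?_)
    rw [← card_map_of_injective L.subtype_injective, ← hFL]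
    exact (Nat.card_congr (subgroupOfEquivOfLe ((map_subtype_le _).trans le_sup_left)).toEquiv).dvd
  have hBp : IsPGroup p B := (hQ.comap_subtype (K := X)).map π
  have hcop : (Nat.card B).Coprime (Nat.card A) := by
    obtain ⟨k, hk⟩ := IsPGroup.iff_card.1 hBp
    rw [hk]
    exact Nat.Coprime.pow_left k
      ((Fact.out : p.Prime).coprime_iff_not_dvd.mpr fun h => hp (h.trans hdvd))
  have hBA : B ≤ normalizer (A : Set _) := by
    have := normalizer_commutator_ge_right A B
    rwa [hAB] at this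
  have hbot := CoprimeAct.fixed_inf_commutator_abelian hBA hcop
  rw [hAB] at hbot
  intro z hz
  have hzX : z ∈ X := mem_sup_left (hZL hz)
  have hmem : π ⟨z, hzX⟩ ∈ (A ⊓ centralizer (B : Set _)) ⊓ A := by
    have hzA : π ⟨z, hzX⟩ ∈ A := mem_map_of_mem π (mem_subgroupOf.mpr (hZL hz))
    refine ⟨⟨hzA, mem_centralizer_iff.mpr ?_⟩, hzA⟩
    rintro _ ⟨y, hy, rfl⟩
    rw [← map_mul, ← map_mul]
    exact congrArg π (Subtype.ext (mem_centralizer_iff.mp (hZQ hz) _ (mem_subgroupOf.mp hy)))
  rw [hbot, mem_bot] at hmem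
  exact mem_subgroupOf.mp ((QuotientGroup.eq_one_iff _).mp hmem)

theorem main {p : ℕ} [Fact p.Prime] (hO : Cfsg.pCore p G = ⊥) {Q : Subgroup G}
    (hQ : IsPGroup p Q) {L : Subgroup G} (hL : L = ⁅Cfsg.generalizedFittingSubgroup G, Q⁆)
    {F : Subgroup G} (hFle : F ≤ Cfsg.generalizedFittingSubgroup G)
    (hFn : Cfsg.generalizedFittingSubgroup G ≤ normalizer (F : Set G))
    (hQF : Q ≤ centralizer (F : Set G))
    (hmax : ∀ N : Subgroup G, N ≤ Cfsg.generalizedFittingSubgroup G →
      Cfsg.generalizedFittingSubgroup G ≤ normalizer (N : Set G) →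
      Q ≤ centralizer (N : Set G) → N ≤ F) :
    F = Cfsg.generalizedFittingSubgroup G ⊓ centralizer ((L ⊔ Q : Subgroup G) : Set G) ∧
      ⁅L, Q⁆ = L ∧ L ⊓ F ≤ (frattini L).map L.subtype ∧
      (∀ B : Subgroup G, IsPGroup p B → B ≤ normalizer (Q : Set G) → ⁅L, B⁆ ≤ F → ⁅L, B⁆ = ⊥) ∧
      (Nat.card (centralizer ((F ⊔ L : Subgroup G) : Set G))).Coprime p := by
  classical
  set S := Cfsg.generalizedFittingSubgroup G with hS
  set D := S ⊓ centralizer (Q : Set G) with hD
  have hSn : ∀ U : Subgroup G, U ≤ normalizer (S : Set G) := fun U => by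
    rw [normalizer_eq_top]; exact le_top
  have hSsn : S.IsSubnormal := Normal.isSubnormal inferInstance
  obtain ⟨hsup, hid⟩ := act_subnormal hO hQ (hSn Q) hSsn le_rfl
  rw [← hL] at hsup hid
  have hLS : L ≤ S := hL ▸ le_normalizer_iff_commutator_le_left.1 (hSn Q)
  have hSL : S ≤ normalizer (L : Set G) := hL ▸ normalizer_commutator_ge_left _ _
  have hQL : Q ≤ normalizer (L : Set G) := hL ▸ normalizer_commutator_ge_right _ _
  have hDQ : D ≤ centralizer (Q : Set G) := inf_le_right
  -- `F` centralizes `L`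
  have hFL : L ≤ centralizer (F : Set G) := by
    rw [← commutator_eq_bot_iff_le_centralizer, hL]
    have hFQ : ⁅Q, F⁆ = ⊥ := commutator_eq_bot_iff_le_centralizer.mpr hQF
    refine commutator_commutator_eq_bot_of_rotate (by rw [hFQ, commutator_bot_left]) ?_
    rw [eq_bot_iff, ← hFQ, commutator_comm Q F]
    exact commutator_mono (le_normalizer_iff_commutator_le_left.1 hFn) le_rfl
  have h1 : F = S ⊓ centralizer ((L ⊔ Q : Subgroup G) : Set G) := by
    refine le_antisymm (le_inf hFle (le_centralizer_iff.mp (sup_le hFL hQF))) ?_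
    refine hmax _ inf_le_left ?_ ?_
    · refine hsup.ge.trans (sup_le ?_ ?_)
      · refine le_trans ?_ (centralizer_le_normalizer _)
        rw [le_centralizer_iff]
        exact inf_le_right.trans (centralizer_le fun y hy => mem_sup_left hy)
      · have h' : S ⊓ centralizer (Q : Set G) ≤
            normalizer ((centralizer ((L ⊔ Q : Subgroup G) : Set G) : Subgroup G) : Set G) :=
          ((le_inf (inf_le_left.trans hSL) (inf_le_right.trans (centralizer_le_normalizer _))).trans
            (normalizer_inf_le_sup L Q)).trans (normalizer_le_centralizer_normalizer _)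
        refine le_trans (le_inf (inf_le_left.trans (hSn S)) h') ?_
        intro g hg
        rw [mem_normalizer_iff]
        intro x
        simp only [mem_inf, mem_normalizer_iff.mp hg.1 x, mem_normalizer_iff.mp hg.2 x]
    · rw [le_centralizer_iff]
      exact inf_le_right.trans (centralizer_le fun y hy => mem_sup_right hy)
  refine ⟨h1, hid.symm, ?_⟩
  have hLsn : L.IsSubnormal := by
    have hn : (L.subgroupOf S).Normal := normal_subgroupOf_of_le_normalizer hSL
    have := Comp.isSubnormal_map_subtype hSsn hn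
    rwa [map_subgroupOf_eq_of_le hLS] at this
  have hFs := Fstar_eq_top_of_le hLsn hLS
  have hp := fitting_prime_to_subnormal hO hLsn
  have hZD : L ⊓ F ≤ ⁅L, L⁆ :=
    fixed_le_commutator hQ hQL hid.symm hFs hp inf_le_left
      (inf_le_right.trans (le_centralizer_iff.mp hQF))
  refine ⟨?_, ?_, ?_⟩
  · -- the Frattini bound
    have hcen : (L ⊓ F).subgroupOf L ≤ center L := fun x hx => mem_center_iff.mpr fun y =>
      Subtype.ext (mem_centralizer_iff.mp (hFL y.2) _ (mem_subgroupOf.mp hx).2).symm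
    suffices h : (L ⊓ F).subgroupOf L ≤ frattini L by
      have := map_mono (f := L.subtype) h
      rwa [map_subgroupOf_eq_of_le inf_le_left] at this
    refine le_iInf₂ fun M hM => ?_
    by_contra hne
    set Z := (L ⊓ F).subgroupOf L with hZ
    haveI : Z.Normal := normal_subgroupOf_of_le_normalizer
      (le_trans (le_inf le_normalizer (hLS.trans hFn)) (by
        intro g hg
        rw [mem_normalizer_iff]
        intro x
        simp only [mem_inf, mem_normalizer_iff.mp hg.1 x, mem_normalizer_iff.mp hg.2 x]))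
    have htop : M ⊔ Z = ⊤ := hM.2 _ (lt_of_le_of_ne le_sup_left fun h => hne (h ▸ le_sup_right))
    have hder : ⁅(⊤ : Subgroup L), ⊤⁆ ≤ M := by
      rw [commutator_le]
      intro a _ b _
      have ha : a ∈ M ⊔ Z := htop ▸ mem_top _
      have hb : b ∈ M ⊔ Z := htop ▸ mem_top _
      rw [← SetLike.mem_coe, mul_normal] at ha hb
      obtain ⟨m, hm, z, hz, rfl⟩ := ha
      obtain ⟨n, hn, w, hw, rfl⟩ := hb
      have hzc := mem_center_iff.mp (hcen hz)
      have hwc := mem_center_iff.mp (hcen hw)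
      have e : ⁅m * z, n * w⁆ = ⁅m, n⁆ := by
        simp only [commutatorElement_def, _root_.mul_inv_rev]
        calc m * z * (n * w) * (z⁻¹ * m⁻¹) * (w⁻¹ * n⁻¹)
            = m * (z * n) * w * z⁻¹ * m⁻¹ * w⁻¹ * n⁻¹ := by group
          _ = m * n * (z * w) * z⁻¹ * m⁻¹ * w⁻¹ * n⁻¹ := by rw [← hzc n]; group
          _ = m * n * (w * m⁻¹) * w⁻¹ * n⁻¹ := by rw [← hzc w]; group
          _ = m * n * m⁻¹ * n⁻¹ := by rw [← hwc m⁻¹]; group
      rw [e]
      exact mul_mem (mul_mem (mul_mem hm hn) (inv_mem hm)) (inv_mem hn)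
    apply hne
    refine le_trans ?_ hder
    rw [← Subgroup.map_le_map_iff_of_injective L.subtype_injective, map_commutator,
      map_subgroupOf_eq_of_le inf_le_left, ← MonoidHom.range_eq_map, range_subtype]
    exact hZD
  · intro B hB hBQ hBF
    have hBL : B ≤ normalizer (L : Set G) := hL ▸
      (le_inf (hSn B) hBQ).trans (normalizer_inf_le_commutator _ _)
    have hBZ : ⁅L, B⁆ ≤ L ⊓ F := le_inf (le_normalizer_iff_commutator_le_left.1 hBL) hBF
    have hZL : ⁅L ⊓ F, L⁆ = ⊥ := by
      rw [commutator_eq_bot_iff_le_centralizer]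
      exact inf_le_right.trans (le_centralizer_iff.mp hFL)
    have hDB : ⁅⁅L, L⁆, B⁆ = ⊥ := by
      refine commutator_commutator_eq_bot_of_rotate ?_ ?_
      · exact le_bot_iff.mp ((commutator_mono hBZ le_rfl).trans hZL.le)
      · rw [commutator_comm B L]
        exact le_bot_iff.mp ((commutator_mono hBZ le_rfl).trans hZL.le)
    rw [eq_bot_iff, commutator_le]
    intro l hl b hb
    have hc : ⁅l, b⁆ ∈ L ⊓ F := hBZ (commutator_mem_commutator hl hb)
    obtain ⟨k, hk⟩ := hB ⟨b, hb⟩
    rw [mem_bot]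
    refine commutatorElement_eq_one (p := p) (F := (Cfsg.fittingSubgroup L).map L.subtype)
      ⟨k, congrArg Subtype.val hk⟩
      (mem_centralizer_iff.mp (commutator_eq_bot_iff_le_centralizer.mp hDB (hZD hc)) b hb)
      ?_ (by rwa [card_map_of_injective L.subtype_injective])
    have hcf : center L ≤ Cfsg.fittingSubgroup L := Comp.le_fitting inferInstance
      (open scoped IsMulCommutative in CommGroup.isNilpotent)
    exact ⟨⟨_, hc.1⟩, hcf (mem_center_iff.mpr fun y => Subtype.ext
      (mem_centralizer_iff.mp (hFL y.2) _ hc.2).symm), rfl⟩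
  · -- `C(FL)` is a `p'`-group
    set C := centralizer ((F ⊔ L : Subgroup G) : Set G) with hC
    rw [Nat.coprime_comm, (Fact.out : p.Prime).coprime_iff_not_dvd]
    intro hdvd
    have hQC : Q ≤ normalizer (C : Set G) :=
      ((le_inf (hQF.trans (centralizer_le_normalizer _)) hQL).trans
        (normalizer_inf_le_sup F L)).trans (normalizer_le_centralizer_normalizer _)
    haveI hCX : (C.subgroupOf (C ⊔ Q)).Normal :=
      normal_subgroupOf_of_le_normalizer (sup_le le_normalizer hQC)
    obtain ⟨P, hP⟩ := (hQ.comap_subtype (K := C ⊔ Q)).exists_le_sylow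
    haveI : Group.IsNilpotent P := P.isPGroup'.isNilpotent
    set R := (C.subgroupOf (C ⊔ Q)).subgroupOf (P : Subgroup ↥(C ⊔ Q)) with hR
    haveI : R.Normal := hCX.subgroupOf _
    have hRne : R ≠ ⊥ := by
      intro hbot
      have hdis : C.subgroupOf (C ⊔ Q) ⊓ (P : Subgroup ↥(C ⊔ Q)) = ⊥ := by
        rw [← subgroupOf_map_subtype, ← hR, hbot, Subgroup.map_bot]
      have hidx : Nat.card (C.subgroupOf (C ⊔ Q)) ∣ (P : Subgroup ↥(C ⊔ Q)).index := by
        have h := relIndex_dvd_index_of_normal (C.subgroupOf (C ⊔ Q)) (P : Subgroup ↥(C ⊔ Q))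
        rw [← inf_relIndex_right, hdis, relIndex_bot_left] at h
        have h2 := mul_dvd_mul_left (Nat.card (C.subgroupOf (C ⊔ Q))) h
        rw [card_mul_index, ← card_mul_index (P : Subgroup ↥(C ⊔ Q)),
          mul_comm (Nat.card (C.subgroupOf (C ⊔ Q)))] at h2
        exact Nat.dvd_of_mul_dvd_mul_left Nat.card_pos h2
      rw [Nat.card_congr (subgroupOfEquivOfLe le_sup_left).toEquiv] at hidx
      exact P.not_dvd_index (hdvd.trans hidx)
    obtain ⟨r, hr, hr1⟩ := (bot_or_exists_ne_one _).resolve_left (PGroupBasic.inf_center_ne_bot R hRne)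
    set x : G := ((r : ↥(C ⊔ Q)) : G) with hx
    have hxC : x ∈ C := mem_subgroupOf.mp (mem_subgroupOf.mp hr.1)
    have hxQ : x ∈ centralizer (Q : Set G) := mem_centralizer_iff.mpr fun q hq =>
      congrArg (fun y : P => ((y : ↥(C ⊔ Q)) : G))
        (mem_center_iff.mp hr.2 ⟨⟨q, mem_sup_right hq⟩, hP (mem_subgroupOf.mpr hq)⟩)
    obtain ⟨k, hk⟩ := P.isPGroup' r
    have hxp : x ^ p ^ k = 1 := by
      have := congrArg (fun y : P => ((y : ↥(C ⊔ Q)) : G)) hk
      simpa using this
    have hxp' : IsPGroup p (zpowers x) :=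
      (by
        obtain ⟨j, -, hj⟩ := (Nat.dvd_prime_pow Fact.out).mp (orderOf_dvd_of_pow_eq_one hxp)
        exact IsPGroup.of_card (n := j) (by rw [Nat.card_zpowers, hj]))
    have hxS : zpowers x ≤ centralizer (S : Set G) := by
      rw [← le_centralizer_iff, ← hsup, sup_le_iff]
      refine ⟨le_centralizer_iff.mp (zpowers_le.mpr (centralizer_le (fun y hy => mem_sup_right hy) hxC)), ?_⟩
      intro d hd
      rw [mem_centralizer_iff]
      rintro _ ⟨n, rfl⟩
      suffices hone : ⁅d, x⁆ = 1 from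
        ((show Commute d x from commutatorElement_eq_one_iff_mul_comm.mp hone).zpow_right n).eq.symm
      have hcS : ⁅d, x⁆ ∈ S := by
        rw [commutatorElement_def, mul_assoc, mul_assoc]
        refine mul_mem hd.1 ?_
        rw [← mul_assoc]
        exact (mem_normalizer_iff.mp (hSn ⊤ (mem_top x)) _).mp (inv_mem hd.1)
      have hdC : d ∈ normalizer (C : Set G) :=
        ((le_inf (inf_le_left.trans hFn) (inf_le_left.trans hSL)).trans
          (normalizer_inf_le_sup F L)).trans (normalizer_le_centralizer_normalizer _) hd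
      have hcC : ⁅d, x⁆ ∈ C :=
        mul_mem ((mem_normalizer_iff.mp hdC x).mp hxC) (inv_mem hxC)
      have hcQ : ⁅d, x⁆ ∈ centralizer (Q : Set G) :=
        mul_mem (mul_mem (mul_mem hd.2 hxQ) (inv_mem hd.2)) (inv_mem hxQ)
      have hcF : ⁅d, x⁆ ∈ F := by
        rw [h1]
        refine mem_inf.mpr ⟨hcS, ?_⟩
        have : L ⊔ Q ≤ centralizer ({⁅d, x⁆} : Set G) := by
          refine sup_le (fun l hl => ?_) (fun q hq => ?_)
          · rw [mem_centralizer_singleton_iff]
            exact mem_centralizer_iff.mp hcC l (mem_sup_right hl)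
          · rw [mem_centralizer_singleton_iff]
            exact mem_centralizer_iff.mp hcQ q hq
        exact mem_centralizer_iff.mpr fun y hy => mem_centralizer_singleton_iff.mp (this hy)
      set Z := F ⊓ centralizer (F : Set G) with hZ
      have hZn : S ≤ normalizer (Z : Set G) := by
        refine le_trans (le_inf hFn (hFn.trans (normalizer_le_centralizer_normalizer F))) ?_
        intro g hg
        rw [mem_normalizer_iff]
        intro y
        simp only [hZ, mem_inf, mem_normalizer_iff.mp hg.1 y, mem_normalizer_iff.mp hg.2 y]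
      have hZsn : Z.IsSubnormal := by
        have hn : (Z.subgroupOf S).Normal := normal_subgroupOf_of_le_normalizer hZn
        have := Comp.isSubnormal_map_subtype hSsn hn
        rwa [map_subgroupOf_eq_of_le (inf_le_left.trans hFle)] at this
      have hZnil : Group.IsNilpotent Z := by
        haveI : IsMulCommutative Z := ⟨⟨fun a b => Subtype.ext
          (mem_centralizer_iff.mp (mem_inf.mp b.2).2 _ (mem_inf.mp a.2).1)⟩⟩
        open scoped IsMulCommutative in exact CommGroup.isNilpotent
      refine commutatorElement_eq_one ⟨k, hxp⟩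
        (mem_centralizer_iff.mp hxC _ (mem_sup_left hcF)).symm ?_ (fitting_prime_to hO)
      refine Comp.subnormal_nilpotent_le_fitting hZsn hZnil ⟨hcF, mem_centralizer_iff.mpr fun y hy => ?_⟩
      exact mem_centralizer_iff.mp hcC y (mem_sup_left hy)
    have := pGroup_centralizing_Fstar hO hxp' hxS
    exact hr1 (Subtype.ext (Subtype.ext (zpowers_eq_bot.mp this)))

end CfsgLib.FStarAct
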