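import Cfsg.Agent.CharP.Stabilizer
import Cfsg.Agent.Transfer.PResidual
import Cfsg.Prelude.Def_LocalStructure

/-!
p-closed and p-irreducible groups.
-/

set_option autoImplicit false
set_option linter.style.haveILetI false
set_option linter.unusedSectionVars false

namespace CfsgLib.CharP

open Subgroup
open scoped commutatorElement

variable {G : Type*} [Group G] [Finite G] {p : ℕ} [Fact p.Prime]

theorem exists_pow_eq_one_of_mem {Q : Subgroup G} (hQ : IsPGroup p Q) {x : G} (hx : x ∈ Q) :
    ∃ k : ℕ, x ^ p ^ k = 1 := by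
  obtain ⟨k, hk⟩ := hQ ⟨x, hx⟩
  exact ⟨k, by simpa using congrArg Subtype.val hk⟩

theorem isPGroup_zpowers {x : G} {k : ℕ} (hk : x ^ p ^ k = 1) : IsPGroup p (zpowers x) := by
  obtain ⟨j, -, hj⟩ := (Nat.dvd_prime_pow Fact.out).mp (orderOf_dvd_of_pow_eq_one hk)
  exact IsPGroup.of_card (n := j) (by rw [Nat.card_zpowers, hj])

theorem eq_one_of_coprime_of_pow {x : G} (hc : (orderOf x).Coprime p) {k : ℕ}
    (hk : x ^ p ^ k = 1) : x = 1 :=
  orderOf_eq_one_iff.mp (Nat.eq_one_of_dvd_coprimes (hc.pow_right k) dvd_rfl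
    (orderOf_dvd_of_pow_eq_one hk))

/-- A `p'`-element of `N Y`, with `N` normal and `Y` a `p`-group, lies in `N`. -/
theorem mem_of_mem_sup_pGroup {N Y : Subgroup G} [N.Normal] (hY : IsPGroup p Y) {x : G}
    (hx : x ∈ N ⊔ Y) (hc : (orderOf x).Coprime p) : x ∈ N := by
  obtain ⟨n, hn, y, hy, rfl⟩ := mem_sup_of_normal_left.mp hx
  obtain ⟨k, hk⟩ := exists_pow_eq_one_of_mem hY hy
  have h1 : ((n * y : G) : G ⧸ N) = (y : G ⧸ N) := by
    rw [QuotientGroup.mk_mul, (QuotientGroup.eq_one_iff n).mpr hn, one_mul]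
  refine (QuotientGroup.eq_one_iff _).mp ?_
  refine eq_one_of_coprime_of_pow (p := p) (k := k)
    (hc.coprime_dvd_left (orderOf_map_dvd (QuotientGroup.mk' N) _)) ?_
  rw [h1, ← QuotientGroup.mk_pow, hk, QuotientGroup.mk_one]

/-- `p`-closed: all `p`-elements lie in `O_p`. -/
theorem isPClosed_iff : Cfsg.IsPClosed p G ↔
    ∀ x : G, ∀ k : ℕ, x ^ p ^ k = 1 → x ∈ Cfsg.pCore p G := by
  constructor
  · intro h x k hk
    obtain ⟨P, hP⟩ := (isPGroup_zpowers hk).exists_le_sylow
    exact Solvable.le_pCore p (h P) P.2 (hP (mem_zpowers x))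
  · intro h P
    have hle : (P : Subgroup G) ≤ Cfsg.pCore p G := fun x hx => by
      obtain ⟨k, hk⟩ := exists_pow_eq_one_of_mem P.2 hx
      exact h x k hk
    rw [← P.3 (Solvable.isPGroup_pCore p) hle]
    exact Solvable.pCore_normal p

theorem isPClosed_of_sylow_le (T : Sylow p G) (h : (T : Subgroup G) ≤ Cfsg.pCore p G) :
    Cfsg.IsPClosed p G := by
  refine isPClosed_iff.mpr fun x k hk => ?_
  haveI := Solvable.pCore_normal p (G := G)
  obtain ⟨P, hP⟩ := (isPGroup_zpowers hk).exists_le_sylow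
  obtain ⟨g, rfl⟩ := MulAction.exists_smul_eq G T P
  have hx := hP (mem_zpowers x)
  rw [Sylow.coe_subgroup_smul] at hx
  obtain ⟨t, ht, rfl⟩ := hx
  exact Normal.conj_mem inferInstance t (h ht) g

theorem pCore_inf_normal (N : Subgroup G) [N.Normal] :
    (Cfsg.pCore p ↥N).map N.subtype = Cfsg.pCore p G ⊓ N := by
  haveI := Solvable.pCore_normal p (G := G)
  refine le_antisymm (le_inf ?_ (map_subtype_le _)) ?_
  · haveI : (Cfsg.pCore p N).Characteristic := characteristic_iff_map_le.mpr fun φ => by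
      haveI := Solvable.pCore_normal p (G := N)
      exact Solvable.le_pCore p (Normal.map inferInstance _ φ.surjective)
        ((Solvable.isPGroup_pCore p).map _)
    exact Solvable.le_pCore p ConjAct.normal_of_characteristic_of_normal
      ((Solvable.isPGroup_pCore p).map _)
  · intro x hx
    exact ⟨⟨x, hx.2⟩, Solvable.le_pCore p (N := (Cfsg.pCore p G).subgroupOf N) inferInstance
      (Solvable.isPGroup_pCore p).comap_subtype hx.1, rfl⟩

/-- A normal subgroup is `p`-closed exactly when its `p`-elements lie in `O_p(G)`. -/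
theorem isPClosed_normal_iff (N : Subgroup G) [N.Normal] : Cfsg.IsPClosed p ↥N ↔
    ∀ x ∈ N, ∀ k : ℕ, x ^ p ^ k = 1 → x ∈ Cfsg.pCore p G := by
  rw [isPClosed_iff]
  constructor
  · intro h x hx k hk
    have := mem_map_of_mem N.subtype (h ⟨x, hx⟩ k (Subtype.ext (by simpa using hk)))
    rw [pCore_inf_normal] at this
    exact this.1
  · intro h x k hk
    have hx : (x : G) ∈ Cfsg.pCore p G ⊓ N :=
      ⟨h x x.2 k (by simpa using congrArg Subtype.val hk), x.2⟩
    rw [← pCore_inf_normal] at hx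
    obtain ⟨y, hy, hyx⟩ := hx
    rwa [← Subtype.ext hyx]

theorem isPClosed_normal_of_le {N M : Subgroup G} [N.Normal] [M.Normal] (hNM : N ≤ M)
    (h : Cfsg.IsPClosed p ↥M) : Cfsg.IsPClosed p ↥N :=
  (isPClosed_normal_iff N).mpr fun x hx => (isPClosed_normal_iff M).mp h x (hNM hx)

theorem pResidual_sup_sylow (T : Sylow p G) : Cfsg.pResidual p G ⊔ (T : Subgroup G) = ⊤ := by
  haveI := PResidual.pResidual_normal p (G := G)
  obtain ⟨k, hk⟩ := PResidual.exists_index_pResidual (G := G) (p := p)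
  refine index_eq_one.mp ?_
  obtain ⟨j, -, hj⟩ := (Nat.dvd_prime_pow Fact.out).mp
    (hk ▸ index_dvd_of_le (le_sup_left : Cfsg.pResidual p G ≤ _ ⊔ (T : Subgroup G)))
  cases j with
  | zero => simpa using hj
  | succ j =>
    exact absurd (dvd_trans (Dvd.intro _ (pow_succ' p j).symm)
      (hj ▸ index_dvd_of_le (le_sup_right : (T : Subgroup G) ≤ Cfsg.pResidual p G ⊔ _))) T.not_dvd_index

theorem pResidual_le_of_sup_pGroup {N Y : Subgroup G} [N.Normal] (hY : IsPGroup p Y)
    (h : Cfsg.pResidual p G ≤ N ⊔ Y) : Cfsg.pResidual p G ≤ N := by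
  rw [Cfsg.pResidual, closure_le]
  exact fun x hx => mem_of_mem_sup_pGroup hY (h (PResidual.mem_pResidual p hx)) hx

section Irreducible

variable (hH : Cfsg.IsPIrreducible p G)
include hH

theorem IsPIrreducible.pResidual_le {N : Subgroup G} [N.Normal] {x : G} (hx : x ∈ N) {k : ℕ}
    (hk : x ^ p ^ k = 1) (hxO : x ∉ Cfsg.pCore p G) : Cfsg.pResidual p G ≤ N :=
  hH.2 N inferInstance fun h => hxO ((isPClosed_normal_iff N).mp h x hx k hk)

theorem IsPIrreducible.pResidual_le_of_sylow {N : Subgroup G} [N.Normal] (T : Sylow p G)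
    (hT : (T : Subgroup G) ≤ N) : Cfsg.pResidual p G ≤ N := by
  have hT' : ¬ (T : Subgroup G) ≤ Cfsg.pCore p G := fun h => hH.1 (isPClosed_of_sylow_le T h)
  obtain ⟨t, ht, htO⟩ := SetLike.not_le_iff_exists.mp hT'
  obtain ⟨k, hk⟩ := exists_pow_eq_one_of_mem T.2 ht
  exact IsPIrreducible.pResidual_le hH (hT ht) hk htO

theorem IsPIrreducible.eq_top_of_sylow_le {N : Subgroup G} [N.Normal] (T : Sylow p G)
    (hT : (T : Subgroup G) ≤ N) : N = ⊤ :=
  top_le_iff.mp ((pResidual_sup_sylow T).symm.le.trans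
    (sup_le (IsPIrreducible.pResidual_le_of_sylow hH T hT) hT))

theorem IsPIrreducible.commutator_sup_sylow (T : Sylow p G) :
    commutator G ⊔ (T : Subgroup G) = ⊤ := by
  haveI : (commutator G ⊔ (T : Subgroup G)).Normal := ⟨fun n hn g => by
    have hc : g * n * g⁻¹ * n⁻¹ ∈ commutator G := by
      rw [_root_.commutator_def, ← commutatorElement_def]
      exact commutator_mem_commutator (mem_top g) (mem_top n)
    simpa [mul_assoc] using mul_mem (mem_sup_left hc) hn⟩
  exact IsPIrreducible.eq_top_of_sylow_le hH T le_sup_right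

theorem IsPIrreducible.pResidual_le_commutator (T : Sylow p G) :
    Cfsg.pResidual p G ≤ commutator G :=
  pResidual_le_of_sup_pGroup (N := commutator G) T.2
    ((IsPIrreducible.commutator_sup_sylow hH T).symm ▸ le_top)

theorem IsPIrreducible.commutator_pResidual (T : Sylow p G) {Y : Subgroup G}
    (hYT : Y ≤ (T : Subgroup G)) (hTY : (T : Subgroup G) ≤ normalizer (Y : Set G))
    (hY : ¬ Y ≤ Cfsg.pCore p G) :
    ⁅Cfsg.pResidual p G, Y⁆ = Cfsg.pResidual p G ∧
      Cfsg.pResidual p G ≤ normalClosure (Y : Set G) := by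
  haveI hR := PResidual.pResidual_normal p (G := G)
  set R := Cfsg.pResidual p G with hRdef
  obtain ⟨y, hy, hyO⟩ := SetLike.not_le_iff_exists.mp hY
  obtain ⟨k, hk⟩ := exists_pow_eq_one_of_mem (T.2.to_le hYT) hy
  have hM : R ≤ normalClosure (Y : Set G) :=
    IsPIrreducible.pResidual_le hH (subset_normalClosure hy) hk hyO
  refine ⟨le_antisymm (commutator_le_left _ _) ?_, hM⟩
  have hTR : ∀ g ∈ (T : Subgroup G), ∀ r ∈ R, g * r * g⁻¹ ∈ R := fun g _ r hr => hR.conj_mem r hr g
  have hN : R ⊔ (T : Subgroup G) ≤ normalizer ((⁅R, Y⁆ : Subgroup G) : Set G) := by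
    refine sup_le (normalizer_commutator_ge_left _ _) fun g hg => ?_
    refine mem_normalizer_fintype fun c hc => ?_
    have h1 : MulAut.conj g c ∈ (⁅R, Y⁆).map (MulAut.conj g).toMonoidHom :=
      mem_map_of_mem _ hc
    rw [map_commutator] at h1
    refine commutator_mono ?_ ?_ h1
    · rintro _ ⟨r, hr, rfl⟩
      exact hTR g hg r hr
    · rintro _ ⟨z, hz, rfl⟩
      exact (mem_normalizer_iff.mp (hTY hg) z).mp hz
  haveI : (⁅R, Y⁆ : Subgroup G).Normal :=
    normalizer_eq_top_iff.mp (top_le_iff.mp ((pResidual_sup_sylow T).symm.le.trans hN))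
  haveI : (⁅R, Y⁆ ⊔ Y).Normal := by
    refine normalizer_eq_top_iff.mp (top_le_iff.mp ((pResidual_sup_sylow T).symm.le.trans ?_))
    refine sup_le (fun g hg => ?_) (fun g hg => ?_) <;>
      refine mem_normalizer_fintype fun c hc => ?_
    · obtain ⟨a, ha, z, hz, rfl⟩ := mem_sup_of_normal_left.mp hc
      rw [← conj_mul]
      refine mul_mem (mem_sup_left (Normal.conj_mem inferInstance a ha g)) ?_
      rw [show g * z * g⁻¹ = ⁅g, z⁆ * z by simp [commutatorElement_def]]
      exact mul_mem (mem_sup_left (commutator_mem_commutator hg hz)) (mem_sup_right hz)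
    · obtain ⟨a, ha, z, hz, rfl⟩ := mem_sup_of_normal_left.mp hc
      rw [← conj_mul]
      exact mul_mem (mem_sup_left (Normal.conj_mem inferInstance a ha g))
        (mem_sup_right ((mem_normalizer_iff.mp (hTY hg) z).mp hz))
  exact pResidual_le_of_sup_pGroup (T.2.to_le hYT)
    (hM.trans (normalClosure_le_normal fun z hz => mem_sup_right hz))

end Irreducible

/-- A normal subgroup centralized modulo `O_p` is `p`-closed. -/
theorem isPClosed_of_commutator_le (N : Subgroup G) [N.Normal]
    (h : ⁅N, (⊤ : Subgroup G)⁆ ≤ Cfsg.pCore p G) : Cfsg.IsPClosed p ↥N := by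
  haveI := Solvable.pCore_normal p (G := G)
  refine (isPClosed_normal_iff N).mpr fun x hx k hk => ?_
  haveI : (Cfsg.pCore p G ⊔ zpowers x).Normal := by
    refine ⟨fun c hc g => ?_⟩
    obtain ⟨a, ha, z, hz, rfl⟩ := mem_sup_of_normal_left.mp hc
    rw [← conj_mul]
    refine mul_mem (mem_sup_left (Normal.conj_mem inferInstance a ha g)) ?_
    have h1 : ⁅z, g⁆ ∈ Cfsg.pCore p G :=
      h (commutator_mem_commutator ((zpowers_le).mpr hx hz) (mem_top g))
    rw [show g * z * g⁻¹ = ⁅z, g⁆⁻¹ * z by simp [commutatorElement_def]; group]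
    exact mul_mem (mem_sup_left (inv_mem h1)) (mem_sup_right hz)
  have hp := ((Solvable.isPGroup_pCore p).to_sup_of_normal_left (isPGroup_zpowers hk)
    : IsPGroup p (Cfsg.pCore p G ⊔ zpowers x : Subgroup G))
  exact Solvable.le_pCore p inferInstance hp (mem_sup_right (mem_zpowers x))

theorem isPIrreducible_of_strongly (hH : Cfsg.IsStronglyPIrreducible p G) :
    Cfsg.IsPIrreducible p G :=
  ⟨hH.1, fun N hN hnc => hH.2 N hN fun h => hnc (by haveI := hN; exact isPClosed_of_commutator_le N h)⟩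

section Quotient

variable {X : Type*} [Group X] [Finite X] (f : G →* X) (hf : Function.Surjective f)
  (hker : IsPGroup p f.ker)
include hf hker

theorem isPGroup_comap_of_ker {Q : Subgroup X} (hQ : IsPGroup p Q) : IsPGroup p (Q.comap f) := by
  intro x
  obtain ⟨k, hk⟩ := exists_pow_eq_one_of_mem hQ x.2
  have hxk : (x : G) ^ p ^ k ∈ f.ker := by rwa [MonoidHom.mem_ker, map_pow]
  obtain ⟨j, hj⟩ := exists_pow_eq_one_of_mem hker hxk
  exact ⟨k + j, Subtype.ext (by simpa [pow_add, pow_mul] using hj)⟩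

theorem pCore_comap : (Cfsg.pCore p X).comap f = Cfsg.pCore p G := by
  haveI := Solvable.pCore_normal p (G := G)
  haveI := Solvable.pCore_normal p (G := X)
  refine le_antisymm (Solvable.le_pCore p (Normal.comap inferInstance f)
    (isPGroup_comap_of_ker f hf hker (Solvable.isPGroup_pCore p))) ?_
  rw [← map_le_iff_le_comap]
  exact Solvable.le_pCore p (Normal.map inferInstance f hf) ((Solvable.isPGroup_pCore p).map _)

theorem pResidual_map : (Cfsg.pResidual p G).map f = Cfsg.pResidual p X := by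
  haveI := PResidual.pResidual_normal p (G := G)
  haveI : ((Cfsg.pResidual p G).map f).Normal := Normal.map inferInstance f hf
  refine le_antisymm (PResidual.map_pResidual_le f) ?_
  obtain ⟨k, hk⟩ := PResidual.exists_index_pResidual (G := G) (p := p)
  obtain ⟨j, -, hj⟩ := (Nat.dvd_prime_pow Fact.out).mp
    (hk ▸ index_map_dvd (H := Cfsg.pResidual p G) hf)
  exact PResidual.pResidual_le hj

theorem exists_lift {x : X} {k : ℕ} (hk : x ^ p ^ k = 1) :
    ∃ y : G, f y = x ∧ ∃ j, y ^ p ^ j = 1 := by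
  obtain ⟨y, rfl⟩ := hf x
  have hy : y ∈ (zpowers (f y)).comap f := mem_zpowers (f y)
  exact ⟨y, rfl, exists_pow_eq_one_of_mem (isPGroup_comap_of_ker f hf hker (isPGroup_zpowers hk)) hy⟩

theorem isPClosed_normal_map (N : Subgroup G) [N.Normal] [(N.map f).Normal]
    (h : Cfsg.IsPClosed p ↥(N.map f)) : Cfsg.IsPClosed p ↥N := by
  refine (isPClosed_normal_iff N).mpr fun x hx k hk => ?_
  rw [← pCore_comap f hf hker]
  exact (isPClosed_normal_iff (N.map f)).mp h _ (mem_map_of_mem f hx) k
    (by rw [← map_pow, hk, map_one])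

theorem isPClosed_normal_comap (M : Subgroup X) [M.Normal]
    (h : Cfsg.IsPClosed p ↥(M.comap f)) : Cfsg.IsPClosed p ↥M := by
  refine (isPClosed_normal_iff M).mpr fun x hx k hk => ?_
  obtain ⟨y, rfl, j, hj⟩ := exists_lift f hf hker hk
  have := (isPClosed_normal_iff (M.comap f)).mp h y hx j hj
  rwa [← pCore_comap f hf hker] at this

theorem isPClosed_iff_of_surjective : Cfsg.IsPClosed p G ↔ Cfsg.IsPClosed p X := by
  constructor
  · intro h
    refine isPClosed_iff.mpr fun x k hk => ?_
    obtain ⟨y, rfl, j, hj⟩ := exists_lift f hf hker hk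
    have := isPClosed_iff.mp h y j hj
    rwa [← pCore_comap f hf hker] at this
  · intro h
    refine isPClosed_iff.mpr fun y k hk => ?_
    rw [← pCore_comap f hf hker]
    exact isPClosed_iff.mp h _ k (by rw [← map_pow, hk, map_one])

theorem le_of_map_le {N : Subgroup G} [N.Normal]
    (h : Cfsg.pResidual p X ≤ N.map f) : Cfsg.pResidual p G ≤ N := by
  refine pResidual_le_of_sup_pGroup hker ?_
  rw [← pResidual_map f hf hker, map_le_iff_le_comap, comap_map_eq] at h
  exact h

theorem isPIrreducible_iff_of_surjective :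
    Cfsg.IsPIrreducible p G ↔ Cfsg.IsPIrreducible p X := by
  have hcl := isPClosed_iff_of_surjective f hf hker
  constructor
  · rintro ⟨h1, h2⟩
    refine ⟨fun h => h1 (hcl.mpr h), fun M hM hnc => ?_⟩
    haveI := hM
    haveI : (M.comap f).Normal := Normal.comap inferInstance f
    rw [← pResidual_map f hf hker, map_le_iff_le_comap]
    exact h2 _ inferInstance fun h => hnc (isPClosed_normal_comap f hf hker M h)
  · rintro ⟨h1, h2⟩
    refine ⟨fun h => h1 (hcl.mp h), fun N hN hnc => ?_⟩
    haveI := hN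
    haveI : (N.map f).Normal := Normal.map inferInstance f hf
    exact le_of_map_le f hf hker
      (h2 _ inferInstance fun h => hnc (isPClosed_normal_map f hf hker N h))

theorem commutator_top_le_iff (N : Subgroup G) :
    ⁅N.map f, (⊤ : Subgroup X)⁆ ≤ Cfsg.pCore p X ↔ ⁅N, (⊤ : Subgroup G)⁆ ≤ Cfsg.pCore p G := by
  rw [← map_top_of_surjective f hf, ← map_commutator, map_le_iff_le_comap, pCore_comap f hf hker]

theorem isStronglyPIrreducible_iff_of_surjective :
    Cfsg.IsStronglyPIrreducible p G ↔ Cfsg.IsStronglyPIrreducible p X := by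
  have hcl := isPClosed_iff_of_surjective f hf hker
  constructor
  · rintro ⟨h1, h2⟩
    refine ⟨fun h => h1 (hcl.mpr h), fun M hM hnc => ?_⟩
    haveI := hM
    rw [← pResidual_map f hf hker, map_le_iff_le_comap]
    refine h2 _ (Normal.comap inferInstance f) fun h => hnc ?_
    rwa [← commutator_top_le_iff f hf hker, map_comap_eq_self_of_surjective hf] at h
  · rintro ⟨h1, h2⟩
    refine ⟨fun h => h1 (hcl.mp h), fun N hN hnc => ?_⟩
    haveI := hN
    exact le_of_map_le f hf hker (h2 _ (Normal.map inferInstance f hf) fun h =>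
      hnc ((commutator_top_le_iff f hf hker N).mp h))

end Quotient

end CfsgLib.CharP

namespace CfsgLib.CharP

open Subgroup

variable {G : Type*} [Group G] [Finite G] {p : ℕ} [Fact p.Prime]

/-- A `p`-minimal group is `p`-irreducible. -/
theorem isPIrreducible_of_minimal (T : Sylow p G) (hmin : Cfsg.IsMinimalOver (T : Subgroup G)) :
    Cfsg.IsPIrreducible p G := by
  obtain ⟨hcl, M, ⟨hM, hTM⟩, huniq⟩ := hmin
  have hover : ∀ X : Subgroup G, (T : Subgroup G) ≤ X → X = ⊤ ∨ X ≤ M := by
    intro X hX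
    rcases eq_top_or_exists_le_coatom X with h | ⟨M', hM', hXM'⟩
    · exact Or.inl h
    · exact Or.inr (huniq M' ⟨hM', hX.trans hXM'⟩ ▸ hXM')
  refine ⟨fun h => ?_, fun N hN hnc => ?_⟩
  · haveI := h T
    rw [normalClosure_eq_self] at hcl
    exact hM.1 (top_le_iff.mp (hcl ▸ hTM))
  haveI := hN
  rcases hover (N ⊔ (T : Subgroup G)) le_sup_right with htop | hle
  · exact pResidual_le_of_sup_pGroup T.2 (htop ▸ le_top)
  refine absurd ((isPClosed_normal_iff N).mpr fun x hx k hk => ?_) hnc
  -- Frattini argument for `T ⊓ N`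
  have hdvd : ¬ p ∣ ((T : Subgroup G).subgroupOf N).index := by
    intro h
    have h1 : ((T : Subgroup G).subgroupOf N).index * Nat.card (↥((T : Subgroup G) ⊓ N)) =
        Nat.card N := by
      rw [← card_mul_index ((T : Subgroup G).subgroupOf N), mul_comm]
      congr 1
      rw [← Nat.card_congr (subgroupOfEquivOfLe (inf_le_right : (T : Subgroup G) ⊓ N ≤ N)).toEquiv,
        inf_subgroupOf_right]
    have h2 := Solvable.card_sup_mul_card_inf (A := (T : Subgroup G)) (K := N)
      (normalizer_eq_top_iff.mpr hN ▸ le_top)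
    rw [← h1] at h2
    have h3 : Nat.card ↥((T : Subgroup G) ⊔ N) =
        Nat.card (T : Subgroup G) * ((T : Subgroup G).subgroupOf N).index :=
      Nat.eq_of_mul_eq_mul_right Nat.card_pos (h2.trans (by ring))
    refine T.not_dvd_index ((h.trans ?_))
    have h4 := card_mul_index ((T : Subgroup G) ⊔ N)
    rw [h3, mul_assoc, ← card_mul_index (T : Subgroup G)] at h4
    exact Dvd.intro _ (Nat.eq_of_mul_eq_mul_left Nat.card_pos h4)
  let P : Sylow p N := (T.2.comap_subtype).toSylow hdvd
  have hfrat := P.normalizer_sup_eq_top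
  set P' := (P : Subgroup N).map N.subtype with hP'
  have hP'eq : P' = (T : Subgroup G) ⊓ N := subgroupOf_map_subtype _ _
  have hTP : (T : Subgroup G) ≤ normalizer (P' : Set G) := by
    intro t ht
    refine mem_normalizer_fintype fun c hc => ?_
    rw [hP'eq] at hc ⊢
    exact ⟨(T : Subgroup G).mul_mem ((T : Subgroup G).mul_mem ht hc.1) ((T : Subgroup G).inv_mem ht),
      hN.conj_mem c hc.2 t⟩
  have hnorm : normalizer (P' : Set G) = ⊤ := by
    rcases hover _ hTP with h | h
    · exact h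
    · exact absurd (top_le_iff.mp (hfrat ▸ sup_le h (le_sup_left.trans hle))) hM.1
  haveI hPn : P'.Normal := normalizer_eq_top_iff.mp hnorm
  have hPO : P' ≤ Cfsg.pCore p G := Solvable.le_pCore p hPn (P.2.map _)
  haveI : (P : Subgroup N).Normal := by
    have h := Normal.comap hPn N.subtype
    rwa [hP', comap_map_eq_self_of_injective N.subtype_injective] at h
  haveI := Sylow.unique_of_normal P this
  obtain ⟨R, hR⟩ :=
    (isPGroup_zpowers (x := (⟨x, hx⟩ : N)) (k := k) (Subtype.ext (by simpa using hk))).exists_le_sylow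
  rw [Subsingleton.elim R P] at hR
  exact hPO (mem_map_of_mem N.subtype (hR (mem_zpowers _)))

theorem minimal_quotient (T : Sylow p G) (hmin : Cfsg.IsMinimalOver (T : Subgroup G)) (N : Subgroup G)
    [N.Normal] : IsPGroup p (G ⧸ N) ∨
      Cfsg.IsMinimalOver ((T : Subgroup G).map (QuotientGroup.mk' N)) := by
  obtain ⟨hcl, M, ⟨hM, hTM⟩, huniq⟩ := hmin
  set f := QuotientGroup.mk' N with hf
  have hsurj := QuotientGroup.mk'_surjective N
  by_cases hpg : IsPGroup p (G ⧸ N)
  · exact Or.inl hpg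
  refine Or.inr ⟨?_, ?_⟩
  · refine top_le_iff.mp ?_
    rw [← map_top_of_surjective f hsurj, ← hcl, coe_map]
    exact (map_normalClosure _ f hsurj).le
  · have hne : (T : Subgroup G).map f ≠ ⊤ := fun h => hpg
      ((h ▸ T.2.map f : IsPGroup p (⊤ : Subgroup (G ⧸ N))).of_equiv Subgroup.topEquiv)
    obtain ⟨X, hX, hTX⟩ := (eq_top_or_exists_le_coatom _).resolve_left hne
    have key : ∀ Y : Subgroup (G ⧸ N), IsCoatom Y → (T : Subgroup G).map f ≤ Y → Y.comap f = M := by
      intro Y hY hTY
      refine huniq _ ⟨?_, map_le_iff_le_comap.mp hTY⟩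
      refine ⟨fun h => hY.1 ?_, fun Z hZ => ?_⟩
      · rw [← map_comap_eq_self_of_surjective hsurj Y, h, map_top_of_surjective f hsurj]
      · have hkerZ : f.ker ≤ Z := le_trans (comap_mono bot_le) hZ.le
        rw [← comap_map_eq_self hkerZ, hY.2 (Z.map f) ?_, comap_top]
        refine lt_of_le_of_ne ?_ fun h => hZ.ne ?_
        · calc Y = (Y.comap f).map f := (map_comap_eq_self_of_surjective hsurj Y).symm
            _ ≤ Z.map f := map_mono hZ.le
        · rw [h, comap_map_eq_self hkerZ]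
    refine ⟨X, ⟨hX, hTX⟩, fun Y hY => ?_⟩
    exact comap_injective hsurj ((key Y hY.1 hY.2).trans (key X hX hTX).symm)

end CfsgLib.CharP
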