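import Cfsg.Agent.CharP.FrakMAsym
import Cfsg.Agent.CharP.PIrreducible
import Cfsg.Agent.CharP.Subnormal
import Cfsg.Agent.Transfer.PResidual

/-!
The families `ℌ_G(O_p M)`: existence and first properties.
-/

set_option autoImplicit false
set_option linter.style.haveILetI false
set_option linter.unusedSectionVars false
set_option linter.unusedVariables false

namespace CfsgLib.FrakM

open Subgroup CfsgLib CfsgLib.CharP
open scoped commutatorElement

variable {H : Type*} [Group H] [Finite H] {p : ℕ} [hp : Fact p.Prime]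

/-- `L` has characteristic `p`, in ambient terms. -/
def Inner (p : ℕ) (L : Subgroup H) : Prop :=
  L ⊓ centralizer (Cfsg.pCoreOf p L : Set H) ≤ Cfsg.pCoreOf p L

theorem inner_iff (L : Subgroup H) :
    Inner p L ↔ centralizer (Cfsg.pCore p ↥L : Set ↥L) ≤ Cfsg.pCore p ↥L := by
  constructor
  · intro h x hx
    obtain ⟨y, hy, he⟩ := h ⟨x.2, mem_centralizer_of_subtype.1 hx⟩
    exact Subtype.ext he ▸ hy
  · rintro h x ⟨hxL, hx⟩
    exact ⟨⟨x, hxL⟩, h (mem_centralizer_of_subtype.2 hx), rfl⟩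

theorem pCoreOf_inf_le {L K : Subgroup H} (h : K ≤ L) :
    K ⊓ Cfsg.pCoreOf p L ≤ Cfsg.pCoreOf p K := LocalB.opIn_inf_le h

theorem pCoreOf_le_of_normal {L K : Subgroup H} (h : K ≤ L) (hn : L ≤ normalizer (K : Set H)) :
    Cfsg.pCoreOf p K ≤ Cfsg.pCoreOf p L :=
  le_pCoreOf ((LocalB.opIn_le K).trans h) (isPGroup_pCoreOf K)
    (hn.trans (normalizer_le_normalizer_pCoreOf K))

theorem inner_of_le {L K : Subgroup H} (hL : Inner p L) (h : K ≤ L)
    (hO : Cfsg.pCoreOf p L ≤ K) : Inner p K := by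
  have hle : Cfsg.pCoreOf p L ≤ Cfsg.pCoreOf p K := fun x hx => pCoreOf_inf_le h ⟨hO hx, hx⟩
  exact fun x hx => hle (hL ⟨h hx.1, centralizer_le hle hx.2⟩)

theorem inner_of_normal {L K : Subgroup H} (hL : Inner p L) (h : K ≤ L)
    (hn : L ≤ normalizer (K : Set H)) : Inner p K := by
  set D := K ⊓ centralizer (Cfsg.pCoreOf p K : Set H) with hD
  have hDn : K ≤ normalizer (D : Set H) := fun k hk => mem_normalizer_iff.2 fun x => by
    rw [hD, Subgroup.mem_inf, Subgroup.mem_inf]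
    exact and_congr (conj_mem_iff hk).symm (mem_normalizer_iff.1
      (normalizer_le_normalizer_centralizer _ (le_normalizer_pCoreOf K hk)) x)
  refine le_pCoreOf inf_le_left (LocalB.isPGroup_of_forall fun x hx hcop => ?_) hDn
  have hxc : x ∈ centralizer (Cfsg.pCoreOf p L : Set H) := by
    refine mem_centralizer_iff.2 fun o (ho : o ∈ Cfsg.pCoreOf p L) => ?_
    have hm1 : x * o * x⁻¹ * o⁻¹ ∈ Cfsg.pCoreOf p L :=
      mul_mem ((mem_normalizer_iff.1 (le_normalizer_pCoreOf L (h hx.1)) o).1 ho) (inv_mem ho)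
    have hm2 : x * o * x⁻¹ * o⁻¹ ∈ K := by
      rw [show x * o * x⁻¹ * o⁻¹ = x * (o * x⁻¹ * o⁻¹) by simp [mul_assoc]]
      exact K.mul_mem hx.1 ((mem_normalizer_iff.1 (hn (LocalB.opIn_le L ho)) x⁻¹).1 (K.inv_mem hx.1))
    exact (LocalB.commute_of_stab (isPGroup_pCoreOf L) hcop hm1
      (mem_centralizer_iff.1 hx.2 _ (pCoreOf_inf_le h ⟨hm2, hm1⟩)).symm).eq.symm
  exact LocalB.eq_one_of_orderOf_coprime (isPGroup_pCoreOf L) (hL ⟨h hx.1, hxc⟩) hcop

/-- Elements of `N·O` have `p`-power powers in `N`. -/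
theorem exists_pow_mem_left {N O : Subgroup H} (hn : O ≤ normalizer (N : Set H)) (hO : IsPGroup p O)
    {x : H} (hx : x ∈ N ⊔ O) : ∃ k : ℕ, x ^ p ^ k ∈ N := by
  obtain ⟨i, hi⟩ := IsPGroup.iff_card.1 hO
  have hc := Solvable.card_sup_mul_card_inf hn
  haveI : (N.subgroupOf (N ⊔ O)).Normal :=
    normal_subgroupOf_of_le_normalizer (sup_le le_normalizer hn)
  have h2 := card_mul_index (N.subgroupOf (N ⊔ O))
  rw [Nat.card_congr (subgroupOfEquivOfLe (le_sup_left : N ≤ N ⊔ O)).toEquiv] at h2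
  rw [sup_comm O N, ← h2, hi] at hc
  have hd : (N.subgroupOf (N ⊔ O)).index ∣ p ^ i := by
    refine Dvd.intro (Nat.card ↥(O ⊓ N)) (Nat.eq_of_mul_eq_mul_left (Nat.card_pos (α := N)) ?_)
    linarith
  obtain ⟨k, -, hk⟩ := (Nat.dvd_prime_pow hp.out).1 hd
  exact ⟨k, mem_subgroupOf.1 (hk ▸ (N.subgroupOf (N ⊔ O)).pow_index_mem ⟨x, hx⟩)⟩

theorem inner_sup_pGroup {N O : Subgroup H} (hN : Inner p N) (hn : O ≤ normalizer (N : Set H))
    (hO : IsPGroup p O) : Inner p (N ⊔ O) := by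
  set L := N ⊔ O
  set D := L ⊓ centralizer (Cfsg.pCoreOf p L : Set H) with hD
  have hDn : L ≤ normalizer (D : Set H) := fun k hk => mem_normalizer_iff.2 fun x => by
    rw [hD, Subgroup.mem_inf, Subgroup.mem_inf]
    exact and_congr (conj_mem_iff hk).symm (mem_normalizer_iff.1
      (normalizer_le_normalizer_centralizer _ (le_normalizer_pCoreOf L hk)) x)
  have hNL : L ≤ normalizer (N : Set H) := sup_le le_normalizer hn
  refine le_pCoreOf inf_le_left (LocalB.isPGroup_of_forall fun x hx hcop => ?_) hDn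
  obtain ⟨k, hk⟩ := exists_pow_mem_left hn hO hx.1
  have hxN : x ∈ N := CharP.mem_of_pow_prime hcop hk
  exact LocalB.eq_one_of_orderOf_coprime (isPGroup_pCoreOf N)
    (hN ⟨hxN, centralizer_le (pCoreOf_le_of_normal le_sup_left hNL) hx.2⟩) hcop

theorem mem_normalizer_of_map_le {U : Subgroup H} {a : H}
    (h : U.map (MulAut.conj a).toMonoidHom ≤ U) : a ∈ normalizer (U : Set H) :=
  mem_normalizer_of_map_eq' (eq_of_le_of_card_ge h
    (le_of_eq (card_map_of_injective (MulAut.conj a).injective).symm))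
where
  mem_normalizer_of_map_eq' {U : Subgroup H} {a : H} (h : U.map (MulAut.conj a).toMonoidHom = U) :
      a ∈ normalizer (U : Set H) := by
    refine mem_normalizer_iff.2 fun y => ⟨fun hy => h.le ⟨y, hy, rfl⟩, fun hy => ?_⟩
    obtain ⟨y', hy', he⟩ := h.ge hy
    exact (MulAut.conj a).injective he ▸ hy'

/-- The left factor normalizes a commutator subgroup. -/
theorem left_normalizes_commutator (A B : Subgroup H) : A ≤ normalizer ((⁅A, B⁆ : Subgroup H) : Set H) := by
  intro a ha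
  refine mem_normalizer_of_map_le ?_
  rw [map_le_iff_le_comap, commutator_le]
  intro x hx b hb
  show a * ⁅x, b⁆ * a⁻¹ ∈ ⁅A, B⁆
  rw [show a * ⁅x, b⁆ * a⁻¹ = ⁅a * x, b⁆ * ⁅a, b⁆⁻¹ by simp [commutatorElement_def, mul_assoc]]
  exact mul_mem (commutator_mem_commutator (mul_mem ha hx) hb)
    (inv_mem (commutator_mem_commutator ha hb))

/-- In a finite nilpotent group every subgroup is subnormal. -/
theorem isSubnormal_of_nilpotent {G : Type*} [Group G] [Finite G] [Group.IsNilpotent G]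
    (K : Subgroup G) : K.IsSubnormal := by
  obtain ⟨n, hn⟩ : ∃ n, K.index = n := ⟨_, rfl⟩
  induction n using Nat.strong_induction_on generalizing K with
  | _ n ih =>
    rcases eq_or_ne K ⊤ with rfl | hK
    · exact Subgroup.IsSubnormal.top
    have hlt := Group.normalizerCondition_of_isNilpotent K (lt_top_iff_ne_top.2 hK)
    refine Subgroup.IsSubnormal.step K (normalizer (K : Set G)) hlt.le
      (ih _ (hn ▸ index_strictAnti hlt) _ rfl) ?_
    exact normal_subgroupOf_of_le_normalizer le_rfl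

theorem centralizer_cj (a : H) (U : Subgroup H) :
    centralizer ((cj a U : Subgroup H) : Set H) = cj a (centralizer (U : Set H)) := by
  ext x
  constructor
  · intro hx
    refine mem_cj.2 (mem_centralizer_iff.2 fun y hy => ?_)
    have h := mem_centralizer_iff.1 hx _ (⟨y, hy, rfl⟩ : a * y * a⁻¹ ∈ cj a U)
    calc y * (a⁻¹ * x * a) = a⁻¹ * (a * y * a⁻¹ * x) * a := by simp [mul_assoc]
      _ = a⁻¹ * (x * (a * y * a⁻¹)) * a := by rw [h]
      _ = _ := by simp [mul_assoc]
  · intro hx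
    refine mem_centralizer_iff.2 fun y hy => ?_
    have h := mem_centralizer_iff.1 (mem_cj.1 hx) _ (mem_cj.1 hy)
    calc y * x = a * ((a⁻¹ * y * a) * (a⁻¹ * x * a)) * a⁻¹ := by simp [mul_assoc]
      _ = a * ((a⁻¹ * x * a) * (a⁻¹ * y * a)) * a⁻¹ := by rw [h]
      _ = _ := by simp [mul_assoc]

theorem pCoreOf_cj_le (a : H) (L : Subgroup H) :
    cj a (Cfsg.pCoreOf p L) ≤ Cfsg.pCoreOf p (cj a L) := by
  refine le_pCoreOf (cj_mono a (LocalB.opIn_le L)) ((isPGroup_pCoreOf L).map _) ?_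
  rw [normalizer_cj]; exact cj_mono a (le_normalizer_pCoreOf L)

theorem pCoreOf_cj (a : H) (L : Subgroup H) :
    Cfsg.pCoreOf p (cj a L) = cj a (Cfsg.pCoreOf p L) := by
  refine le_antisymm ?_ (pCoreOf_cj_le a L)
  have h := cj_mono a (pCoreOf_cj_le (p := p) a⁻¹ (cj a L))
  rwa [cj_mul, mul_inv_cancel, cj_one, cj_mul a⁻¹ a, inv_mul_cancel, cj_one] at h

theorem inner_cj {L : Subgroup H} (hL : Inner p L) (a : H) : Inner p (cj a L) := by
  rw [Inner, pCoreOf_cj, centralizer_cj]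
  intro x hx
  exact mem_cj.2 (hL ⟨mem_cj.1 hx.1, mem_cj.1 hx.2⟩)

/-- A `p`-group is its subgroup once that is self-normalizing in it. -/
theorem eq_of_normalizer_inf_le {P O : Subgroup H} (hP : IsPGroup p P) (hOP : O ≤ P)
    (h : P ⊓ normalizer (O : Set H) ≤ O) : O = P := by
  refine le_antisymm hOP ?_
  haveI := hP.isNilpotent
  by_contra hne
  have hlt : O.subgroupOf P < ⊤ := lt_top_iff_ne_top.2 fun ht => hne (subgroupOf_eq_top.1 ht)
  obtain ⟨s, hs, hsO⟩ := SetLike.exists_of_lt (Group.normalizerCondition_of_isNilpotent _ hlt)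
  refine hsO (mem_subgroupOf.2 (h ⟨s.2, mem_normalizer_iff.2 fun x => ?_⟩))
  by_cases hx : x ∈ P
  · exact mem_normalizer_iff.1 hs ⟨x, hx⟩
  · refine ⟨fun h1 => absurd (hOP h1) hx, fun h1 => absurd ?_ hx⟩
    exact (conj_mem_iff s.2).1 (hOP h1)

variable {T : Sylow p H} {M : Subgroup H}

local notation "YM" => Cfsg.largestPReducedOf p M
local notation "CM" => centralizer (Cfsg.largestPReducedOf p M : Set H)
local notation "OM" => Cfsg.pCoreOf p M
local notation "MD" => M ⊔ centralizer (Cfsg.largestPReducedOf p M : Set H)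

/-- `O_p` of a member of `ℌ` normalizes `O_p(M)`. -/
theorem Ctx.pCoreOf_le_normalizer (h : Ctx T M) (hasym : ¬ Cfsg.IsSymmetricIn YM) {X : Subgroup H}
    (hOX : OM ≤ X) : Cfsg.pCoreOf p X ≤ normalizer (OM : Set H) := by
  have hn : OM ≤ normalizer (Cfsg.pCoreOf p X : Set H) := hOX.trans (le_normalizer_pCoreOf X)
  have hp' : IsPGroup p ↥(OM ⊔ Cfsg.pCoreOf p X) := by
    obtain ⟨i, hi⟩ := IsPGroup.iff_card.1 (isPGroup_pCoreOf (p := p) M)
    obtain ⟨j, hj⟩ := IsPGroup.iff_card.1 (isPGroup_pCoreOf (p := p) X)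
    have h1 := Solvable.card_sup_dvd hn
    rw [hi, hj, ← pow_add] at h1
    obtain ⟨k, -, hk⟩ := (Nat.dvd_prime_pow hp.out).1 h1
    exact IsPGroup.of_card hk
  exact le_sup_right.trans (le_normalizer.trans (h.normalizer_pGroup_le hasym hp' le_sup_left))

/-- A minimal candidate lies in `ℌ_G(O_p M)`. -/
theorem Ctx.exists_frakH (h : Ctx T M) (hasym : ¬ Cfsg.IsSymmetricIn YM)
    (htall : Cfsg.IsCharPTall p YM) : ∃ X : Subgroup H, Cfsg.IsInFrakH p M X := by
  obtain ⟨T', L, hTL, hLc, hnot⟩ := htall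
  set T'' := (T' : Subgroup CM).map (CM).subtype with hT''
  obtain ⟨P, hP⟩ := ((isPGroup_pCoreOf M).of_equiv
    (subgroupOfEquivOfLe (pCoreOf_le_centralizer (p := p) M)).symm).exists_le_sylow
  have hPO : (P : Subgroup CM).map (CM).subtype = OM := h.eq_of_le_pGroup (P.2.map _)
    (fun x hx => ⟨⟨x, pCoreOf_le_centralizer M hx⟩, hP (mem_subgroupOf.2 hx), rfl⟩) (map_subtype_le _)
  obtain ⟨c, hc⟩ := MulAction.exists_smul_eq CM T' P
  have hle : OM ≤ cj (c : H) T'' := by
    rw [← hPO, ← hc]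
    rintro _ ⟨_, ⟨y, hy, rfl⟩, rfl⟩
    exact ⟨(y : H), ⟨y, hy, rfl⟩, rfl⟩
  have hYfix : cj (c : H) YM = YM := cj_eq_self (centralizer_le_normalizer _ c.2)
  obtain ⟨X, ⟨hOX, hXc, hXn⟩, hmin⟩ :=
    (Set.toFinite {X : Subgroup H | OM ≤ X ∧ Inner p X ∧ ¬ YM ≤ Cfsg.pCoreOf p X}).exists_minimalFor
      id _ ⟨cj (c : H) L, hle.trans (cj_mono _ hTL), inner_cj ((inner_iff L).2 hLc) _, fun hY => hnot (by
        have h2 : cj (c : H) YM ≤ cj (c : H) (Cfsg.pCoreOf p L) := by
          rw [← pCoreOf_cj]; exact hYfix.le.trans hY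
        have := cj_mono (c : H)⁻¹ h2
        rwa [cj_mul, cj_mul, inv_mul_cancel, cj_one, cj_one] at this)⟩
  refine ⟨X, (inner_iff X).1 hXc, hOX, hXn, fun P hOP hPX => ?_⟩
  have hmin' : ∀ P' : Subgroup H, OM ≤ P' → P' < X → Inner p P' → YM ≤ Cfsg.pCoreOf p P' :=
    fun P' h1 h2 h3 => by_contra fun h4 => h2.not_ge (hmin (j := P') ⟨h1, h3, h4⟩ h2.le)
  have hYP : YM ≤ P := (largestPReducedOf_le_pCoreOf M).trans hOP
  set OX := Cfsg.pCoreOf p X with hOXdef
  set P' := P ⊔ OX with hP'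
  have hP'X : P' ≤ X := sup_le hPX.le (LocalB.opIn_le X)
  rcases eq_or_lt_of_le hP'X with heq | hlt
  swap
  · have hY := hmin' P' (hOP.trans le_sup_left) hlt (inner_of_le hXc hP'X le_sup_right)
    exact fun y hy => pCoreOf_inf_le (le_sup_left : P ≤ P') ⟨hYP hy, hY hy⟩
  exfalso
  have hOXY : OX ≤ normalizer (YM : Set H) :=
    (h.pCoreOf_le_normalizer hasym hOX).trans (h.normalizer_core_le.trans h.dagger_le_normalizer)
  set N := closure {x : H | ∃ a ∈ P, ∃ y ∈ YM, x = a * y * a⁻¹} with hN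
  have hNP : N ≤ P := (closure_le _).2 fun x ⟨a, ha, y, hy, he⟩ =>
    he ▸ mul_mem (mul_mem ha (hYP hy)) (inv_mem ha)
  have hYN : YM ≤ N := fun y hy => subset_closure ⟨1, one_mem _, y, hy, by simp⟩
  have key : ∀ g ∈ X, ∀ v ∈ N, g * v * g⁻¹ ∈ N := by
    intro g hg v hv
    induction hv using closure_induction with
    | mem v hv =>
      obtain ⟨a, ha, y, hy, rfl⟩ := hv
      obtain ⟨b, hb, o, ho, hbo⟩ := exists_mul_of_mem_sup
        (hPX.le.trans (le_normalizer_pCoreOf X)) (heq.ge (mul_mem hg (hPX.le ha)))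
      refine subset_closure ⟨b, hb, o * y * o⁻¹, (mem_normalizer_iff.1 (hOXY ho) y).1 hy, ?_⟩
      rw [show g * (a * y * a⁻¹) * g⁻¹ = (g * a) * y * (g * a)⁻¹ by simp [mul_assoc], hbo]
      simp [mul_assoc]
    | one => simp
    | mul v w _ _ h1 h2 => have := mul_mem h1 h2; simpa [mul_assoc] using this
    | inv v _ h1 => have := inv_mem h1; simpa [mul_assoc] using this
  have hNn : X ≤ normalizer (N : Set H) := fun g hg => mem_normalizer_iff.2 fun v =>
    ⟨key g hg v, fun hv => by simpa [mul_assoc] using key g⁻¹ (inv_mem hg) _ hv⟩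
  have hNX : N ≤ X := hNP.trans hPX.le
  set P'' := N ⊔ OM with hP''
  have hP''X : P'' < X := lt_of_le_of_lt (sup_le hNP hOP) hPX
  have hY := hmin' P'' le_sup_right hP''X
    (inner_sup_pGroup (inner_of_normal hXc hNX hNn) (hOX.trans hNn) (isPGroup_pCoreOf M))
  exact hXn fun y hy => pCoreOf_le_of_normal hNX hNn
    (pCoreOf_inf_le (le_sup_left : N ≤ P'') ⟨hYN hy, hY hy⟩)

/-- The main property of a member of `ℌ`: a normal subgroup with proper product with `O_p(M)`
cannot contain `Y_M`. -/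
theorem frakH_eq_top {X N : Subgroup H} (hX : Cfsg.IsInFrakH p M X) (hNX : N ≤ X)
    (hn : X ≤ normalizer (N : Set H)) (hYN : YM ≤ N) : N ⊔ OM = X := by
  rcases eq_or_lt_of_le (sup_le hNX hX.2.1) with h | h
  · exact h
  refine absurd ?_ hX.2.2.1
  have hY := hX.2.2.2 _ le_sup_right h
  exact fun y hy => pCoreOf_le_of_normal hNX hn
    (pCoreOf_inf_le (le_sup_left : N ≤ N ⊔ OM) ⟨hYN hy, hY hy⟩)

/-- `O^p(X)` in the ambient group. -/
abbrev res (p : ℕ) (X : Subgroup H) : Subgroup H := (Cfsg.pResidual p ↥X).map X.subtype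

theorem mem_res {X : Subgroup H} {x : H} (hx : x ∈ X) (hc : (orderOf x).Coprime p) : x ∈ res p X :=
  ⟨⟨x, hx⟩, PResidual.mem_pResidual p (by rwa [Subgroup.orderOf_mk]), rfl⟩

theorem res_le {X K : Subgroup H} (h : ∀ x ∈ X, (orderOf x).Coprime p → x ∈ K) : res p X ≤ K := by
  rw [res, Cfsg.pResidual, MonoidHom.map_closure, closure_le]
  rintro _ ⟨x, hx, rfl⟩
  refine h _ x.2 ?_
  rw [Subgroup.coe_subtype, Subgroup.orderOf_coe]
  exact hx

theorem le_normalizer_res (X : Subgroup H) : X ≤ normalizer (res p X : Set H) := by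
  have key : ∀ g ∈ X, ∀ v ∈ res p X, g * v * g⁻¹ ∈ res p X := by
    rintro g hg _ ⟨v, hv, rfl⟩
    exact ⟨⟨g, hg⟩ * v * ⟨g, hg⟩⁻¹, (PResidual.pResidual_normal p).conj_mem v hv _, rfl⟩
  exact fun g hg => mem_normalizer_iff.2 fun v =>
    ⟨key g hg v, fun hv => by simpa [mul_assoc] using key g⁻¹ (inv_mem hg) _ hv⟩

theorem exists_pow_mem_res {X : Subgroup H} {x : H} (hx : x ∈ X) :
    ∃ k : ℕ, x ^ p ^ k ∈ res p X :=
  ⟨_, _, PResidual.pow_mem_pResidual hp.out ⟨x, hx⟩, rfl⟩

/-- `O^p(X) O_p(M) = X`. -/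
theorem frakH_res_sup {X : Subgroup H} (hX : Cfsg.IsInFrakH p M X) : res p X ⊔ OM = X := by
  have hRX : res p X ≤ X := map_subtype_le _
  rcases eq_or_lt_of_le (sup_le hRX hX.2.1) with h | h
  · exact h
  refine absurd ?_ hX.2.2.1
  have hY := hX.2.2.2 _ le_sup_right h
  set P := res p X ⊔ OM with hP
  set A := (Cfsg.pCoreOf p P).subgroupOf X with hA
  -- `P` contains `O^p(X)`, hence is subnormal
  have hsn : (P.subgroupOf X).IsSubnormal := by
    haveI hRn : ((res p X).subgroupOf X).Normal := normal_subgroupOf_of_le_normalizer (le_normalizer_res X)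
    set π := QuotientGroup.mk' ((res p X).subgroupOf X)
    have hq : IsPGroup p (↥X ⧸ (res p X).subgroupOf X) := by
      intro q
      obtain ⟨x, rfl⟩ := QuotientGroup.mk'_surjective _ q
      obtain ⟨k, hk⟩ := exists_pow_mem_res (p := p) x.2
      exact ⟨k, by rw [← map_pow]; exact (QuotientGroup.eq_one_iff _).2 (mem_subgroupOf.2 hk)⟩
    haveI := hq.isNilpotent
    have h2 : ((P.subgroupOf X).map π).comap π = P.subgroupOf X := by
      refine comap_map_eq_self ?_
      rw [QuotientGroup.ker_mk']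
      exact fun x hx => mem_subgroupOf.2 (mem_sup_left (mem_subgroupOf.1 hx))
    rw [← h2]
    exact (isSubnormal_of_nilpotent _).comap π
  have hAsn : A.IsSubnormal := by
    have hPP : A ≤ P.subgroupOf X := fun x hx => LocalB.opIn_le P hx
    refine Subgroup.IsSubnormal.step A (P.subgroupOf X) hPP hsn ?_
    refine normal_subgroupOf_of_le_normalizer fun x hx => mem_normalizer_iff.2 fun y => ?_
    exact mem_normalizer_iff.1 (le_normalizer_pCoreOf P hx) y
  have hle := subnormal_pGroup_le_pCore hAsn ((isPGroup_pCoreOf P).of_equiv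
    (subgroupOfEquivOfLe ((LocalB.opIn_le P).trans h.le)).symm)
  intro y hy
  exact ⟨⟨y, h.le (mem_sup_right (largestPReducedOf_le_pCoreOf M hy))⟩, hle (mem_subgroupOf.2 (hY hy)), rfl⟩

theorem Ctx.core_le_normalizer_y (h : Ctx T M) : OM ≤ normalizer (YM : Set H) :=
  (LocalB.opIn_le M).trans (le_normalizer_largestPReducedOf M)

/-- `[O^p(X), Y] = O^p(X)`. -/
theorem Ctx.frakH_commutator (h : Ctx T M) {X : Subgroup H} (hX : Cfsg.IsInFrakH p M X) :
    ⁅res p X, YM⁆ = res p X := by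
  set R := res p X with hR
  have hRX : R ≤ X := map_subtype_le _
  have hYX : YM ≤ X := (largestPReducedOf_le_pCoreOf M).trans hX.2.1
  have hYR : YM ≤ normalizer (R : Set H) := hYX.trans (le_normalizer_res X)
  have hle : ⁅R, YM⁆ ≤ R := le_normalizer_iff_commutator_le_left.1 hYR
  refine le_antisymm hle (res_le fun x hx hc => ?_)
  set C := ⁅R, YM⁆ with hC
  have hOn : OM ≤ normalizer (C : Set H) := fun o ho => by
    refine mem_normalizer_of_map_le ?_
    show C.map (MulAut.conj o).toMonoidHom ≤ C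
    rw [hC, map_commutator]
    exact commutator_mono (cj_eq_self (le_normalizer_res X (hX.2.1 ho))).le
      (cj_eq_self (h.core_le_normalizer_y ho)).le
  have hRn : R ≤ normalizer (C : Set H) := left_normalizes_commutator R YM
  have hXn : X ≤ normalizer (C : Set H) := (frakH_res_sup hX).ge.trans (sup_le hRn hOn)
  have hYn : YM ≤ normalizer (C : Set H) := hYX.trans hXn
  set N := C ⊔ YM with hN
  have hNn : X ≤ normalizer (N : Set H) := by
    refine (frakH_res_sup hX).ge.trans (sup_le (fun r hr => ?_) fun o ho => ?_)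
    · refine mem_normalizer_of_map_le ?_
      show N.map (MulAut.conj r).toMonoidHom ≤ N
      rw [hN, Subgroup.map_sup]
      refine sup_le ((cj_eq_self (hRn hr)).le.trans le_sup_left) ?_
      rintro _ ⟨y, hy, rfl⟩
      show r * y * r⁻¹ ∈ N
      rw [show r * y * r⁻¹ = ⁅r, y⁆ * y by simp [commutatorElement_def, mul_assoc]]
      exact mul_mem (mem_sup_left (commutator_mem_commutator hr hy)) (mem_sup_right hy)
    · refine mem_normalizer_of_map_le ?_
      show N.map (MulAut.conj o).toMonoidHom ≤ N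
      rw [hN, Subgroup.map_sup]
      exact sup_le_sup (cj_eq_self (hOn ho)).le (cj_eq_self (h.core_le_normalizer_y ho)).le
  have htop : C ⊔ OM = X := by
    refine le_antisymm (sup_le (hle.trans hRX) hX.2.1) ?_
    refine (frakH_eq_top hX (sup_le (hle.trans hRX) hYX) hNn le_sup_right).ge.trans ?_
    exact sup_le (sup_le le_sup_left ((largestPReducedOf_le_pCoreOf M).trans le_sup_right)) le_sup_right
  obtain ⟨k, hk⟩ := exists_pow_mem_left hOn (isPGroup_pCoreOf M) (htop.ge hx)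
  exact CharP.mem_of_pow_prime hc hk

theorem normalClosure_map_le {X U K : Subgroup H} (hUK : U ≤ K) (hn : X ≤ normalizer (K : Set H)) :
    (normalClosure ((U.subgroupOf X : Subgroup ↥X) : Set ↥X)).map X.subtype ≤ K := by
  rw [normalClosure, MonoidHom.map_closure, closure_le]
  rintro _ ⟨x, hx, rfl⟩
  obtain ⟨a, ha, hax⟩ := Group.mem_conjugatesOfSet_iff.1 hx
  obtain ⟨m, rfl⟩ := isConj_iff.1 hax
  show (m : H) * a * (m : H)⁻¹ ∈ K
  exact (mem_normalizer_iff.1 (hn m.2) _).1 (hUK ha)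

theorem le_normalClosure_map {X U : Subgroup H} (hUX : U ≤ X) :
    U ≤ (normalClosure ((U.subgroupOf X : Subgroup ↥X) : Set ↥X)).map X.subtype :=
  fun x hx => ⟨⟨x, hUX hx⟩, subset_normalClosure hx, rfl⟩

theorem le_normalizer_normalClosure_map {X U : Subgroup H} :
    X ≤ normalizer (((normalClosure ((U.subgroupOf X : Subgroup ↥X) : Set ↥X)).map X.subtype : Subgroup H) : Set H) := by
  have key : ∀ g ∈ X, ∀ v ∈ (normalClosure ((U.subgroupOf X : Subgroup ↥X) : Set ↥X)).map X.subtype,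
      g * v * g⁻¹ ∈ (normalClosure ((U.subgroupOf X : Subgroup ↥X) : Set ↥X)).map X.subtype := by
    rintro g hg _ ⟨v, hv, rfl⟩
    exact ⟨⟨g, hg⟩ * v * ⟨g, hg⟩⁻¹, normalClosure_normal.conj_mem v hv _, rfl⟩
  exact fun g hg => mem_normalizer_iff.2 fun v =>
    ⟨key g hg v, fun hv => by simpa [mul_assoc] using key g⁻¹ (inv_mem hg) _ hv⟩

theorem Ctx.frakH_closure_y (h : Ctx T M) {X : Subgroup H} (hX : Cfsg.IsInFrakH p M X) :
    res p X ⊔ YM = (normalClosure (((YM).subgroupOf X : Subgroup ↥X) : Set ↥X)).map X.subtype := by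
  have hYX : YM ≤ X := (largestPReducedOf_le_pCoreOf M).trans hX.2.1
  refine le_antisymm (sup_le ?_ (le_normalClosure_map hYX)) (normalClosure_map_le le_sup_right ?_)
  · rw [← h.frakH_commutator hX]
    refine le_trans (commutator_mono le_rfl (le_normalClosure_map hYX)) ?_
    exact le_normalizer_iff_commutator_le_right.1
      ((map_subtype_le _).trans le_normalizer_normalClosure_map)
  · refine (frakH_res_sup hX).ge.trans (sup_le ?_ ?_)
    · exact (le_sup_left : res p X ≤ res p X ⊔ YM).trans le_normalizer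
    · intro o ho
      refine mem_normalizer_of_map_le ?_
      show (res p X ⊔ YM).map (MulAut.conj o).toMonoidHom ≤ res p X ⊔ YM
      rw [Subgroup.map_sup]
      exact sup_le_sup (cj_eq_self (le_normalizer_res X (hX.2.1 ho))).le
        (cj_eq_self (h.core_le_normalizer_y ho)).le

theorem frakH_closure_core {X : Subgroup H} (hX : Cfsg.IsInFrakH p M X) :
    (normalClosure (((OM).subgroupOf X : Subgroup ↥X) : Set ↥X)).map X.subtype = X := by
  have h := frakH_eq_top hX (map_subtype_le _) le_normalizer_normalClosure_map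
    ((largestPReducedOf_le_pCoreOf M).trans (le_normalClosure_map hX.2.1))
  rwa [sup_eq_left.2 (le_normalClosure_map hX.2.1)] at h

/-- Sylow subgroups of `X ∩ M†` are Sylow in `X`. -/
theorem Ctx.frakH_sylow (h : Ctx T M) (hasym : ¬ Cfsg.IsSymmetricIn YM) {X : Subgroup H}
    (hX : Cfsg.IsInFrakH p M X) (T₁ : Sylow p ↥(X ⊓ MD)) :
    ∃ P : Sylow p ↥X, ((P : Subgroup ↥X).map X.subtype) =
      (T₁ : Subgroup ↥(X ⊓ MD)).map (X ⊓ MD).subtype := by
  obtain ⟨P₀, hP₀⟩ := h.parabolic hasym X hX.2.1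
  set A := (T₁ : Subgroup ↥(X ⊓ MD)).map (X ⊓ MD).subtype with hA
  have hAX : A ≤ X := (map_subtype_le _).trans inf_le_left
  obtain ⟨P, hP⟩ := ((T₁.2.map _).of_equiv (subgroupOfEquivOfLe hAX).symm : IsPGroup p (A.subgroupOf X)).exists_le_sylow
  refine ⟨P, ?_⟩
  have hle : A ≤ (P : Subgroup X).map X.subtype := fun x hx => ⟨⟨x, hAX hx⟩, hP (mem_subgroupOf.2 hx), rfl⟩
  refine (eq_of_le_of_card_ge hle ?_).symm
  set B := (P₀ : Subgroup X).map X.subtype with hB
  have hBX : B ≤ X ⊓ MD := fun x hx => by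
    obtain ⟨y, hy, rfl⟩ := hx
    exact mem_subgroupOf.1 (hP₀ hy)
  obtain ⟨T₂, hT₂⟩ := ((P₀.2.map _).of_equiv (subgroupOfEquivOfLe hBX).symm :
    IsPGroup p (B.subgroupOf (X ⊓ MD))).exists_le_sylow
  rw [card_map_of_injective X.subtype_injective, hA, card_map_of_injective (X ⊓ MD).subtype_injective,
    P.card_eq_multiplicity, ← P₀.card_eq_multiplicity, T₁.card_eq_multiplicity, ← T₂.card_eq_multiplicity]
  rw [← card_map_of_injective (K := (P₀ : Subgroup X)) X.subtype_injective, ← hB,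
    ← Nat.card_congr (subgroupOfEquivOfLe hBX).toEquiv]
  exact Nat.le_of_dvd Nat.card_pos (card_dvd_of_le hT₂)

/-- The extension of a member of `ℌ` by a conjugate of the large subgroup. -/
theorem Ctx.frakH_extend (h : Ctx T M) (hasym : ¬ Cfsg.IsSymmetricIn YM) {X : Subgroup H}
    (hX : Cfsg.IsInFrakH p M X) {U : Subgroup H} (hU : IsPGroup p U) (hXU : X ≤ normalizer (U : Set H)) :
    U ≤ Cfsg.pCoreOf p (X ⊔ U) ∧ Cfsg.pCoreOf p (X ⊔ U) ≤ normalizer (OM : Set H) ∧
      (X.subgroupOf (X ⊔ U)).Normal ∧ res p X = res p (X ⊔ U) ∧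
      Cfsg.IsPIrreducible p ↥(X ⊔ U) := by
  set J := X ⊔ U with hJ
  set Z := Cfsg.pCoreOf p J with hZ
  have hUZ : U ≤ Z := le_pCoreOf le_sup_right hU (sup_le hXU le_normalizer)
  have hZO : Z ≤ normalizer (OM : Set H) := h.pCoreOf_le_normalizer hasym (hX.2.1.trans le_sup_left)
  have hUX : U ≤ normalizer (X : Set H) := by
    have key : ∀ u ∈ U, ∀ x ∈ X, u * x * u⁻¹ ∈ X := by
      intro u hu x hx
      rw [← frakH_closure_core hX, normalClosure, MonoidHom.map_closure] at hx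
      induction hx using closure_induction with
      | mem x hx =>
        obtain ⟨y, hy, rfl⟩ := hx
        obtain ⟨a, ha, hax⟩ := Group.mem_conjugatesOfSet_iff.1 hy
        obtain ⟨m, rfl⟩ := isConj_iff.1 hax
        have hu' : (m : H)⁻¹ * u * m ∈ U := by
          simpa using (mem_normalizer_iff.1 (hXU (inv_mem m.2)) u).1 hu
        have ho : ((m : H)⁻¹ * u * m) * a * ((m : H)⁻¹ * u * m)⁻¹ ∈ OM :=
          (mem_normalizer_iff.1 (hZO (hUZ hu')) _).1 ha
        rw [show u * X.subtype (m * a * m⁻¹) * u⁻¹ =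
          (m : H) * (((m : H)⁻¹ * u * m) * a * ((m : H)⁻¹ * u * m)⁻¹) * (m : H)⁻¹ by simp [mul_assoc]]
        exact mul_mem (mul_mem m.2 (hX.2.1 ho)) (inv_mem m.2)
      | one => simp
      | mul v w _ _ h1 h2 => have := mul_mem h1 h2; simpa [mul_assoc] using this
      | inv v _ h1 => have := inv_mem h1; simpa [mul_assoc] using this
    exact fun u hu => mem_normalizer_iff.2 fun x =>
      ⟨key u hu x, fun hx => by simpa [mul_assoc] using key u⁻¹ (inv_mem hu) _ hx⟩
  have hJX : J ≤ normalizer (X : Set H) := sup_le le_normalizer hUX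
  have hXnJ : (X.subgroupOf J).Normal := normal_subgroupOf_of_le_normalizer hJX
  have hinX : ∀ x ∈ J, (orderOf x).Coprime p → x ∈ X := fun x hx hc => by
    obtain ⟨k, hk⟩ := exists_pow_mem_left hUX hU hx
    exact CharP.mem_of_pow_prime hc hk
  have hres : res p X = res p J := le_antisymm
    (res_le fun x hx hc => mem_res (mem_sup_left hx) hc) (res_le fun x hx hc => mem_res (hinX x hx hc) hc)
  have hYX : YM ≤ X := (largestPReducedOf_le_pCoreOf M).trans hX.2.1
  refine ⟨hUZ, hZO, hXnJ, hres, fun hcl => hX.2.2.1 fun y hy => ?_, ?_⟩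
  · have hyp : IsPGroup p YM := largestPReducedOf_isPGroup M
    obtain ⟨k, hk⟩ := exists_pow_eq_one_of_mem hyp hy
    have h1 := isPClosed_iff.1 hcl ⟨y, mem_sup_left (hYX hy)⟩ k (Subtype.ext (by simpa using hk))
    exact pCoreOf_inf_le (le_sup_left : X ≤ J) ⟨hYX hy, ⟨_, h1, rfl⟩⟩
  intro N hNn hNnc
  by_contra hnot
  refine hNnc ?_
  set Nm := N.map J.subtype with hNm
  have hJNm : J ≤ normalizer (Nm : Set H) := by
    have key : ∀ g ∈ J, ∀ v ∈ Nm, g * v * g⁻¹ ∈ Nm := by
      rintro g hg _ ⟨v, hv, rfl⟩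
      exact ⟨⟨g, hg⟩ * v * ⟨g, hg⟩⁻¹, hNn.conj_mem v hv _, rfl⟩
    exact fun g hg => mem_normalizer_iff.2 fun v =>
      ⟨key g hg v, fun hv => by simpa [mul_assoc] using key g⁻¹ (inv_mem hg) _ hv⟩
  set K := Nm ⊓ X with hK
  have hJK : J ≤ normalizer (K : Set H) := fun g hg => mem_normalizer_iff.2 fun v => by
    rw [hK, Subgroup.mem_inf, Subgroup.mem_inf]
    exact and_congr (mem_normalizer_iff.1 (hJNm hg) v) (mem_normalizer_iff.1 (hJX hg) v)
  have hOn : OM ≤ normalizer (K : Set H) := (hX.2.1.trans le_sup_left).trans hJK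
  have hKX : K ⊔ OM < X := by
    refine lt_of_le_of_ne (sup_le inf_le_right hX.2.1) fun he => hnot ?_
    rw [Cfsg.pResidual, closure_le]
    intro x hx
    have hc : (orderOf (x : H)).Coprime p := by rw [Subgroup.orderOf_coe]; exact hx
    obtain ⟨k, hk⟩ := exists_pow_mem_left hOn (isPGroup_pCoreOf M) (he.ge (hinX x x.2 hc))
    obtain ⟨y, hy, hye⟩ := (CharP.mem_of_pow_prime hc hk).1
    exact Subtype.ext hye ▸ hy
  have hY := hX.2.2.2 _ le_sup_right hKX
  have hKZ : K ⊓ Cfsg.pCoreOf p (K ⊔ OM) ≤ Z := (pCoreOf_inf_le le_sup_left).trans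
    (pCoreOf_le_of_normal (inf_le_right.trans le_sup_left) hJK)
  haveI := hNn
  haveI := Solvable.pCore_normal p (G := ↥J)
  set π := QuotientGroup.mk' (Cfsg.pCore p ↥J) with hπ
  have hπZ : ∀ a b : J, (a : H) * b * (a : H)⁻¹ * (b : H)⁻¹ ∈ Z → π a * π b = π b * π a := by
    intro a b hab
    rw [← commutatorElement_eq_one_iff_mul_comm, ← map_commutatorElement]
    refine (QuotientGroup.eq_one_iff _).2 ?_
    obtain ⟨w, hw, hwe⟩ := hab
    exact (show ⁅a, b⁆ = w from Subtype.ext (by rw [commutatorElement_def]; exact hwe.symm)) ▸ hw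
  -- a Sylow subgroup of `J` over `O_p(M)`
  have hOJ : OM ≤ J := hX.2.1.trans le_sup_left
  obtain ⟨T₂, hT₂⟩ := ((isPGroup_pCoreOf M).of_equiv (subgroupOfEquivOfLe hOJ).symm).exists_le_sylow
  have hT₂Y : ∀ s ∈ (T₂ : Subgroup J), (s : H) ∈ normalizer (YM : Set H) := fun s hs =>
    h.dagger_le_normalizer (h.normalizer_core_le (h.normalizer_pGroup_le hasym
      (L := (T₂ : Subgroup J).map J.subtype) (T₂.2.map _)
      (fun o ho => ⟨⟨o, hOJ ho⟩, hT₂ (mem_subgroupOf.2 ho), rfl⟩) (le_normalizer ⟨s, hs, rfl⟩)))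
  have hcomm : ∀ s ∈ (T₂ : Subgroup J) ⊓ N, ∀ r : J, (orderOf r).Coprime p → π s * π r = π r * π s := by
    rintro s ⟨hsT, hsN⟩ r hr
    have hkey : ∀ (k : J) (y : J), (y : H) ∈ YM → (k : H) ∈ K → π k * π y = π y * π k := by
      intro k y hy hk
      refine hπZ k y (hKZ ⟨?_, ?_⟩)
      · rw [show (k : H) * y * (k : H)⁻¹ * (y : H)⁻¹ = (k : H) * ((y : H) * (k : H)⁻¹ * (y : H)⁻¹) by
          simp [mul_assoc]]
        exact K.mul_mem hk ((mem_normalizer_iff.1 (hJK y.2) _).1 (K.inv_mem hk))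
      · exact Subgroup.mul_mem _ ((mem_normalizer_iff.1 (le_normalizer_pCoreOf _ (mem_sup_left hk)) _).1 (hY hy))
          (Subgroup.inv_mem _ (hY hy))
    have hsy : ∀ y : J, (y : H) ∈ YM → π s * π y = π y * π s := by
      intro y hy
      refine hπZ s y ?_
      have h1 : (s : H) * y * (s : H)⁻¹ * (y : H)⁻¹ ∈ YM :=
        mul_mem ((mem_normalizer_iff.1 (hT₂Y s hsT) _).1 hy) (inv_mem hy)
      refine hKZ ⟨⟨?_, hYX h1⟩, hY h1⟩
      have hsm : (s : H) ∈ Nm := ⟨s, hsN, rfl⟩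
      rw [show (s : H) * y * (s : H)⁻¹ * (y : H)⁻¹ = (s : H) * ((y : H) * (s : H)⁻¹ * (y : H)⁻¹) by
        simp [mul_assoc]]
      exact Nm.mul_mem hsm ((mem_normalizer_iff.1 (hJNm y.2) _).1 (Nm.inv_mem hsm))
    -- so `s` commutes with all conjugates of `Y` under `X`
    have hgen : ∀ x : J, (x : H) ∈ X → ∀ y : J, (y : H) ∈ YM → π s * π (x * y * x⁻¹) = π (x * y * x⁻¹) * π s := by
      intro x hx y hy
      set k : J := x⁻¹ * s * x * s⁻¹ with hk
      have hkK : (k : H) ∈ K := by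
        refine ⟨⟨k, N.mul_mem ?_ (N.inv_mem hsN), rfl⟩, ?_⟩
        · have := hNn.conj_mem s hsN x⁻¹
          rwa [inv_inv] at this
        · rw [hk]
          push_cast
          rw [show (x : H)⁻¹ * s * x * (s : H)⁻¹ = (x : H)⁻¹ * ((s : H) * x * (s : H)⁻¹) by simp [mul_assoc]]
          exact X.mul_mem (X.inv_mem hx) ((mem_normalizer_iff.1 (hJX s.2) _).1 hx)
      have hsx : π s * π x = π x * π k * π s := by
        rw [hk, map_mul, map_mul, map_mul, map_inv, map_inv]
        simp [mul_assoc]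
      simp only [map_mul, map_inv]
      calc π s * (π x * π y * (π x)⁻¹) = (π s * π x) * π y * (π x)⁻¹ := by simp [mul_assoc]
        _ = π x * (π k * (π s * π y)) * (π x)⁻¹ := by rw [hsx]; simp [mul_assoc]
        _ = π x * ((π k * π y) * π s) * (π x)⁻¹ := by rw [hsy y hy]; simp [mul_assoc]
        _ = π x * π y * (π k * π s * (π x)⁻¹) := by rw [hkey k y hy hkK]; simp [mul_assoc]
        _ = π x * π y * (π x)⁻¹ * π s := by
          have e : π k * π s * (π x)⁻¹ = (π x)⁻¹ * π s := by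
            rw [eq_inv_mul_iff_mul_eq, ← mul_assoc, ← mul_assoc, ← hsx, mul_inv_cancel_right]
          rw [e]; simp [mul_assoc]
    have hrR : (r : H) ∈ res p X := by
      rw [hres]; exact mem_res r.2 (by rwa [Subgroup.orderOf_coe])
    have hsub : res p X ≤ (centralizer ({π s} : Set (↥J ⧸ Cfsg.pCore p ↥J)) |>.comap π).map J.subtype := by
      refine le_trans (le_sup_left.trans (h.frakH_closure_y hX).le) ?_
      rw [normalClosure, MonoidHom.map_closure, closure_le]
      rintro _ ⟨v, hv, rfl⟩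
      obtain ⟨a, ha, hav⟩ := Group.mem_conjugatesOfSet_iff.1 hv
      obtain ⟨m, rfl⟩ := isConj_iff.1 hav
      exact ⟨inclusion le_sup_left (m * a * m⁻¹), mem_centralizer_singleton_iff.2
        (hgen (inclusion le_sup_left m) m.2 (inclusion le_sup_left a) ha).symm, rfl⟩
    obtain ⟨r', hr', he⟩ := hsub hrR
    obtain rfl : r' = r := Subtype.ext he
    exact (mem_centralizer_singleton_iff.1 hr').symm
  -- the Sylow subgroup of `N` is normal
  have hidx : ¬ p ∣ ((T₂ : Subgroup J) ⊓ N).relIndex N :=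
    not_dvd_relIndex_inf T₂ N le_normalizer_of_normal
  set SN : Sylow p N := (((T₂.2.to_le inf_le_left).of_equiv
    (subgroupOfEquivOfLe (inf_le_right : (T₂ : Subgroup J) ⊓ N ≤ N)).symm).toSylow hidx) with hSN
  refine isPClosed_of_sylow_le SN ?_
  set SW : Subgroup J := ((((T₂ : Subgroup J) ⊓ N).map π).comap π) with hSW
  have hSWp : IsPGroup p SW := by
    refine ((T₂.2.to_le inf_le_left).map π).comap_of_ker_isPGroup π ?_
    rw [QuotientGroup.ker_mk']; exact Solvable.isPGroup_pCore p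
  set W : Subgroup N := SW.subgroupOf N with hW
  haveI : W.Normal := by
    rw [← normalizer_eq_top_iff, eq_top_iff, ← pResidual_sup_sylow SN]
    refine sup_le ?_ ((le_normalizer (H := W)).trans' fun x hx => ?_)
    · rw [Cfsg.pResidual, closure_le]
      intro r hr
      refine mem_normalizer_iff.2 fun x => ?_
      have hr' : (orderOf (r : J)).Coprime p := by rw [Subgroup.orderOf_coe]; exact hr
      have key : ∀ r : J, (orderOf r).Coprime p → ∀ x : J, x ∈ SW → r * x * r⁻¹ ∈ SW := by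
        intro r hr x hx
        obtain ⟨s, hs, hse⟩ := hx
        refine ⟨s, hs, ?_⟩
        rw [map_mul, map_mul, map_inv, ← hse, ← hcomm s hs r hr, mul_inv_cancel_right]
      constructor
      · exact fun hx => key _ hr' _ hx
      · intro hx
        have := key (r : J)⁻¹ (by rwa [orderOf_inv]) _ hx
        simpa [hW, mem_subgroupOf, mul_assoc] using this
    · exact ⟨x, hx, rfl⟩
  exact fun x hx => Solvable.le_pCore p (inferInstance : W.Normal) hSWp.comap_subtype ⟨x, hx, rfl⟩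

end CfsgLib.FrakM
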