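import Cfsg.Agent.Solvable.Basics
import Cfsg.Prelude.Def_LocalEven

/-!
p-reduced normal subgroups.
-/

set_option autoImplicit false
set_option linter.style.haveILetI false

namespace CfsgLib.CharP

open Subgroup

variable {L : Type*} [Group L] {p : ℕ}

/-- In `p`-reduced form: normal subgroups that are `p`-groups modulo the centralizer centralize. -/
theorem IsPReducedNormal.le_centralizer {V : Subgroup L} (hV : Cfsg.IsPReducedNormal p V)
    (N : Subgroup L) (hN : N.Normal) (hp : ∀ x ∈ N, ∃ k : ℕ, x ^ p ^ k ∈ centralizer (V : Set L)) :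
    N ≤ centralizer (V : Set L) := by
  obtain ⟨hVn, -, hC, hbot⟩ := hV
  haveI := hN
  set π := QuotientGroup.mk' (centralizer (V : Set L))
  have h : N.map π ≤ Cfsg.pCore p _ := by
    refine Solvable.le_pCore p (Normal.map inferInstance π (QuotientGroup.mk'_surjective _)) ?_
    rintro ⟨_, x, hx, rfl⟩
    obtain ⟨k, hk⟩ := hp x hx
    exact ⟨k, Subtype.ext ((map_pow π x _).symm.trans ((QuotientGroup.eq_one_iff _).mpr hk))⟩
  rw [hbot, le_bot_iff] at h
  intro x hx
  exact (QuotientGroup.eq_one_iff _).mp (mem_bot.mp (h ▸ mem_map_of_mem π hx))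

theorem isPReducedNormal_of {V : Subgroup L} [Finite L] [Fact p.Prime] (hVn : V.Normal)
    (hVe : Cfsg.IsElementaryAbelian p V)
    (h : ∀ N : Subgroup L, N.Normal → (∀ x ∈ N, ∃ k : ℕ, x ^ p ^ k ∈ centralizer (V : Set L)) →
      N ≤ centralizer (V : Set L)) : Cfsg.IsPReducedNormal p V := by
  haveI := hVn
  haveI hC : (centralizer (V : Set L)).Normal := inferInstance
  refine ⟨hVn, hVe, hC, ?_⟩
  set π := QuotientGroup.mk' (centralizer (V : Set L))
  haveI := Solvable.pCore_normal p (G := L ⧸ centralizer (V : Set L))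
  have hle := h ((Cfsg.pCore p _).comap π) (Normal.comap inferInstance π) fun x hx => by
    obtain ⟨k, hk⟩ := Solvable.isPGroup_pCore p (⟨π x, hx⟩ : Cfsg.pCore p (L ⧸ centralizer (V : Set L)))
    exact ⟨k, (QuotientGroup.eq_one_iff _).mp
      ((map_pow π x _).trans (by simpa using congrArg Subtype.val hk))⟩
  rw [eq_bot_iff]
  intro y hy
  obtain ⟨x, rfl⟩ := QuotientGroup.mk'_surjective _ y
  exact mem_bot.mpr ((QuotientGroup.eq_one_iff x).mpr (hle hy))

theorem IsPReducedNormal.isPGroup {V : Subgroup L} (hV : Cfsg.IsPReducedNormal p V) :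
    IsPGroup p V :=
  fun v => ⟨1, Subtype.ext (by simpa using hV.2.1.2 v v.2)⟩

theorem pCore_le_centralizer [Finite L] [Fact p.Prime] {V : Subgroup L}
    (hV : Cfsg.IsPReducedNormal p V) : Cfsg.pCore p L ≤ centralizer (V : Set L) := by
  refine IsPReducedNormal.le_centralizer hV _ (Solvable.pCore_normal p) fun x hx => ?_
  obtain ⟨k, hk⟩ := Solvable.isPGroup_pCore p (⟨x, hx⟩ : Cfsg.pCore p L)
  exact ⟨k, by rw [show x ^ p ^ k = 1 by simpa using congrArg Subtype.val hk]; exact one_mem _⟩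

theorem isPReducedNormal_sup [Finite L] [Fact p.Prime] {V W : Subgroup L}
    (hV : Cfsg.IsPReducedNormal p V) (hW : Cfsg.IsPReducedNormal p W) :
    Cfsg.IsPReducedNormal p (V ⊔ W) := by
  haveI := hV.1
  haveI := hW.1
  have hVW : ∀ v ∈ V, ∀ w ∈ W, v * w = w * v := fun v hv w hw =>
    (mem_centralizer_iff.mp (pCore_le_centralizer hW
      (Solvable.le_pCore p hV.1 (IsPReducedNormal.isPGroup hV) hv)) w hw).symm
  have hmem : ∀ x ∈ V ⊔ W, ∃ v ∈ V, ∃ w ∈ W, v * w = x := fun x hx => mem_sup_of_normal_right.mp hx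
  refine isPReducedNormal_of inferInstance ⟨?_, ?_⟩ fun N hN hp => ?_
  · haveI := hV.2.1.1
    haveI := hW.2.1.1
    refine ⟨⟨fun ⟨x, hx⟩ ⟨y, hy⟩ => Subtype.ext ?_⟩⟩
    show x * y = y * x
    obtain ⟨v, hv, w, hw, rfl⟩ := hmem x hx
    obtain ⟨v', hv', w', hw', rfl⟩ := hmem y hy
    calc v * w * (v' * w') = v * (w * v') * w' := by simp only [mul_assoc]
      _ = v' * (v * w') * w := by
          rw [← hVW v' hv' w hw, ← mul_assoc v v', setLike_mul_comm hv hv', mul_assoc, mul_assoc,
            setLike_mul_comm hw hw']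
          simp only [mul_assoc]
      _ = v' * w' * (v * w) := by rw [hVW v hv w' hw']; simp only [mul_assoc]
  · intro x hx
    obtain ⟨v, hv, w, hw, rfl⟩ := hmem x hx
    rw [(show Commute v w from hVW v hv w hw).mul_pow, hV.2.1.2 v hv, hW.2.1.2 w hw, one_mul]
  · have e : centralizer ((V ⊔ W : Subgroup L) : Set L) =
        centralizer (V : Set L) ⊓ centralizer (W : Set L) := by
      refine le_antisymm (le_inf (centralizer_le (le_sup_left : V ≤ V ⊔ W))
        (centralizer_le (le_sup_right : W ≤ V ⊔ W))) fun c hc => mem_centralizer_iff.mpr fun x hx => ?_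
      obtain ⟨v, hv, w, hw, rfl⟩ := hmem x hx
      rw [mul_assoc, mem_centralizer_iff.mp hc.2 w hw, ← mul_assoc,
        mem_centralizer_iff.mp hc.1 v hv, mul_assoc]
    rw [e] at hp ⊢
    exact le_inf
      (IsPReducedNormal.le_centralizer hV N hN fun x hx => (hp x hx).imp fun k hk => hk.1)
      (IsPReducedNormal.le_centralizer hW N hN fun x hx => (hp x hx).imp fun k hk => hk.2)

/-- A greatest `p`-reduced normal subgroup exists. -/
theorem exists_greatest_pReduced [Finite L] [Fact p.Prime] :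
    ∃ Y : Subgroup L, Cfsg.IsPReducedNormal p Y ∧
      ∀ V : Subgroup L, Cfsg.IsPReducedNormal p V → V ≤ Y := by
  have hbot : Cfsg.IsPReducedNormal p (⊥ : Subgroup L) := by
    refine isPReducedNormal_of inferInstance ⟨inferInstance, fun x hx => ?_⟩ fun N _ _ x _ => ?_
    · rw [mem_bot.mp hx, one_pow]
    · exact mem_centralizer_iff.mpr fun y hy => by simp [mem_bot.mp (SetLike.mem_coe.mp hy)]
  obtain ⟨Y, hY⟩ := (Set.toFinite {V : Subgroup L | Cfsg.IsPReducedNormal p V}).exists_maximal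
    ⟨⊥, hbot⟩
  exact ⟨Y, hY.prop, fun V hV =>
    le_trans le_sup_right (hY.le_of_ge (isPReducedNormal_sup hY.prop hV) le_sup_left)⟩

end CfsgLib.CharP
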