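import Cfsg.Agent.CharP.MinimalPairs
import Cfsg.Agent.CharP.PReduced
import Cfsg.Agent.Suzuki.LieModel
import Cfsg.Prelude.Def_LocalStructure

/-!
Members of the family 𝔏(Y_M): elements that are not p-elements fix only the central part of Y_M.
-/

set_option autoImplicit false
set_option linter.style.haveILetI false

namespace CfsgLib.MinFpf

open Subgroup
open scoped commutatorElement

variable {G : Type*} [Group G] [Finite G] {p : ℕ} [Fact p.Prime]

theorem largestPReducedOf_props (M : Subgroup G) :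
    (∀ a ∈ Cfsg.largestPReducedOf p M, ∀ b ∈ Cfsg.largestPReducedOf p M, a * b = b * a) ∧
      IsPGroup p (Cfsg.largestPReducedOf p M) := by
  obtain ⟨Y0, hY0, hmax⟩ := CharP.exists_greatest_pReduced (L := M) (p := p)
  have hle : Cfsg.largestPReduced p M ≤ Y0 := sSup_le fun V hV => hmax V hV
  refine ⟨?_, ((CharP.IsPReducedNormal.isPGroup hY0).to_le hle).map _⟩
  rintro _ ⟨a, ha, rfl⟩ _ ⟨b, hb, rfl⟩
  haveI := hY0.2.1.1
  rw [← map_mul, ← map_mul, setLike_mul_comm (hle ha) (hle hb)]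

/-- The abstract situation inside a member of `𝔏`. -/
theorem setup_of_frakL {M L : Subgroup G} (hL : Cfsg.IsInFrakL p M L) :
    Setup p ((Cfsg.largestPReducedOf p M).subgroupOf L) (Cfsg.pCore p ↥L) := by
  obtain ⟨hYL, hgen, hnorm, hmin, hchar, ⟨hlt, hmax⟩, -⟩ := hL
  set Y := Cfsg.largestPReducedOf p M with hY
  obtain ⟨hcomm, hYp⟩ := largestPReducedOf_props (p := p) M
  have hN : ∀ x : L, x ∈ normalizer ((Y.subgroupOf L : Subgroup L) : Set L) ↔
      (x : G) ∈ normalizer (Y : Set G) := by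
    intro x
    rw [mem_normalizer_iff, mem_normalizer_iff]
    refine ⟨fun h z => ⟨fun hz => (h ⟨z, hYL hz⟩).mp hz, fun hz => ?_⟩, fun h z => h z⟩
    have hzL : z ∈ L := by
      have := mul_mem (mul_mem (inv_mem x.2) (hYL hz)) x.2
      simpa [mul_assoc] using this
    exact (h ⟨z, hzL⟩).mpr hz
  refine ⟨rfl, hchar, hYp.comap_subtype, fun a ha b hb => Subtype.ext (hcomm a ha b hb),
    fun a ha => (hN a).mpr (hnorm (mem_map_of_mem _ ha)), ?_, hmin.1, fun X hX hne x hx => ?_, ?_⟩
  · have h := map_injective L.subtype_injective hgen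
    rw [show (Y ⊓ Cfsg.pCoreOf p L).subgroupOf L = Y.subgroupOf L ⊓ Cfsg.pCore p ↥L by
      rw [subgroupOf, comap_inf, ← subgroupOf, Cfsg.pCoreOf,
        comap_map_eq_self_of_injective L.subtype_injective]] at h
    exact h.le
  · refine (hN x).mpr ((hmax (X.map L.subtype) ?_ ?_ (mem_map_of_mem _ hx)).2)
    · intro y hy
      exact ⟨⟨y, hYL hy⟩, hX hy, rfl⟩
    · refine lt_of_le_of_ne (map_subtype_le X) fun h => hne (eq_top_iff.mpr fun z _ => ?_)
      obtain ⟨w, hw, hwz⟩ := h.ge z.2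
      exact Subtype.ext hwz ▸ hw
  · intro h
    exact hlt.ne (inf_eq_left.mpr fun x hx => (hN ⟨x, hx⟩).mp (h ▸ mem_top _))

theorem frakL_fpf {M L : Subgroup G} (hL : Cfsg.IsInFrakL p M L) {t a : G} (htL : t ∈ L)
    (ht : ¬ ∃ k : ℕ, orderOf t = p ^ k) (ha : a ∈ Cfsg.pCoreOf p L)
    (hta : t * a * t⁻¹ * a⁻¹ ∈ Cfsg.largestPReducedOf p M ⊓ centralizer (L : Set G)) :
    a ∈ Cfsg.largestPReducedOf p M ⊓ centralizer (L : Set G) := by
  classical
  have h := setup_of_frakL hL
  obtain ⟨hYL, -, -, -, -, -, hiso⟩ := hL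
  set Y := Cfsg.largestPReducedOf p M with hY
  set Y' := Y.subgroupOf L with hY'
  set A := Cfsg.pCore p ↥L with hA
  haveI : A.Normal := h.normal
  obtain ⟨a, haA, rfl⟩ := ha
  have hcen : ∀ z : L, z ∈ cen Y' ↔ (z : G) ∈ Y ⊓ centralizer (L : Set G) := by
    intro z
    constructor
    · rintro ⟨h1, h2⟩
      exact ⟨h1, mem_centralizer_iff.mpr fun w hw =>
        congrArg Subtype.val (mem_center_iff.mp h2 ⟨w, hw⟩)⟩
    · rintro ⟨h1, h2⟩
      exact ⟨h1, mem_center_iff.mpr fun w => Subtype.ext (mem_centralizer_iff.mp h2 w w.2)⟩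
  refine (hcen a).mp ?_
  have hta' : ⁅(⟨t, htL⟩ : L), a⁆ ∈ cen Y' := (hcen _).mpr hta
  have ht' : ¬ ∃ k : ℕ, orderOf (⟨t, htL⟩ : L) = p ^ k := by
    simpa only [← Subgroup.orderOf_coe] using ht
  have hq : (Y ⊓ Cfsg.pCoreOf p L).relIndex Y = Nat.card (Y'.map (QuotientGroup.mk' A)) := by
    rw [← relIndex_ker, QuotientGroup.ker_mk', ← inf_relIndex_right A Y', inf_comm, hY',
      ← relIndex_map_map_of_injective _ _ L.subtype_injective, map_inf _ _ _ L.subtype_injective,
      subgroupOf_map_subtype, inf_eq_left.mpr hYL, Cfsg.pCoreOf]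
  have hne1 : Nat.card (Y'.map (QuotientGroup.mk' A)) ≠ 1 := by
    intro h1
    have hle : Y' ≤ A := by
      have hb := eq_bot_of_card_eq _ h1
      rw [Subgroup.map_eq_bot_iff, QuotientGroup.ker_mk'] at hb
      exact hb
    exact h.ne (top_le_iff.mp ((h.closure_eq.ge.trans (normalClosure_le_normal hle)).trans h.norm))
  have hYbp : IsPGroup p (Y'.map (QuotientGroup.mk' A)) := h.isPGroup.map _
  rw [hq] at hiso
  -- transport along a model of the quotient
  have hcard : ∀ {X : Type} [Group X] (e : L ⧸ A ≃* X),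
      Nat.card (Y'.map (e.toMonoidHom.comp (QuotientGroup.mk' A))) =
        Nat.card (Y'.map (QuotientGroup.mk' A)) := by
    intro X _ e
    rw [← map_map]
    exact card_map_of_injective e.injective
  have hker : ∀ {X : Type} [Group X] (e : L ⧸ A ≃* X),
      (e.toMonoidHom.comp (QuotientGroup.mk' A)).ker = A := by
    intro X _ e
    ext z
    simp
  obtain ⟨g, hg⟩ := h.exists_not_mem
  have htop : ∀ {X : Type} [Group X] (f : L →* X), Function.Surjective f →
      Y'.map f ⊔ (Y'.map f).map (MulAut.conj (f g)).toMonoidHom = ⊤ := by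
    intro X _ f hf
    have h1 := congrArg (Subgroup.map f) (h.sup_eq_top hg)
    rw [Subgroup.map_sup, map_top_of_surjective f hf, map_map] at h1
    rw [← h1, map_map]
    congr 2
    ext z
    simp
  have htwo : ∀ {X : Type} [Group X] [Finite X] (e : L ⧸ A ≃* X), p = 2 →
      Nat.card (Y'.map (QuotientGroup.mk' A)) = 2 → a ∈ cen Y' := by
    intro X _ _ e hp h2
    have hf : Function.Surjective (e.toMonoidHom.comp (QuotientGroup.mk' A)) :=
      e.surjective.comp (QuotientGroup.mk'_surjective A)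
    exact h.fpf _ hf (hker e) (fun x r hr hrp hx => Or.inl (pair_of_card_two _ ((hcard e).trans h2)
      (htop _ hf) hr (hp ▸ hrp) hx)) ht' haA hta'
  rcases hiso with ⟨F, iF, fF, hcF, ⟨e⟩⟩ | ⟨hp, F, iF, fF, m, hm, hcF, ⟨e⟩⟩ |
    ⟨hp, r, hr, hr2, ⟨e⟩⟩
  · refine h.fpf (e.toMonoidHom.comp (QuotientGroup.mk' A))
      (e.surjective.comp (QuotientGroup.mk'_surjective A)) (hker e) (fun x r hr hrp hx => ?_)
      ht' haA hta'
    exact pair_sl2 _ (h.isPGroup.map _) ((hcard e).trans hcF.symm) hr hx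
  · rcases Nat.eq_zero_or_pos m with hm0 | hm1
    · haveI : Finite (GL (Fin 4) F) := inferInstance
      exact htwo e hp (by rw [← hcF, hm, hm0]; norm_num)
    · have hz := CfsgLib.Suzuki.isSzField_of_card hm1 hm
      haveI := CfsgLib.Suzuki.finite_G hz
      set e' := e.trans (CfsgLib.Suzuki.lieEquiv hz).symm
      have hf : Function.Surjective (e'.toMonoidHom.comp (QuotientGroup.mk' A)) :=
        e'.surjective.comp (QuotientGroup.mk'_surjective A)
      refine h.fpf _ hf (hker e') (fun x r hr hrp hx => Or.inl ?_) ht' haA hta'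
      refine pair_suzuki hz _ ?_ ?_ hr (hp ▸ hrp) hx
      · rintro _ ⟨y, hy, rfl⟩
        have hy2 : (y : G) * y = 1 := by
          obtain ⟨Y0, hY0, hmax⟩ := CharP.exists_greatest_pReduced (L := M) (p := p)
          obtain ⟨y0, hy0, hy0y⟩ := (hy : (y : G) ∈ Y)
          have := hY0.2.1.2 y0 ((sSup_le fun V hV => hmax V hV : Cfsg.largestPReduced p M ≤ Y0) hy0)
          rw [hp, pow_two] at this
          have ey : (y0 : G) = (y : G) := hy0y
          rw [← ey]
          simpa using congrArg Subtype.val this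
        rw [← map_mul, show y * y = 1 from Subtype.ext hy2, map_one]
      · rw [hcard e', ← hcF, Nat.card_eq_fintype_card]
  · haveI : NeZero r := ⟨hr.ne_zero⟩
    refine htwo e hp ?_
    have hd : Nat.card (Y'.map (QuotientGroup.mk' A)) ∣ 2 * r := by
      rw [← hcard e, ← DihedralGroup.nat_card]
      exact card_subgroup_dvd_card _
    obtain ⟨k, hk⟩ := IsPGroup.iff_card.mp hYbp
    subst hp
    rw [hk] at hd hne1 ⊢
    match k, hne1 with
    | 0, h1 => exact absurd rfl h1
    | 1, _ => rfl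
    | k + 2, _ =>
      exfalso
      have h4 : 2 * 2 ∣ 2 * r := Nat.dvd_trans ⟨2 ^ k, by ring⟩ hd
      exact hr2 ((Nat.prime_dvd_prime_iff_eq Nat.prime_two hr).mp
        (Nat.dvd_of_mul_dvd_mul_left two_pos h4)).symm

end CfsgLib.MinFpf
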