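import Cfsg.Agent.CharP.FrakLFpf
import Cfsg.Agent.Suzuki.Fixity
import Cfsg.Agent.KGroup.CharP

/-!
Elementary abelian normal subgroups of `N_L(Y_M)/O_p(L)` for `L` in the family `𝔏(Y_M)`.
-/

set_option autoImplicit false
set_option linter.style.haveILetI false

namespace CfsgLib.FrakLUnique

open Subgroup

universe u

/-- `Yb` is the only nontrivial elementary abelian `p`-subgroup normal in `N(Yb)`. -/
def IsOnly {X : Type*} [Group X] (p : ℕ) (Yb : Subgroup X) : Prop :=
  ∀ W : Subgroup X, W ≤ normalizer (Yb : Set X) → normalizer (Yb : Set X) ≤ normalizer (W : Set X) →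
    (∀ w ∈ W, w ^ p = 1) → (∀ v ∈ W, ∀ w ∈ W, v * w = w * v) → W ≠ ⊥ → W = Yb

theorem isOnly_card_two {X : Type*} [Group X] [Finite X] (Yb : Subgroup X) (hY : Nat.card Yb = 2)
    {g : X} (hg : Yb ⊔ Yb.map (MulAut.conj g).toMonoidHom = ⊤) (hcore : Cfsg.pCore 2 X = ⊥) :
    IsOnly 2 Yb := by
  haveI : Fact (Nat.Prime 2) := ⟨Nat.prime_two⟩
  intro W hWN _ hW2 _ hW1
  obtain ⟨i, hi⟩ := exists_prime_orderOf_dvd_card' 2 (hY ▸ dvd_rfl : 2 ∣ Nat.card Yb)
  have hio : orderOf (i : X) = 2 := by rw [Subgroup.orderOf_coe, hi]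
  have hii : (i : X) * i = 1 := Invol.mul_self_eq_one hio
  have hYb : Yb = zpowers (i : X) :=
    (eq_of_le_of_card_ge (zpowers_le.mpr i.2) (by rw [hY, Nat.card_zpowers, hio])).symm
  have hcomm : ∀ w ∈ normalizer (Yb : Set X), w * i = i * w := by
    intro w hw
    obtain ⟨k, hk⟩ := mem_zpowers_iff.1 (hYb.le ((mem_normalizer_iff.1 hw _).1 i.2))
    rcases Int.even_or_odd k with ⟨l, hl⟩ | ⟨l, hl⟩
    · rw [hl, ← two_mul, zpow_mul, zpow_two, hii, one_zpow] at hk
      have h1 := hk.symm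
      rw [mul_inv_eq_one, mul_eq_left] at h1
      rw [h1, orderOf_one] at hio
      omega
    · rw [hl, zpow_add, zpow_mul, zpow_two, hii, one_zpow, one_mul, zpow_one] at hk
      exact (mul_inv_eq_iff_eq_mul.1 hk.symm)
  set j := g * (i : X) * g⁻¹ with hj
  have hjo : orderOf j = 2 := by rw [hj, Invol.orderOf_conj_eq, hio]
  have htop : (⊤ : Subgroup X) ≤ closure ({(i : X), j} : Set X) := by
    rw [← hg]
    conv_lhs => rw [hYb]
    refine sup_le (zpowers_le.mpr (subset_closure (Set.mem_insert _ _))) ?_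
    rw [MonoidHom.map_zpowers]
    exact zpowers_le.mpr (subset_closure (Set.mem_insert_of_mem _ rfl))
  set k := (i : X) * j with hk
  have hinv : (i : X) * k * (i : X)⁻¹ = k⁻¹ := Invol.conj_mul_inv hio hjo
  have key : ∀ n : ℤ, (k ^ n) * i = i * k ^ n → k ^ n = 1 := by
    intro n hn
    set u := k ^ n with hu
    have h1 : u⁻¹ = u := by
      rw [hu, ← zpow_neg, ← Invol.conj_zpow_of_inverts hinv n, ← hu, ← hn, mul_inv_cancel_right]
    have huj : u * j = j * u := by
      have hkj : k * u = u * k := ((Commute.refl k).zpow_right n).eq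
      have hj' : j = (i : X) * k := by rw [hk, ← mul_assoc, hii, one_mul]
      rw [hj']
      calc u * ((i : X) * k) = u * i * k := (mul_assoc _ _ _).symm
        _ = i * u * k := by rw [hn]
        _ = i * (u * k) := mul_assoc _ _ _
        _ = i * (k * u) := by rw [hkj]
        _ = i * k * u := (mul_assoc _ _ _).symm
    have hcl : closure ({(i : X), j} : Set X) ≤ centralizer ({u} : Set X) := by
      refine (closure_le _).2 ?_
      rintro z (rfl | rfl) <;> rw [SetLike.mem_coe, mem_centralizer_singleton_iff]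
      · exact hn.symm
      · exact huj.symm
    haveI : (zpowers u).Normal := ⟨fun z hz z' => by
      obtain ⟨l, rfl⟩ := mem_zpowers_iff.1 hz
      have hc : Commute z' u := mem_centralizer_singleton_iff.1 (hcl (htop (mem_top z')))
      rw [(hc.zpow_right l).eq, mul_inv_cancel_right]
      exact zpow_mem (mem_zpowers u) l⟩
    have hp : IsPGroup 2 (zpowers u) := fun z => ⟨1, Subtype.ext (by
      obtain ⟨l, hl⟩ := mem_zpowers_iff.1 z.2
      rw [SubmonoidClass.coe_pow, ← hl, pow_one, pow_two, ← (Commute.refl u).mul_zpow,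
        Subgroup.coe_one, show u * u = 1 by nth_rewrite 1 [← h1]; exact inv_mul_cancel u, one_zpow])⟩
    have h2 := Solvable.le_pCore 2 (inferInstance : (zpowers u).Normal) hp (mem_zpowers u)
    rwa [hcore, mem_bot] at h2
  have hWY : W ≤ Yb := by
    intro w hw
    have hwi := hcomm w (hWN hw)
    rcases (Invol.mem_closure_pair_iff hio hjo).1 (htop (mem_top w)) with ⟨n, hn⟩ | ⟨n, hn⟩
    · rw [hn, key n (hn ▸ hwi)]
      exact Yb.one_mem
    · have h1 : k ^ n * i = i * k ^ n := by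
        have : (i : X) * (k ^ n * i) = i * (i * k ^ n) := by rw [← mul_assoc, ← hn, hwi, hn]
        exact mul_left_cancel this
      rw [hn, key n h1, mul_one]
      exact i.2
  have h2 : Nat.card W ≠ 1 := fun h => hW1 (eq_bot_of_card_eq _ h)
  refine eq_of_le_of_card_ge hWY ?_
  have := (Nat.dvd_prime Nat.prime_two).1 (hY ▸ card_dvd_of_le hWY)
  omega

/-- A `p`-subgroup normalizing a Sylow subgroup lies in it. -/
theorem le_of_sylow {X : Type*} [Group X] [Finite X] {p : ℕ} [Fact p.Prime] {P W : Subgroup X}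
    (hP : IsPGroup p P) (hidx : ¬ p ∣ P.index) (hW : IsPGroup p W)
    (h : W ≤ normalizer (P : Set X)) : W ≤ P := by
  have hsup : IsPGroup p (W ⊔ P : Subgroup X) := hW.to_sup_of_normal_right' hP h
  have := (hP.toSylow hidx).3 hsup le_sup_right
  exact le_sup_left.trans this.le

section SL2

open CfsgLib.ZJ CfsgLib.MinFpf

variable {F : Type*} [Field F]

theorem isOnly_sl2 [Fintype F] {p : ℕ} [Fact p.Prime] (Yb : Subgroup (SL2 F)) (hYp : IsPGroup p Yb)
    (hcard : Nat.card Yb = Fintype.card F) : IsOnly p Yb := by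
  classical
  obtain ⟨hchar, c, hc⟩ := exists_conj_upper Yb hYp hcard
  haveI := hchar
  set φ : F → Yb := fun a => ⟨c⁻¹ * upper a * c, hc a⟩
  have hφ : Function.Bijective φ := by
    refine (Nat.bijective_iff_injective_and_card φ).2 ⟨fun a b h => ?_, ?_⟩
    · have h1 := congrArg Subtype.val h
      simp only [φ, mul_left_inj, mul_right_inj] at h1
      simpa using congrArg (fun z : SL2 F => z 0 1) h1
    · rw [hcard, Nat.card_eq_fintype_card]
  obtain ⟨n, hn⟩ := IsPGroup.iff_card.mp hYp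
  rw [hcard] at hn
  have hn0 : n ≠ 0 := fun h => by
    rw [h, pow_zero] at hn
    exact absurd hn Fintype.one_lt_card.ne'
  have hpq : p ∣ Fintype.card F := hn ▸ dvd_pow_self p hn0
  have hidx : ¬ p ∣ Yb.index := by
    intro hd
    have h1 := card_mul_index Yb
    rw [hcard, SL2C.card_SL2_mul] at h1
    rw [Nat.eq_of_mul_eq_mul_left Fintype.card_pos h1] at hd
    have h3 := Nat.dvd_sub (dvd_pow hpq two_ne_zero) hd
    rw [Nat.sub_sub_self (Nat.one_le_pow _ _ Fintype.card_pos)] at h3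
    exact (Fact.out : p.Prime).not_dvd_one h3
  intro W hWN hNW hWp _ hW1
  have hWY : W ≤ Yb := le_of_sylow hYp hidx
    (fun w => ⟨1, Subtype.ext (by simpa using hWp w w.2)⟩) hWN
  let d : Fˣ → SL2 F := fun a =>
    ⟨!![(a : F), 0; 0, ((a⁻¹ : Fˣ) : F)], by simp [Matrix.det_fin_two]⟩
  have hd : ∀ (a : Fˣ) (t : F), d a * upper t * (d a)⁻¹ = upper ((a : F) * a * t) := fun a t => by
    rw [mul_inv_eq_iff_eq_mul]
    apply sl2_ext <;> rw [sl2_mul, sl2_mul] <;> simp [d]
    field_simp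
  have hT : ∀ (a : Fˣ) (t : F), c⁻¹ * d a * c * (c⁻¹ * upper t * c) * (c⁻¹ * d a * c)⁻¹ =
      c⁻¹ * upper ((a : F) * a * t) * c := fun a t => by rw [← hd]; group
  have hdN : ∀ a : Fˣ, c⁻¹ * d a * c ∈ normalizer (Yb : Set (SL2 F)) := fun a =>
    mem_normalizer_fintype fun y hy => by
      obtain ⟨t, ht⟩ := hφ.2 ⟨y, hy⟩
      rw [show y = c⁻¹ * upper t * c from (congrArg Subtype.val ht).symm, hT]
      exact hc _
  have hadd : ∀ s t : F, c⁻¹ * upper s * c ∈ W → c⁻¹ * upper t * c ∈ W →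
      c⁻¹ * upper (s + t) * c ∈ W := fun s t hs ht => by
    have h := W.mul_mem hs ht
    rwa [show c⁻¹ * upper s * c * (c⁻¹ * upper t * c) = c⁻¹ * upper (s + t) * c by
      rw [← upper_mul]; group] at h
  have hneg : ∀ s : F, c⁻¹ * upper s * c ∈ W → c⁻¹ * upper (-s) * c ∈ W := fun s hs => by
    have h := W.inv_mem hs
    rwa [show (c⁻¹ * upper s * c)⁻¹ = c⁻¹ * upper (-s) * c by rw [← upper_inv]; group] at h
  have hone : c⁻¹ * upper (0 : F) * c ∈ W := by
    rw [upper_zero, mul_one, inv_mul_cancel]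
    exact W.one_mem
  have hsq : ∀ a t : F, c⁻¹ * upper t * c ∈ W → c⁻¹ * upper (a * a * t) * c ∈ W := fun a t ht => by
    by_cases ha : a = 0
    · simpa [ha] using hone
    · have h := (mem_normalizer_iff.1 (hNW (hdN (Units.mk0 a ha))) _).1 ht
      rwa [hT] at h
  obtain ⟨⟨w, hw⟩, hw1⟩ := Subgroup.ne_bot_iff_exists_ne_one.1 hW1
  obtain ⟨t₀, ht₀⟩ := hφ.2 ⟨w, hWY hw⟩
  have ht₀' : c⁻¹ * upper t₀ * c = w := congrArg Subtype.val ht₀
  have ht0 : t₀ ≠ 0 := fun h => hw1 (Subtype.ext (by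
    show w = 1
    rw [← ht₀', h, upper_zero, mul_one, inv_mul_cancel]))
  have hall : ∀ t : F, c⁻¹ * upper t * c ∈ W := by
    intro t
    have hmem : c⁻¹ * upper t₀ * c ∈ W := ht₀' ▸ hw
    by_cases h2 : ringChar F = 2
    · obtain ⟨s, hs⟩ := FiniteField.isSquare_of_char_two h2 (t / t₀)
      have h := hsq s t₀ hmem
      rwa [← hs, div_mul_cancel₀ t ht0] at h
    · have h2' : (2 : F) ≠ 0 := Ring.two_ne_zero h2
      set z := t / t₀
      have h := hadd _ _ (hsq ((z + 1) / 2) t₀ hmem) (hneg _ (hsq ((z - 1) / 2) t₀ hmem))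
      rwa [show (z + 1) / 2 * ((z + 1) / 2) * t₀ + -((z - 1) / 2 * ((z - 1) / 2) * t₀) = z * t₀ by
        field_simp; ring, div_mul_cancel₀ t ht0] at h
  refine le_antisymm hWY fun y hy => ?_
  obtain ⟨t, ht⟩ := hφ.2 ⟨y, hy⟩
  rw [show y = c⁻¹ * upper t * c from (congrArg Subtype.val ht).symm]
  exact hall t

end SL2

section Suzuki

open CfsgLib.Suzuki

variable {F : Type*} [Field F] {m : ℕ}

theorem isOnly_suzuki (h : IsSzField F m) (Yb : Subgroup (SzG F m))
    (hexp : ∀ y ∈ Yb, y * y = 1) (hcard : Nat.card Yb = Nat.card F) : IsOnly 2 Yb := by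
  haveI := finite_G h
  haveI := h.finite
  haveI : Fact (Nat.Prime 2) := ⟨Nat.prime_two⟩
  intro W hWN hNW hWp _ hW1
  have hYp : IsPGroup 2 Yb := fun y => ⟨1, Subtype.ext (by simpa [pow_two] using hexp y y.2)⟩
  have hW2 : IsPGroup 2 W := fun w => ⟨1, Subtype.ext (by simpa using hWp w w.2)⟩
  obtain ⟨c, hc⟩ := exists_conj_le_unip h (hW2.to_sup_of_normal_right' hYp hWN)
  have hinv0 : ∀ u ∈ unip h, u * u = 1 → ∃ b, u = uE h 0 b := by
    intro u hu hu2
    obtain ⟨a, b, rfl⟩ := exists_uE h hu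
    rw [uE_sq, uE_eq_one] at hu2
    rcases mul_eq_zero.mp hu2.2 with h1 | h1
    · rw [sg_eq_zero] at h1
      exact ⟨b, by rw [h1]⟩
    · exact ⟨b, by rw [h1]⟩
  have hcoord : ∀ v ∈ W ⊔ Yb, v * v = 1 → ∃ b, v = c⁻¹ * uE h 0 b * c := fun v hv hv2 => by
    obtain ⟨b, hb⟩ := hinv0 _ (hc v hv) (by
      calc c * v * c⁻¹ * (c * v * c⁻¹) = c * (v * v) * c⁻¹ := by group
        _ = 1 := by rw [hv2, mul_one, mul_inv_cancel])
    exact ⟨b, by rw [← hb]; group⟩
  choose f hf using fun y : Yb => hcoord y (mem_sup_right y.2) (hexp y y.2)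
  have hinj : Function.Injective f := fun y z e => Subtype.ext (by rw [hf y, hf z, e])
  have hbij := (Nat.bijective_iff_injective_and_card f).mpr ⟨hinj, hcard⟩
  have hmem : ∀ b : F, c⁻¹ * uE h 0 b * c ∈ Yb := fun b => by
    obtain ⟨y, rfl⟩ := hbij.2 b
    exact hf y ▸ y.2
  have hconj : ∀ (t : Fˣ) (b : F), c⁻¹ * dE h t * c * (c⁻¹ * uE h 0 b * c) * (c⁻¹ * dE h t * c)⁻¹ =
      c⁻¹ * uE h 0 (lam m t * b) * c := fun t b => by
    have h1 := dE_conj_center h t 0 0 b
    rw [uE_zero, one_mul] at h1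
    rw [← h1]; group
  have hdN : ∀ t : Fˣ, c⁻¹ * dE h t * c ∈ normalizer (Yb : Set (SzG F m)) := fun t =>
    mem_normalizer_fintype fun y hy => by
      rw [show y = c⁻¹ * uE h 0 (f ⟨y, hy⟩) * c from hf ⟨y, hy⟩, hconj]
      exact hmem _
  obtain ⟨⟨w, hw⟩, hw1⟩ := Subgroup.ne_bot_iff_exists_ne_one.1 hW1
  have hsq : ∀ v ∈ W, v * v = 1 := fun v hv => by rw [← pow_two]; exact hWp v hv
  obtain ⟨b₀, hb₀⟩ := hcoord w (mem_sup_left hw) (hsq w hw)
  have hb0 : b₀ ≠ 0 := fun e => hw1 (Subtype.ext (by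
    show w = 1
    rw [hb₀, e, uE_zero, mul_one, inv_mul_cancel]))
  refine le_antisymm (fun v hv => ?_) fun y hy => ?_
  · obtain ⟨b, rfl⟩ := hcoord v (mem_sup_left hv) (hsq v hv)
    exact hmem b
  · rw [show y = c⁻¹ * uE h 0 (f ⟨y, hy⟩) * c from hf ⟨y, hy⟩]
    by_cases hb : f ⟨y, hy⟩ = 0
    · rw [hb, uE_zero, mul_one, inv_mul_cancel]
      exact W.one_mem
    · obtain ⟨t, ht⟩ := exists_lam_eq h (div_ne_zero hb hb0)
      have h1 := (mem_normalizer_iff.1 (hNW (hdN t)) _).1 hw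
      rwa [hb₀, hconj, ht, div_mul_cancel₀ _ hb0] at h1

end Suzuki

/-! ### The family `𝔏` -/

variable {G : Type u} [Group G] [Finite G] {p : ℕ} [Fact p.Prime]

theorem pCore_quotient_pCore_eq_bot (L : Type*) [Group L] [Finite L] [(Cfsg.pCore p L).Normal] :
    Cfsg.pCore p (L ⧸ Cfsg.pCore p L) = ⊥ := by
  set π := QuotientGroup.mk' (Cfsg.pCore p L)
  have h1 : (Cfsg.pCore p (L ⧸ Cfsg.pCore p L)).comap π ≤ Cfsg.pCore p L := by
    refine Solvable.le_pCore p ((Solvable.pCore_normal p).comap π) ?_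
    refine (Solvable.isPGroup_pCore p).comap_of_ker_isPGroup π ?_
    rw [QuotientGroup.ker_mk']
    exact Solvable.isPGroup_pCore p
  rw [← map_comap_eq_self_of_surjective (QuotientGroup.mk'_surjective _)
    (Cfsg.pCore p (L ⧸ Cfsg.pCore p L)), Subgroup.map_eq_bot_iff, QuotientGroup.ker_mk']
  exact h1

theorem elemAb_unique {M L : Subgroup G} (hL : Cfsg.IsInFrakL p M L) (NL : Subgroup G)
    (hNL : NL = L ⊓ normalizer ((Cfsg.largestPReducedOf p M : Subgroup G) : Set G))
    [hn : ((Cfsg.pCoreOf p L).subgroupOf NL).Normal] :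
    let Ybar : Subgroup (↥NL ⧸ (Cfsg.pCoreOf p L).subgroupOf NL) :=
      ((Cfsg.largestPReducedOf p M).subgroupOf NL).map
        (QuotientGroup.mk' ((Cfsg.pCoreOf p L).subgroupOf NL))
    Ybar ≠ ⊥ ∧ Ybar.Normal ∧ Cfsg.IsElementaryAbelian p Ybar ∧
      ∀ V : Subgroup (↥NL ⧸ (Cfsg.pCoreOf p L).subgroupOf NL), V.Normal →
        Cfsg.IsElementaryAbelian p V → V ≠ ⊥ → V = Ybar := by
  intro Ybar
  have h := MinFpf.setup_of_frakL hL
  obtain ⟨hYL, -, -, -, -, -, hiso⟩ := hL
  set Y := Cfsg.largestPReducedOf p M with hY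
  set Y' := Y.subgroupOf L with hY'
  set A := Cfsg.pCore p ↥L with hA
  haveI : A.Normal := h.normal
  have hNLL : NL ≤ L := hNL ▸ inf_le_left
  have hN : ∀ x : L, x ∈ normalizer ((Y' : Subgroup L) : Set L) ↔ (x : G) ∈ normalizer (Y : Set G) := by
    intro x
    rw [mem_normalizer_iff, mem_normalizer_iff]
    refine ⟨fun h z => ⟨fun hz => (h ⟨z, hYL hz⟩).mp hz, fun hz => ?_⟩, fun h z => h z⟩
    have hzL : z ∈ L := by
      have := mul_mem (mul_mem (inv_mem x.2) (hYL hz)) x.2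
      simpa [mul_assoc] using this
    exact (h ⟨z, hzL⟩).mpr hz
  -- exponent of `Y`
  have hexp : ∀ y ∈ Y, y ^ p = 1 := by
    obtain ⟨Y0, hY0, hmax⟩ := CharP.exists_greatest_pReduced (L := M) (p := p)
    rintro _ ⟨y0, hy0, rfl⟩
    have h1 := hY0.2.1.2 y0 ((sSup_le fun V hV => hmax V hV : Cfsg.largestPReduced p M ≤ Y0) hy0)
    rw [← map_pow, h1, map_one]
  set q := QuotientGroup.mk' A
  have hne1 : Nat.card (Y'.map q) ≠ 1 := by
    intro h1
    have hb := eq_bot_of_card_eq _ h1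
    rw [Subgroup.map_eq_bot_iff, QuotientGroup.ker_mk'] at hb
    exact h.ne (top_le_iff.mp ((h.closure_eq.ge.trans (normalClosure_le_normal hb)).trans h.norm))
  -- any model in which the image of `Y` is the only one
  have main : ∀ (X : Type) [Group X] [Finite X] (e : L ⧸ A ≃* X),
      IsOnly p (Y'.map (e.toMonoidHom.comp q)) →
      Ybar ≠ ⊥ ∧ Ybar.Normal ∧ Cfsg.IsElementaryAbelian p Ybar ∧
      ∀ V : Subgroup (↥NL ⧸ (Cfsg.pCoreOf p L).subgroupOf NL), V.Normal →
        Cfsg.IsElementaryAbelian p V → V ≠ ⊥ → V = Ybar := by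
    intro X _ _ e honly
    set f := e.toMonoidHom.comp q with hf
    have hker : ∀ z : L, f z = 1 ↔ z ∈ A := fun z => by
      rw [hf, MonoidHom.comp_apply, MulEquiv.coe_toMonoidHom, e.map_eq_one_iff]
      exact QuotientGroup.eq_one_iff z
    have hfs : Function.Surjective f := e.surjective.comp (QuotientGroup.mk'_surjective A)
    set Yb := Y'.map f
    set g := f.comp (Subgroup.inclusion hNLL) with hg
    have hgker : g.ker = (Cfsg.pCoreOf p L).subgroupOf NL := by
      ext z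
      rw [MonoidHom.mem_ker, hg, MonoidHom.comp_apply, hker, mem_subgroupOf]
      exact ⟨fun hz => ⟨_, hz, rfl⟩, fun ⟨w, hw, hwz⟩ => by
        have : w = Subgroup.inclusion hNLL z := Subtype.ext hwz
        exact this ▸ hw⟩
    set gb := QuotientGroup.lift ((Cfsg.pCoreOf p L).subgroupOf NL) g hgker.ge
    have hinj : Function.Injective gb := by
      rw [← MonoidHom.ker_eq_bot_iff, QuotientGroup.ker_lift, hgker, QuotientGroup.map_mk'_self]
    have hYN : ∀ y ∈ Y, y ∈ NL := fun y hy => hNL ▸ ⟨hYL hy, le_normalizer hy⟩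
    have himage : Ybar.map gb = Yb := by
      rw [Subgroup.map_map]
      ext z
      constructor
      · rintro ⟨y, hy, rfl⟩
        exact ⟨Subgroup.inclusion hNLL y, hy, rfl⟩
      · rintro ⟨y, hy, rfl⟩
        exact ⟨⟨y, hYN y hy⟩, hy, rfl⟩
    have hrange : gb.range = normalizer (Yb : Set X) := by
      refine le_antisymm ?_ fun z hz => ?_
      · rintro _ ⟨w, rfl⟩
        obtain ⟨⟨v, hv⟩, rfl⟩ := QuotientGroup.mk'_surjective _ w
        exact le_normalizer_map f
          ⟨⟨v, hNLL hv⟩, (hN _).2 (hNL ▸ hv : v ∈ L ⊓ normalizer (Y : Set G)).2, rfl⟩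
      · obtain ⟨v, rfl⟩ := hfs z
        set P := (normalizer (Yb : Set X)).comap f
        have hP : P ≠ ⊤ := by
          intro htop
          have hn' : Yb.Normal := normalizer_eq_top_iff.mp (by
            rw [eq_top_iff]
            intro x _
            obtain ⟨x, rfl⟩ := hfs x
            exact (eq_top_iff.mp htop) (mem_top x))
          have hle : Yb.comap f ≤ A := Solvable.le_pCore p (hn'.comap f)
            ((h.isPGroup.map f).comap_of_ker_isPGroup f (h.pA.to_le fun z hz => (hker z).1 hz))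
          exact h.ne (top_le_iff.mp ((h.closure_eq.ge.trans
            (normalClosure_le_normal ((le_comap_map f Y').trans hle))).trans h.norm))
        have hv : v ∈ normalizer ((Y' : Subgroup L) : Set L) :=
          h.max P (fun y hy => le_normalizer (mem_map_of_mem f hy)) hP hz
        exact ⟨QuotientGroup.mk' _ ⟨v, hNL ▸ ⟨v.2, (hN v).1 hv⟩⟩, rfl⟩
    refine ⟨fun hb => ?_, ?_, ⟨?_, ?_⟩, fun V hV hVe hV1 => ?_⟩
    · refine hne1 ?_
      rw [hb, Subgroup.map_bot] at himage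
      rw [card_eq_one, Subgroup.map_eq_bot_iff, QuotientGroup.ker_mk']
      exact fun y hy => (hker y).1 (mem_bot.1 (himage.ge (mem_map_of_mem f hy)))
    · refine Subgroup.Normal.map ?_ _ (QuotientGroup.mk'_surjective _)
      exact normal_subgroupOf_of_le_normalizer (hNL ▸ inf_le_right)
    · refine ⟨⟨?_⟩⟩
      rintro ⟨_, a, ha, rfl⟩ ⟨_, b, hb, rfl⟩
      refine Subtype.ext ?_
      show (QuotientGroup.mk' _ a) * (QuotientGroup.mk' _ b) = _
      rw [← map_mul, show a * b = b * a from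
        Subtype.ext ((MinFpf.largestPReducedOf_props M).1 _ ha _ hb), map_mul]
      rfl
    · rintro _ ⟨a, ha, rfl⟩
      rw [← map_pow, show a ^ p = 1 from Subtype.ext (hexp _ ha), map_one]
    refine map_injective hinj ?_
    rw [himage]
    refine honly _ (hrange ▸ map_le_range _ _) ?_ ?_ ?_
      fun hb => hV1 ((Subgroup.map_eq_bot_iff_of_injective _ hinj).1 hb)
    · rw [← hrange, MonoidHom.range_eq_map, ← normalizer_eq_top (H := V)]
      exact le_normalizer_map gb
    · rintro _ ⟨v, hv, rfl⟩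
      rw [← map_pow, hVe.2 v hv, map_one]
    · rintro _ ⟨v, hv, rfl⟩ _ ⟨w, hw, rfl⟩
      haveI := hVe.1
      rw [← map_mul, ← map_mul, setLike_mul_comm (s := V) hv hw]
  obtain ⟨g₀, hg₀⟩ := h.exists_not_mem
  have hq : (Y ⊓ Cfsg.pCoreOf p L).relIndex Y = Nat.card (Y'.map q) := by
    rw [← relIndex_ker, QuotientGroup.ker_mk', ← inf_relIndex_right A Y', inf_comm, hY',
      ← relIndex_map_map_of_injective _ _ L.subtype_injective, map_inf _ _ _ L.subtype_injective,
      subgroupOf_map_subtype, inf_eq_left.mpr hYL, Cfsg.pCoreOf]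
  rw [hq] at hiso
  have hcard : ∀ {X : Type} [Group X] (e : L ⧸ A ≃* X),
      Nat.card (Y'.map (e.toMonoidHom.comp q)) = Nat.card (Y'.map q) := by
    intro X _ e
    rw [← map_map]
    exact card_map_of_injective e.injective
  have htwo : ∀ {X : Type} [Group X] [Finite X] (e : L ⧸ A ≃* X), p = 2 →
      Nat.card (Y'.map q) = 2 → IsOnly p (Y'.map (e.toMonoidHom.comp q)) := by
    intro X _ _ e hp2 h2
    subst hp2
    refine isOnly_card_two _ ((hcard e).trans h2) (g := e (q g₀)) ?_ ?_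
    · have hf : Function.Surjective (e.toMonoidHom.comp q) :=
        e.surjective.comp (QuotientGroup.mk'_surjective A)
      have h1 := congrArg (Subgroup.map (e.toMonoidHom.comp q)) (h.sup_eq_top hg₀)
      rw [Subgroup.map_sup, map_top_of_surjective _ hf, map_map] at h1
      rw [← h1, map_map]
      congr 2
      ext z
      simp
    · rw [eq_bot_iff]
      intro x hx
      have h1 : e.symm x ∈ Cfsg.pCore 2 (L ⧸ A) :=
        CharP.pCore_map_le e.symm (mem_map_of_mem _ hx)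
      rw [pCore_quotient_pCore_eq_bot (p := 2) L, mem_bot] at h1
      rw [mem_bot, ← e.apply_symm_apply x, h1, map_one]
  rcases hiso with ⟨F, iF, fF, hcF, ⟨e⟩⟩ | ⟨hp, F, iF, fF, m, hm, hcF, ⟨e⟩⟩ |
    ⟨hp, r, hr, hr2, ⟨e⟩⟩
  · exact main _ e (isOnly_sl2 _ (h.isPGroup.map _) ((hcard e).trans hcF.symm))
  · rcases Nat.eq_zero_or_pos m with hm0 | hm1
    · haveI : Finite (GL (Fin 4) F) := inferInstance
      exact main _ e (htwo e hp (by rw [← hcF, hm, hm0]; norm_num))
    · have hz := CfsgLib.Suzuki.isSzField_of_card hm1 hm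
      haveI := CfsgLib.Suzuki.finite_G hz
      subst hp
      refine main _ (e.trans (CfsgLib.Suzuki.lieEquiv hz).symm) (isOnly_suzuki hz _ ?_ ?_)
      · rintro _ ⟨y, hy, rfl⟩
        have h1 : y ^ 2 = 1 := Subtype.ext (by simpa using hexp _ hy)
        rw [← map_mul, ← pow_two, h1, map_one]
      · rw [hcard, ← hcF, Nat.card_eq_fintype_card]
  · haveI : NeZero r := ⟨hr.ne_zero⟩
    refine main _ e (htwo e hp ?_)
    have hd : Nat.card (Y'.map q) ∣ 2 * r := by
      rw [← hcard e, ← DihedralGroup.nat_card]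
      exact card_subgroup_dvd_card _
    obtain ⟨k, hk⟩ := IsPGroup.iff_card.mp (h.isPGroup.map q)
    subst hp
    rw [hk] at hd hne1 ⊢
    match k, hne1 with
    | 0, h1 => exact absurd rfl h1
    | 1, _ => rfl
    | k + 2, _ =>
      exfalso
      have h4 : 2 * 2 ∣ 2 * r := Nat.dvd_trans ⟨2 ^ k, by ring⟩ hd
      exact hr2 ((Nat.prime_dvd_prime_iff_eq Nat.prime_two hr).mp
        (Nat.dvd_of_mul_dvd_mul_left two_pos h4)).symm

end CfsgLib.FrakLUnique
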