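import Cfsg.Agent.CharP.FrakM
import Cfsg.Agent.CharP.Subnormal
import Cfsg.Agent.CharP.ResidualBasics
import Cfsg.Agent.CharP.YMinimal
import Cfsg.Agent.Solvable.CoprimeAct
import Cfsg.Agent.Solvable.PGroupBasic
import Cfsg.Agent.KGroup.CharP

/-!
`p`-subgroups of `O_p(M†)` that act on a `p`-group through its Frattini subgroup.
-/

set_option autoImplicit false
set_option linter.style.haveILetI false

namespace CfsgLib.FrakMAbsorb

open Subgroup Cfsg
open scoped commutatorElement

variable {G : Type*} [Group G] [Finite G] {p : ℕ} [Fact p.Prime]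

theorem normalizer_le_dagger (S : Sylow p G) {Q : Subgroup G} (hQS : Q ≤ (S : Subgroup G))
    (hQ : IsLarge Q) {M : Subgroup G} (hSM : (S : Subgroup G) ≤ M) (hM : IsInFrakM p M)
    {I : Subgroup G} (hI1 : I ≠ ⊥) (hIp : IsPGroup p I) (hIn : M ≤ normalizer (I : Set G)) :
    normalizer (I : Set G) ≤ M ⊔ centralizer (largestPReducedOf p M : Set G) := by
  obtain ⟨X, hX, hle⟩ := FrakM.exists_max_above
    (FrakM.localCharP_of_large S hQ hQS I hIp hI1 (hSM.trans hIn))
  rwa [hM.2.2.1 X hX (hIn.trans hle)] at hle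

theorem le_pCoreOf (S : Sylow p G) {Q : Subgroup G} (hQS : Q ≤ (S : Subgroup G)) (hQ : IsLarge Q)
    {M : Subgroup G} (hSM : (S : Subgroup G) ≤ M) (hM : IsInFrakM p M)
    {I : Subgroup G} (hI1 : I ≠ ⊥) (hIp : IsPGroup p I) (hIM : M ≤ normalizer (I : Set G))
    {Y : Subgroup G} (hY : Y ≤ pCoreOf p (M ⊔ centralizer (largestPReducedOf p M : Set G)))
    {L : Subgroup G} (hYL : Y ≤ L) {A : Subgroup G} (hAp : IsPGroup p A)
    (hLA : L ≤ normalizer (A : Set G)) (hIA : I ≤ A) (hc : ⁅Y, A⁆ ≤ ⁅I, A⁆) :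
    Y ≤ pCoreOf p L := by
  set Md := M ⊔ centralizer (largestPReducedOf p M : Set G) with hMd
  set P := pCoreOf p Md
  set Φ := (frattini A).map A.subtype
  have hΦ : ⁅I, A⁆ ≤ Φ := by
    refine (commutator_mono hIA le_rfl).trans ?_
    rw [show ⁅A, A⁆ = Subgroup.map A.subtype ⁅(⊤ : Subgroup A), (⊤ : Subgroup A)⁆ by
      rw [map_commutator, ← MonoidHom.range_eq_map, A.range_subtype]]
    exact map_mono ((PGroupBasic.commutator_pow_le_frattini hAp).1)
  have hΦn : ∀ g ∈ normalizer (A : Set G), ∀ x ∈ Φ, g * x * g⁻¹ ∈ Φ := by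
    rintro g hg _ ⟨f, hf, rfl⟩
    exact ⟨A.normalizerMonoidHom ⟨g, hg⟩ f,
      characteristic_iff_le_comap.1 frattini_characteristic _ hf, rfl⟩
  set C : Subgroup L := (centralizer (A : Set G)).subgroupOf L
  haveI hCn : C.Normal := normal_subgroupOf_of_le_normalizer
    (hLA.trans (FrakM.normalizer_le_normalizer_centralizer A))
  -- the elements acting trivially on `A / Φ(A)`
  let K : Subgroup L :=
    { carrier := {g | ∀ a ∈ A, (g : G) * a * (g : G)⁻¹ * a⁻¹ ∈ Φ}
      one_mem' := fun a _ => by simp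
      mul_mem' := fun {g k} hg hk a ha => by
        have hka : (k : G) * a * (k : G)⁻¹ ∈ A := (mem_normalizer_iff.1 (hLA k.2) a).1 ha
        have h1 := mul_mem (hg _ hka) (hk a ha)
        simpa [mul_assoc] using h1
      inv_mem' := fun {g} hg a ha => by
        have hga : (g : G)⁻¹ * a * g ∈ A := by
          simpa using (mem_normalizer_iff.1 (inv_mem (hLA g.2)) a).1 ha
        have h1 := inv_mem (hg _ hga)
        simpa [mul_assoc] using h1 }
  haveI hKn : K.Normal := ⟨fun k hk g a ha => by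
    have hga : (g : G)⁻¹ * a * g ∈ A := by
      simpa using (mem_normalizer_iff.1 (inv_mem (hLA g.2)) a).1 ha
    have := hΦn g (hLA g.2) _ (hk _ hga)
    simpa [mul_assoc] using this⟩
  have hYK : Y.subgroupOf L ≤ K := fun y hy a ha => by
    have h1 := hΦ (hc (commutator_mem_commutator (mem_subgroupOf.1 hy) ha))
    rwa [commutatorElement_def] at h1
  have hKC : ∀ k ∈ K, (orderOf k).Coprime p → k ∈ C := by
    intro k hk hko
    have hle : zpowers (k : G) ≤ normalizer (A : Set G) := zpowers_le.2 (hLA k.2)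
    obtain ⟨j, hj⟩ := IsPGroup.iff_card.1 (hAp.to_subgroup (frattini A))
    have hcop : (Nat.card (zpowers (k : G))).Coprime (Nat.card (frattini A)) := by
      rw [Nat.card_zpowers, Subgroup.orderOf_coe, hj]
      exact hko.pow_right j
    refine CoprimeAct.trivial_on_frattini_quotient hle hcop ?_ (mem_zpowers (k : G))
    intro a ha x hx
    obtain ⟨i, rfl⟩ := mem_zpowers_iff.1 ha
    have h1 := K.zpow_mem hk i x hx
    rw [SubgroupClass.coe_zpow] at h1
    exact h1
  set π := QuotientGroup.mk' C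
  have hKp : IsPGroup p (K.map π) := by
    intro q
    obtain ⟨k, hk, hkq⟩ := q.2
    obtain ⟨e, he⟩ : ∃ e, k ^ p ^ e ∈ C :=
      ⟨(orderOf k).factorization p, hKC _ (pow_mem hk _) (by
        rw [orderOf_pow_of_dvd (pow_ne_zero _ (Fact.out : p.Prime).ne_zero) (Nat.ordProj_dvd _ _)]
        exact (Nat.coprime_ordCompl Fact.out (orderOf_pos k).ne').symm)⟩
    refine ⟨e, Subtype.ext ?_⟩
    rw [SubmonoidClass.coe_pow, ← hkq, ← map_pow]
    exact (QuotientGroup.eq_one_iff _).2 he
  haveI := hKp.isNilpotent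
  haveI : (K.map π).Normal := hKn.map _ (QuotientGroup.mk'_surjective _)
  set D := C ⊔ Y.subgroupOf L
  have hDs : D.IsSubnormal := by
    have h1 : ((Y.subgroupOf L).map π).IsSubnormal :=
      IsSubnormal.trans (map_mono hYK) (ResidualBasics.nilpotent_all_subnormal _)
        (Normal.isSubnormal inferInstance)
    have h2 := h1.comap π
    rwa [comap_map_eq, QuotientGroup.ker_mk', sup_comm] at h2
  have hCM : centralizer (A : Set G) ≤ Md := (centralizer_le hIA).trans
    ((FrakM.centralizer_le_normalizer I).trans (normalizer_le_dagger S hQS hQ hSM hM hI1 hIp hIM))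
  have hDP : D ≤ (normalizer (P : Set G)).comap L.subtype := by
    refine sup_le (fun x hx => ?_) fun x hx => ?_
    · exact FrakM.le_normalizer_pCoreOf Md (hCM hx)
    · exact le_normalizer (hY hx)
  set W := P.subgroupOf L ⊓ D
  haveI : (W.subgroupOf D).Normal := normal_subgroupOf_of_le_normalizer fun x hx =>
    YMinimal.mem_normalizer_of_conj_le (by
      rintro _ ⟨w, ⟨hw1, hw2⟩, rfl⟩
      exact ⟨(mem_normalizer_iff.1 (hDP hx) w).1 hw1, D.mul_mem (D.mul_mem hx hw2) (D.inv_mem hx)⟩)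
  have hWs : W.IsSubnormal := IsSubnormal.trans inf_le_right (Normal.isSubnormal inferInstance) hDs
  have hWp : IsPGroup p W :=
    IsPGroup.to_le (FrakM.isPGroup_pCoreOf Md).comap_subtype inf_le_left
  intro y hy
  exact ⟨⟨y, hYL hy⟩, CharP.subnormal_pGroup_le_pCore hWs hWp
    ⟨hY hy, mem_sup_right (show (⟨y, hYL hy⟩ : L) ∈ Y.subgroupOf L from hy)⟩, rfl⟩

end CfsgLib.FrakMAbsorb
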