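import Cfsg.Agent.CharP.FrakM

/-!
Members of `𝔐_H` with asymmetric `Y_M`: `O_p(M)` is weakly closed and `N(O_p M)` controls fusion in `Y_M`.
-/

set_option autoImplicit false
set_option linter.style.haveILetI false
set_option linter.unusedSectionVars false
set_option linter.unusedVariables false

namespace CfsgLib.FrakM

open Subgroup CfsgLib CfsgLib.CharP
open scoped commutatorElement

variable {H : Type*} [Group H] [Finite H] {p : ℕ} [hp : Fact p.Prime]

/-- The conjugate `a U a⁻¹`. -/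
abbrev cj (a : H) (U : Subgroup H) : Subgroup H := U.map (MulAut.conj a).toMonoidHom

theorem mem_cj {a x : H} {U : Subgroup H} : x ∈ cj a U ↔ a⁻¹ * x * a ∈ U := by
  constructor
  · rintro ⟨u, hu, rfl⟩; simpa [mul_assoc] using hu
  · exact fun h => ⟨_, h, by simp [mul_assoc]⟩

theorem cj_mul (a b : H) (U : Subgroup H) : cj a (cj b U) = cj (a * b) U := by
  ext x; simp only [mem_cj, mul_inv_rev]; simp [mul_assoc]

theorem cj_mono (a : H) {U V : Subgroup H} (h : U ≤ V) : cj a U ≤ cj a V := map_mono h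

theorem cj_one (U : Subgroup H) : cj 1 U = U := by ext x; simp

theorem normalizer_cj (a : H) (U : Subgroup H) :
    normalizer ((cj a U : Subgroup H) : Set H) = cj a (normalizer (U : Set H)) := by
  ext x
  simp only [mem_cj, mem_normalizer_iff]
  constructor
  · intro h y
    have := h (a * y * a⁻¹)
    simpa [mul_assoc] using this
  · intro h y
    have := h (a⁻¹ * y * a)
    simpa [mul_assoc] using this

theorem cj_eq_self {a : H} {U : Subgroup H} (ha : a ∈ normalizer (U : Set H)) : cj a U = U := by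
  ext x
  rw [mem_cj]
  have := (mem_normalizer_iff.1 (inv_mem ha) x)
  rw [inv_inv] at this
  exact this.symm

/-- Chains of mutually normalizing conjugates of `O`. -/
def Chain (O : Subgroup H) : ℕ → H → H → Prop
  | 0, a, b => cj a O = cj b O
  | n + 1, a, b => ∃ c, (cj a O ≤ normalizer ((cj c O : Subgroup H) : Set H) ∧
      cj c O ≤ normalizer ((cj a O : Subgroup H) : Set H)) ∧ Chain O n c b

theorem Chain.left {O : Subgroup H} (x : H) : ∀ {n : ℕ} {a b : H}, Chain O n a b → Chain O n (x * a) (x * b)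
  | 0, a, b, h => by
    show cj (x * a) O = cj (x * b) O
    rw [← cj_mul, ← cj_mul, show cj a O = cj b O from h]
  | n + 1, a, b, ⟨c, ⟨h1, h2⟩, h⟩ => by
    refine ⟨x * c, ⟨?_, ?_⟩, Chain.left x h⟩
    · rw [← cj_mul x a, ← cj_mul x c, normalizer_cj]; exact cj_mono x h1
    · rw [← cj_mul x a, ← cj_mul x c, normalizer_cj]; exact cj_mono x h2

theorem Chain.congr_left {O : Subgroup H} {a a' : H} (h : cj a O = cj a' O) :
    ∀ {n : ℕ} {b : H}, Chain O n a b → Chain O n a' b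
  | 0, _, h' => (h.symm.trans h' : _)
  | n + 1, b, ⟨c, hc, h'⟩ => ⟨c, h ▸ hc, h'⟩

theorem Chain.congr_right {O : Subgroup H} :
    ∀ {n : ℕ} {a b b' : H}, cj b O = cj b' O → Chain O n a b → Chain O n a b'
  | 0, a, b, b', h, h' => (h'.trans h : cj a O = cj b' O)
  | n + 1, a, b, b', h, ⟨c, hc, h'⟩ => ⟨c, hc, Chain.congr_right h h'⟩

theorem Chain.refl_pad {O : Subgroup H} : ∀ (n : ℕ) (a : H), Chain O n a a
  | 0, _ => rfl
  | n + 1, a => ⟨a, ⟨le_normalizer, le_normalizer⟩, Chain.refl_pad n a⟩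

theorem Chain.append {O : Subgroup H} : ∀ {n m : ℕ} {a b c : H},
    Chain O n a b → Chain O m b c → Chain O (n + m) a c
  | 0, m, a, b, c, h, h' => by rw [Nat.zero_add]; exact Chain.congr_left (Eq.symm h) h'
  | n + 1, m, a, b, c, ⟨d, hd, h⟩, h' => by
    rw [Nat.add_right_comm]
    exact ⟨d, hd, Chain.append h h'⟩

theorem Chain.last {O : Subgroup H} : ∀ {n : ℕ} {a b : H}, Chain O (n + 1) a b →
    ∃ c, Chain O n a c ∧ (cj c O ≤ normalizer ((cj b O : Subgroup H) : Set H) ∧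
      cj b O ≤ normalizer ((cj c O : Subgroup H) : Set H))
  | 0, a, b, ⟨c, hc, h⟩ => ⟨a, rfl, (show cj c O = cj b O from h) ▸ hc⟩
  | n + 1, a, b, ⟨c, hc, h⟩ => by
    obtain ⟨d, hd, hdb⟩ := Chain.last h
    exact ⟨d, ⟨c, hc, hd⟩, hdb⟩

theorem Chain.symm' {O : Subgroup H} : ∀ {n : ℕ} {a b : H}, Chain O n a b → Chain O n b a
  | 0, a, b, h => (Eq.symm h : cj b O = cj a O)
  | n + 1, a, b, h => by
    obtain ⟨c, hc, hcb⟩ := Chain.last h
    exact ⟨c, ⟨hcb.2, hcb.1⟩, Chain.symm' hc⟩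

/-- The basic facts about `M ∈ 𝔐_H`. -/
structure Ctx (T : Sylow p H) (M : Subgroup H) : Prop where
  loc : LocalCharP T
  sylow : (T : Subgroup H) ≤ M
  frak : Cfsg.IsInFrakM p M

variable {T : Sylow p H} {M : Subgroup H}

local notation "YM" => Cfsg.largestPReducedOf p M
local notation "CM" => centralizer (Cfsg.largestPReducedOf p M : Set H)
local notation "OM" => Cfsg.pCoreOf p M
local notation "MD" => M ⊔ centralizer (Cfsg.largestPReducedOf p M : Set H)

theorem Ctx.dagger_le_normalizer (_h : Ctx T M) : MD ≤ normalizer (YM : Set H) :=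
  sup_le (le_normalizer_largestPReducedOf M) (centralizer_le_normalizer _)

theorem Ctx.dagger_le_normalizer_centralizer (h : Ctx T M) : MD ≤ normalizer (CM : Set H) :=
  h.dagger_le_normalizer.trans (normalizer_le_normalizer_centralizer _)

/-- A member of `𝓛_H` containing `M` lies in `M†`. -/
theorem Ctx.le_dagger (h : Ctx T M) {X : Subgroup H} (hX : X ∈ Cfsg.charPSubgroups p H)
    (hMX : M ≤ X) : X ≤ MD := by
  obtain ⟨X', hX', hle⟩ := exists_max_above hX
  exact hle.trans (h.frak.2.2.1 X' hX' (hMX.trans hle)).le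

theorem Ctx.yne (h : Ctx T M) : YM ≠ ⊥ := largestPReducedOf_ne_bot T h.sylow h.frak.1

theorem Ctx.normalizer_y (h : Ctx T M) : normalizer (YM : Set H) = MD :=
  le_antisymm (h.le_dagger (h.loc _ (largestPReducedOf_isPGroup M) h.yne
    (h.sylow.trans (le_normalizer_largestPReducedOf M))) (le_normalizer_largestPReducedOf M))
    h.dagger_le_normalizer

theorem Ctx.core_ne (h : Ctx T M) : OM ≠ ⊥ := fun he => h.frak.1.1 ((pCoreOf_eq_bot_iff M).1 he)

theorem Ctx.normalizer_core_le (h : Ctx T M) : normalizer (OM : Set H) ≤ MD :=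
  h.le_dagger (h.loc _ (isPGroup_pCoreOf M) h.core_ne (h.sylow.trans (le_normalizer_pCoreOf M)))
    (le_normalizer_pCoreOf M)

/-- `T ∩ C(Y_M) = O_p(M)`. -/
theorem Ctx.inf_centralizer (h : Ctx T M) : (T : Subgroup H) ⊓ CM = OM := by
  refine le_antisymm ?_ (le_inf (pCoreOf_le_sylow T h.sylow) (pCoreOf_le_centralizer M))
  obtain ⟨-, -, -, -, hcl, -⟩ := h.frak
  set D := M ⊓ CM with hD
  have hDn : M ≤ normalizer (D : Set H) := fun m hm => mem_normalizer_iff.2 fun x => by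
    rw [hD, Subgroup.mem_inf, Subgroup.mem_inf]
    exact and_congr (conj_mem_iff hm).symm (mem_normalizer_iff.1
      (normalizer_le_normalizer_centralizer _ (le_normalizer_largestPReducedOf M hm)) x)
  obtain ⟨P⟩ := (inferInstance : Nonempty (Sylow p D))
  have hPO : Cfsg.pCoreOf p D ≤ OM := le_pCoreOf ((LocalB.opIn_le D).trans inf_le_left)
    (isPGroup_pCoreOf D) (hDn.trans (normalizer_le_normalizer_pCoreOf D))
  intro x hx
  have hp' : IsPGroup p (((T : Subgroup H) ⊓ CM).subgroupOf D) :=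
    (T.2.to_le inf_le_left).of_equiv
      (subgroupOfEquivOfLe (le_inf (inf_le_left.trans h.sylow) inf_le_right)).symm
  obtain ⟨P', hP'⟩ := hp'.exists_le_sylow
  exact hPO ⟨⟨x, h.sylow hx.1, hx.2⟩, Solvable.le_pCore p (hcl P') P'.2 (hP' (mem_subgroupOf.2 hx)), rfl⟩

/-- `O_p(M)` is a Sylow subgroup of `C(Y_M)`. -/
theorem Ctx.eq_of_le_pGroup (h : Ctx T M) {P : Subgroup H} (hP : IsPGroup p P) (hOP : OM ≤ P)
    (hPC : P ≤ CM) : P = OM := by
  have hidx := not_dvd_relIndex_inf T CM (h.sylow.trans (le_sup_left.trans h.dagger_le_normalizer_centralizer))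
  rw [h.inf_centralizer] at hidx
  refine le_antisymm (relIndex_eq_one.1 ?_) hOP
  obtain ⟨k, hk⟩ := hP.index ((OM).subgroupOf P)
  have hk' : (OM).relIndex P = p ^ k := hk
  rcases Nat.eq_zero_or_pos k with rfl | hkpos
  · simpa using hk'
  refine absurd ?_ hidx
  rw [← relIndex_mul_relIndex (OM) P CM hOP hPC, hk']
  exact dvd_mul_of_dvd_left (dvd_pow_self p hkpos.ne') _

theorem isPGroup_sup_cj (U : Subgroup H) (hU : IsPGroup p U) {a b : H}
    (hab : cj a U ≤ normalizer ((cj b U : Subgroup H) : Set H)) : IsPGroup p ↥(cj a U ⊔ cj b U) := by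
  obtain ⟨i, hi⟩ := IsPGroup.iff_card.1 (hU.map (MulAut.conj a).toMonoidHom)
  obtain ⟨j, hj⟩ := IsPGroup.iff_card.1 (hU.map (MulAut.conj b).toMonoidHom)
  have h := Solvable.card_sup_dvd hab
  rw [hi, hj, ← pow_add] at h
  obtain ⟨k, -, hk⟩ := (Nat.dvd_prime_pow hp.out).1 h
  exact IsPGroup.of_card hk

/-- Conjugate transport of `eq_of_le_pGroup`. -/
theorem Ctx.le_cj_core (h : Ctx T M) {a b : H} {x : H}
    (hab : cj a OM ≤ normalizer ((cj b OM : Subgroup H) : Set H)) (hx : x ∈ cj a OM)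
    (hxc : x ∈ cj b CM) : x ∈ cj b OM := by
  set P := (cj a OM ⊔ cj b OM) ⊓ cj b CM with hP
  have hPp : IsPGroup p P := (isPGroup_sup_cj _ (isPGroup_pCoreOf M) hab).to_le inf_le_left
  have hOP : cj b OM ≤ P := le_inf le_sup_right (cj_mono b (pCoreOf_le_centralizer M))
  have he : cj b⁻¹ P = OM := by
    refine h.eq_of_le_pGroup (hPp.map _) ?_ ?_
    · have := cj_mono b⁻¹ hOP
      rwa [cj_mul, inv_mul_cancel, cj_one] at this
    · have := cj_mono b⁻¹ (inf_le_right : P ≤ cj b CM)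
      rwa [cj_mul, inv_mul_cancel, cj_one] at this
  have hxP : x ∈ P := ⟨mem_sup_left hx, hxc⟩
  rw [← he, cj_mul, mul_inv_cancel, cj_one]
  exact hxP

/-- Asymmetry: mutually normalizing conjugates of `Y_M` commute. -/
theorem commute_of_asym {Y : Subgroup H} (hasym : ¬ Cfsg.IsSymmetricIn Y) {a b : H}
    (h1 : cj a Y ≤ normalizer ((cj b Y : Subgroup H) : Set H))
    (h2 : cj b Y ≤ normalizer ((cj a Y : Subgroup H) : Set H)) : cj a Y ≤ cj b (centralizer (Y : Set H)) := by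
  have h1' := cj_mono a⁻¹ h1
  have h2' := cj_mono a⁻¹ h2
  rw [normalizer_cj, cj_mul, cj_mul, inv_mul_cancel, cj_one, ← normalizer_cj] at h1'
  rw [normalizer_cj, cj_mul, cj_mul, inv_mul_cancel, cj_one] at h2'
  have hbot : ⁅Y, cj (a⁻¹ * b) Y⁆ = ⊥ := by
    by_contra hne
    refine hasym ⟨a⁻¹ * b, hne, le_inf (le_normalizer_iff_commutator_le_left.1 h2') ?_⟩
    rw [commutator_comm]
    exact le_normalizer_iff_commutator_le_left.1 h1'
  intro x hx
  rw [mem_cj]
  refine mem_centralizer_iff.2 fun y hy => ?_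
  rw [mem_cj] at hx
  have h := commutatorElement_eq_one_iff_mul_comm.1 (mem_bot.1 (hbot ▸
    commutator_mem_commutator hx (show (a⁻¹ * b) * y * (a⁻¹ * b)⁻¹ ∈ cj (a⁻¹ * b) Y from ⟨y, hy, rfl⟩)))
  calc y * (b⁻¹ * x * b)
      = b⁻¹ * a * ((a⁻¹ * b * y * (a⁻¹ * b)⁻¹) * (a⁻¹ * x * a)) * a⁻¹ * b := by simp [mul_assoc]
    _ = b⁻¹ * a * ((a⁻¹ * x * a) * (a⁻¹ * b * y * (a⁻¹ * b)⁻¹)) * a⁻¹ * b := by rw [h]
    _ = b⁻¹ * x * b * y := by simp [mul_assoc]

theorem Ctx.cj_core_le_normalizer (h : Ctx T M) {a b : H}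
    (hab : cj a OM ≤ normalizer ((cj b OM : Subgroup H) : Set H)) :
    cj a OM ≤ normalizer ((cj b YM : Subgroup H) : Set H) := by
  refine hab.trans ?_
  rw [normalizer_cj, normalizer_cj]
  exact cj_mono b (h.normalizer_core_le.trans h.dagger_le_normalizer)

/-- The key step: along a chain every `Y` lies in every core. -/
theorem Ctx.chain_le (h : Ctx T M) (hasym : ¬ Cfsg.IsSymmetricIn YM) :
    ∀ (n : ℕ) {a b : H}, Chain OM n a b → cj a YM ≤ cj b OM
  | 0, a, b, hc => (cj_mono a (largestPReducedOf_le_pCoreOf M)).trans (le_of_eq hc)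
  | n + 1, a, b, hc => by
    obtain ⟨c, hac, hcb⟩ := Chain.last hc
    obtain ⟨d, had, hdb⟩ := hc
    have hA : cj a YM ≤ cj c OM := Ctx.chain_le h hasym n hac
    have hB : cj b YM ≤ cj d OM := Ctx.chain_le h hasym n (Chain.symm' hdb)
    have hcomm := commute_of_asym hasym (hA.trans (h.cj_core_le_normalizer hcb.1))
      (hB.trans (h.cj_core_le_normalizer had.2))
    exact fun x hx => h.le_cj_core hcb.1 (hA hx) (hcomm hx)

/-- Two mutually normalizing conjugates of `O_p(M)` coincide. -/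
theorem Ctx.eq_of_mutual (h : Ctx T M) (hasym : ¬ Cfsg.IsSymmetricIn YM) {g : H}
    (h1 : cj g OM ≤ normalizer (OM : Set H)) (h2 : OM ≤ normalizer ((cj g OM : Subgroup H) : Set H)) :
    cj g OM = OM := by
  set 𝒮 : Set H := {x | ∃ (n : ℕ) (a : H), Chain OM n 1 a ∧ x ∈ cj a YM} with h𝒮
  set V := closure 𝒮 with hV
  have hpow : ∀ y ∈ YM, y ^ p = 1 := by
    rintro _ ⟨a, ha, rfl⟩
    exact congrArg Subtype.val ((largestPReduced_spec (L := M) (p := p)).1.2.1.2 a ha)
  have hcomm : ∀ x ∈ 𝒮, ∀ y ∈ 𝒮, x * y = y * x := by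
    rintro x ⟨n, a, ha, hx⟩ y ⟨m, b, hb, hy⟩
    have h' := h.chain_le hasym _ (Chain.append (Chain.symm' ha) hb) hx
    have h'' := cj_mono b (pCoreOf_le_centralizer M) h'
    rw [mem_cj] at h'' hy
    have := mem_centralizer_iff.1 h'' _ hy
    calc x * y = b * ((b⁻¹ * x * b) * (b⁻¹ * y * b)) * b⁻¹ := by simp [mul_assoc]
      _ = b * ((b⁻¹ * y * b) * (b⁻¹ * x * b)) * b⁻¹ := by rw [this]
      _ = y * x := by simp [mul_assoc]
  haveI : IsMulCommutative V := Subgroup.isMulCommutative_closure hcomm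
  have hVp : IsPGroup p V := by
    rintro ⟨w, hw⟩
    refine ⟨1, Subtype.ext ?_⟩
    rw [SubmonoidClass.coe_pow, pow_one]
    show w ^ p = (1 : H)
    induction hw using closure_induction with
    | mem x hx =>
      obtain ⟨n, a, -, hx⟩ := hx
      rw [mem_cj] at hx
      have := hpow _ hx
      rw [show x = a * (a⁻¹ * x * a) * a⁻¹ by simp [mul_assoc], conj_pow, this, mul_one, mul_inv_cancel]
    | one => exact one_pow _
    | mul a b ha hb hpa hpb =>
      rw [(show Commute a b from setLike_mul_comm (s := V) ha hb).mul_pow, hpa, hpb, one_mul]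
    | inv a _ hpa => rw [inv_pow, hpa, inv_one]
  have hchain1 : Chain OM 1 1 g := ⟨g, ⟨by rw [cj_one]; exact h2, by rw [cj_one]; exact h1⟩, rfl⟩
  -- the component is invariant under `M` and under `g M g⁻¹`
  have hfix : ∀ x : H, (∃ k, Chain OM k 1 x) → ∀ a : H, (∃ k, Chain OM k 1 a) →
      (∃ k, Chain OM k 1 (x * a)) := fun x ⟨k, hk⟩ a ⟨l, hl⟩ => by
    have := Chain.left x hl
    rw [mul_one] at this
    exact ⟨_, Chain.append hk this⟩
  have hM : ∀ m ∈ M, ∃ k, Chain OM k 1 m := fun m hm =>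
    ⟨0, by show cj 1 OM = cj m OM; rw [cj_one, cj_eq_self (le_normalizer_pCoreOf M hm)]⟩
  have hgM : ∀ m ∈ M, ∃ k, Chain OM k 1 (g * m * g⁻¹) := fun m hm => by
    obtain ⟨k, hk⟩ := hfix g ⟨1, hchain1⟩ m (hM m hm)
    have hinv : ∃ l, Chain OM l 1 g⁻¹ := by
      have h3 := Chain.left g⁻¹ (Chain.symm' hchain1)
      rw [inv_mul_cancel, mul_one] at h3
      exact ⟨1, h3⟩
    exact hfix (g * m) ⟨k, hk⟩ g⁻¹ hinv
  have hnorm : ∀ x : H, (∃ k, Chain OM k 1 x) → (∃ k, Chain OM k 1 x⁻¹) → x ∈ normalizer (V : Set H) := by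
    have key : ∀ x : H, (∃ k, Chain OM k 1 x) → ∀ v ∈ V, x * v * x⁻¹ ∈ V := by
      intro x hx v hv
      induction hv using closure_induction with
      | mem v hv =>
        obtain ⟨n, a, ha, hva⟩ := hv
        obtain ⟨k, hk⟩ := hfix x hx a ⟨n, ha⟩
        refine subset_closure ⟨k, x * a, hk, ?_⟩
        rw [mem_cj] at hva ⊢
        simpa [mul_assoc] using hva
      | one => simp
      | mul v w _ _ h1 h2 => have := mul_mem h1 h2; simpa [mul_assoc] using this
      | inv v _ h1 => have := inv_mem h1; simpa [mul_assoc] using this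
    exact fun x hx hx' => mem_normalizer_iff.2 fun v => ⟨key x hx v, fun hv => by
      simpa [mul_assoc] using key x⁻¹ hx' _ hv⟩
  have hMN : M ≤ normalizer (V : Set H) := fun m hm => hnorm m (hM m hm) (hM _ (inv_mem hm))
  have hVne : V ≠ ⊥ := fun he => h.yne (le_bot_iff.1 (he ▸ fun y hy =>
    subset_closure ⟨0, 1, rfl, by rwa [cj_one]⟩))
  have hle : normalizer (V : Set H) ≤ MD :=
    h.le_dagger (h.loc V hVp hVne (h.sylow.trans hMN)) hMN
  -- `g` normalizes `M†`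
  have hgD : ∀ m ∈ M, g * m * g⁻¹ ∈ MD := fun m hm =>
    hle (hnorm _ (hgM m hm) (by
      have := hgM m⁻¹ (inv_mem hm)
      simpa [mul_assoc] using this))
  have hg : g ∈ MD := by
    have hMg : M ≤ cj g⁻¹ MD := fun m hm => by rw [mem_cj, inv_inv]; exact hgD m hm
    have hmem : cj g⁻¹ MD ∈ Cfsg.charPSubgroups p H := by
      obtain ⟨hc1, hc2⟩ := h.frak.2.1.1
      have hO : cj g⁻¹ (Cfsg.pCoreOf p MD) ≤ Cfsg.pCoreOf p (cj g⁻¹ MD) := by
        refine le_pCoreOf (cj_mono _ (LocalB.opIn_le _)) ((isPGroup_pCoreOf _).map _) ?_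
        rw [normalizer_cj]; exact cj_mono _ (le_normalizer_pCoreOf _)
      refine ⟨fun he => hc1 ?_, ?_⟩
      · rw [← pCoreOf_eq_bot_iff] at he ⊢
        exact (Subgroup.map_eq_bot_iff_of_injective _ (MulAut.conj g⁻¹).injective).1 (le_bot_iff.1 (he ▸ hO))
      · refine (centralizer_le hO).trans (fun x hx => hO ?_)
        refine mem_cj.2 (hc2 (mem_centralizer_iff.2 fun y hy => ?_))
        have h3 := mem_centralizer_iff.1 hx _ (⟨y, hy, rfl⟩ : g⁻¹ * y * g⁻¹⁻¹ ∈ cj g⁻¹ (Cfsg.pCoreOf p MD))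
        rw [inv_inv] at h3 ⊢
        calc y * (g * x * g⁻¹) = g * (g⁻¹ * y * g * x) * g⁻¹ := by simp [mul_assoc]
          _ = g * (x * (g⁻¹ * y * g)) * g⁻¹ := by rw [h3]
          _ = _ := by simp [mul_assoc]
    have hsub : cj g⁻¹ MD ≤ MD := h.le_dagger hmem hMg
    have heq : cj g⁻¹ MD = MD :=
      eq_of_le_of_card_ge hsub (le_of_eq (card_map_of_injective (MulAut.conj g⁻¹).injective).symm)
    have hgn : g⁻¹ ∈ normalizer ((MD : Subgroup H) : Set H) :=
      mem_normalizer_iff.2 fun x => by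
        conv_rhs => rw [← heq, mem_cj]
        simp [mul_assoc]
    have hgO := normalizer_le_normalizer_pCoreOf (p := p) MD hgn
    have hDne : Cfsg.pCoreOf p MD ≠ ⊥ := fun he => h.frak.2.1.1.1 ((pCoreOf_eq_bot_iff _).1 he)
    have hgo : g⁻¹ ∈ MD := h.le_dagger (h.loc _ (isPGroup_pCoreOf _) hDne
      (h.sylow.trans (le_sup_left.trans (le_normalizer_pCoreOf _))))
      (le_sup_left.trans (le_normalizer_pCoreOf _)) hgO
    simpa using inv_mem hgo
  have hC : cj g OM ≤ CM := by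
    rintro _ ⟨x, hx, rfl⟩
    exact (mem_normalizer_iff.1 (h.dagger_le_normalizer_centralizer hg) x).1 (pCoreOf_le_centralizer M hx)
  have hp2 : IsPGroup p ↥(cj g OM ⊔ cj 1 OM) := isPGroup_sup_cj _ (isPGroup_pCoreOf M) (by rwa [cj_one])
  rw [cj_one] at hp2
  have he := h.eq_of_le_pGroup hp2 le_sup_right (sup_le hC (pCoreOf_le_centralizer M))
  exact eq_of_le_of_card_ge (le_sup_left.trans he.le)
    (le_of_eq (card_map_of_injective (MulAut.conj g).injective).symm)

/-- `O_p(M)` is weakly closed in the Sylow subgroup. -/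
theorem Ctx.weaklyClosed (h : Ctx T M) (hasym : ¬ Cfsg.IsSymmetricIn YM) :
    Cfsg.IsWeaklyClosed OM (T : Subgroup H) := by
  refine ⟨pCoreOf_le_sylow T h.sylow, fun g hg => ?_⟩
  by_contra hne
  obtain ⟨a, ⟨haT, hane⟩, hmax⟩ :=
    (Set.toFinite {a : H | cj a OM ≤ (T : Subgroup H) ∧ cj a OM ≠ OM}).exists_maximalFor
      (fun a => Nat.card ↥((T : Subgroup H) ⊓ normalizer ((cj a OM : Subgroup H) : Set H))) _ ⟨g, hg, hne⟩
  set N₁ := (T : Subgroup H) ⊓ normalizer ((cj a OM : Subgroup H) : Set H) with hN₁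
  have hTO : (T : Subgroup H) ≤ normalizer (OM : Set H) := h.sylow.trans (le_normalizer_pCoreOf M)
  by_cases hN : N₁ = (T : Subgroup H)
  · exact hane (h.eq_of_mutual hasym (haT.trans hTO)
      ((pCoreOf_le_sylow T h.sylow).trans (hN.ge.trans inf_le_right)))
  haveI := T.2.isNilpotent
  set K := N₁.subgroupOf (T : Subgroup H) with hK
  have hKtop : K < ⊤ := lt_top_iff_ne_top.2 fun hKt =>
    hN (le_antisymm inf_le_left (subgroupOf_eq_top.1 hKt))
  obtain ⟨s, hs, hsK⟩ := SetLike.exists_of_lt (Group.normalizerCondition_of_isNilpotent K hKtop)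
  have hsT : (s : H) ∈ (T : Subgroup H) := s.2
  have hsN₁ : (s : H) ∈ normalizer (N₁ : Set H) := by
    refine mem_normalizer_iff.2 fun x => ?_
    by_cases hx : x ∈ (T : Subgroup H)
    · exact mem_normalizer_iff.1 hs ⟨x, hx⟩
    · refine ⟨fun h1 => absurd h1.1 hx, fun h1 => absurd ?_ hx⟩
      exact (conj_mem_iff hsT).1 h1.1
  have haN : cj a OM ≤ N₁ := le_inf haT le_normalizer
  have hb : cj ((s : H) * a) OM ≤ N₁ := by
    rw [← cj_mul]
    rintro _ ⟨x, hx, rfl⟩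
    exact (mem_normalizer_iff.1 hsN₁ x).1 (haN hx)
  have hne' : cj ((s : H) * a) OM ≠ cj a OM := fun he => by
    refine hsK (mem_subgroupOf.2 ⟨hsT, mem_normalizer_iff.2 fun x => ?_⟩)
    constructor
    · intro hx; exact he.le (by rw [← cj_mul]; exact ⟨x, hx, rfl⟩)
    · intro hx
      rw [← he, ← cj_mul] at hx
      obtain ⟨y, hy, hye⟩ := hx
      exact (mul_left_cancel (mul_right_cancel hye)) ▸ hy
  have ha' : cj a OM ≤ normalizer ((cj ((s : H) * a) OM : Subgroup H) : Set H) := by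
    intro x hx
    rw [← cj_mul, normalizer_cj, mem_cj]
    have := (mem_normalizer_iff.1 (inv_mem hsN₁) x).1 (haN hx)
    rw [inv_inv] at this
    exact this.2
  have he := h.eq_of_mutual hasym (g := a⁻¹ * ((s : H) * a))
    (by
      have := cj_mono a⁻¹ (hb.trans inf_le_right)
      rwa [cj_mul, normalizer_cj, cj_mul, inv_mul_cancel, cj_one] at this)
    (by
      have := cj_mono a⁻¹ ha'
      rwa [← normalizer_cj, cj_mul, cj_mul, inv_mul_cancel, cj_one] at this)
  refine hne' ?_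
  have := congrArg (cj a) he
  rwa [cj_mul, mul_inv_cancel_left] at this

/-- Every conjugate of `O_p(M)` in a `p`-group containing `O_p(M)` is equal to it. -/
theorem Ctx.eq_of_mem_pGroup (h : Ctx T M) (hasym : ¬ Cfsg.IsSymmetricIn YM) {L : Subgroup H}
    (hL : IsPGroup p L) (hOL : OM ≤ L) {g : H} (hg : cj g OM ≤ L) : cj g OM = OM := by
  have hw := h.weaklyClosed hasym
  obtain ⟨P, hP⟩ := hL.exists_le_sylow
  obtain ⟨x, hx⟩ := MulAction.exists_smul_eq H P T
  have hle : cj x L ≤ (T : Subgroup H) := fun y hy => by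
    rw [← hx]; exact cj_mono x hP hy
  have h1 : cj x OM = OM := hw.2 x ((cj_mono x hOL).trans hle)
  have h2 : cj (x * g) OM = OM := hw.2 _ (by
    show cj (x * g) OM ≤ _
    rw [← cj_mul]; exact (cj_mono x hg).trans hle)
  have h3 : cj x (cj g OM) = cj x OM := by rw [cj_mul, h2, h1]
  have := congrArg (cj x⁻¹) h3
  rwa [cj_mul, cj_mul x⁻¹ x, inv_mul_cancel, cj_one, cj_one] at this

theorem Ctx.normalizer_pGroup_le (h : Ctx T M) (hasym : ¬ Cfsg.IsSymmetricIn YM) {L : Subgroup H}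
    (hL : IsPGroup p L) (hOL : OM ≤ L) : normalizer (L : Set H) ≤ normalizer (OM : Set H) := by
  intro g hg
  have he := h.eq_of_mem_pGroup hasym hL hOL (g := g) (by
    rintro _ ⟨x, hx, rfl⟩
    exact (mem_normalizer_iff.1 hg x).1 (hOL hx))
  refine mem_normalizer_iff.2 fun x => ⟨fun hx => he.le ⟨x, hx, rfl⟩, fun hx => ?_⟩
  have := mem_cj.1 (he.ge hx)
  simpa [mul_assoc] using this

theorem Ctx.weaklyClosedSubgroup (h : Ctx T M) (hasym : ¬ Cfsg.IsSymmetricIn YM) :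
    Cfsg.IsWeaklyClosedSubgroup p OM := ⟨T, h.weaklyClosed hasym⟩

theorem Ctx.parabolic (h : Ctx T M) (hasym : ¬ Cfsg.IsSymmetricIn YM) (L : Subgroup H)
    (hOL : OM ≤ L) : Cfsg.IsParabolic p ((L ⊓ MD).subgroupOf L) := by
  obtain ⟨P, hP⟩ := ((isPGroup_pCoreOf M).of_equiv (subgroupOfEquivOfLe hOL).symm).exists_le_sylow
  refine ⟨P, fun x hx => mem_subgroupOf.2 ⟨x.2, h.normalizer_core_le ?_⟩⟩
  refine h.normalizer_pGroup_le hasym (L := (P : Subgroup L).map L.subtype) (P.2.map _)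
    (fun y hy => ⟨⟨y, hOL hy⟩, hP (mem_subgroupOf.2 hy), rfl⟩) (le_normalizer ⟨x, hx, rfl⟩)

theorem Ctx.fusion (h : Ctx T M) (hasym : ¬ Cfsg.IsSymmetricIn YM) {x : H} (hx : x ∈ YM) {g : H}
    (hg : g * x * g⁻¹ ∈ YM) : ∃ m ∈ M, m * x * m⁻¹ = g * x * g⁻¹ := by
  set C := centralizer ({x} : Set H) with hC
  have hO : OM ≤ C := fun y hy => mem_centralizer_singleton_iff.2
    (mem_centralizer_iff.1 (pCoreOf_le_centralizer M hy) x hx).symm
  have hOg : cj g⁻¹ OM ≤ C := fun y hy => by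
    rw [mem_cj, inv_inv] at hy
    have h1 := mem_centralizer_iff.1 (pCoreOf_le_centralizer M hy) _ hg
    refine mem_centralizer_singleton_iff.2 ?_
    calc y * x = g⁻¹ * ((g * y * g⁻¹) * (g * x * g⁻¹)) * g := by simp [mul_assoc]
      _ = g⁻¹ * ((g * x * g⁻¹) * (g * y * g⁻¹)) * g := by rw [h1]
      _ = x * y := by simp [mul_assoc]
  obtain ⟨P, hP⟩ := ((isPGroup_pCoreOf M).of_equiv (subgroupOfEquivOfLe hO).symm).exists_le_sylow
  obtain ⟨P', hP'⟩ := (((isPGroup_pCoreOf M).map _).of_equiv (subgroupOfEquivOfLe hOg).symm).exists_le_sylow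
  obtain ⟨c, hc⟩ := MulAction.exists_smul_eq C P' P
  have he := h.eq_of_mem_pGroup hasym (L := (P : Subgroup C).map C.subtype) (P.2.map _)
    (fun y hy => ⟨⟨y, hO hy⟩, hP (mem_subgroupOf.2 hy), rfl⟩) (g := (c : H) * g⁻¹) (by
      rintro _ ⟨y, hy, rfl⟩
      have h1 : (⟨g⁻¹ * y * g⁻¹⁻¹, hOg ⟨y, hy, rfl⟩⟩ : C) ∈ (P' : Subgroup C) :=
        hP' (mem_subgroupOf.2 ⟨y, hy, rfl⟩)
      have h2 : c * (⟨g⁻¹ * y * g⁻¹⁻¹, hOg ⟨y, hy, rfl⟩⟩ : C) * c⁻¹ ∈
          ((c • P' : Sylow p C) : Subgroup C) := ⟨_, h1, rfl⟩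
      rw [hc] at h2
      exact ⟨_, h2, by simp [mul_assoc]⟩)
  have hn : (c : H) * g⁻¹ ∈ MD := h.normalizer_core_le (mem_normalizer_iff.2 fun y =>
    ⟨fun hy => he.le ⟨y, hy, rfl⟩, fun hy => by
      have := mem_cj.1 (he.ge hy); simpa [mul_assoc] using this⟩)
  obtain ⟨m, hm, d, hd, hmd⟩ := exists_mul_of_mem_sup ((le_normalizer_largestPReducedOf (p := p) M).trans
    (normalizer_le_normalizer_centralizer _)) hn
  refine ⟨m⁻¹, inv_mem hm, ?_⟩
  have hcx : (c : H) * x * (c : H)⁻¹ = x := mul_inv_eq_iff_eq_mul.2 (mem_centralizer_singleton_iff.1 c.2)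
  have hd' : d⁻¹ * (m⁻¹ * x * m⁻¹⁻¹) * d = g * x * g⁻¹ := by
    have : g = d⁻¹ * m⁻¹ * c := by
      rw [← mul_inv_rev, ← hmd]; simp
    rw [this]
    calc d⁻¹ * (m⁻¹ * x * m⁻¹⁻¹) * d = d⁻¹ * m⁻¹ * x * m * d := by simp [mul_assoc]
      _ = d⁻¹ * m⁻¹ * ((c : H) * x * (c : H)⁻¹) * m * d := by rw [hcx]
      _ = _ := by simp [mul_assoc]
  have hmem : m⁻¹ * x * m⁻¹⁻¹ ∈ YM :=
    (mem_normalizer_iff.1 (le_normalizer_largestPReducedOf M (inv_mem hm)) x).1 hx
  rw [← hd', mul_assoc d⁻¹, mem_centralizer_iff.1 hd _ hmem, inv_mul_cancel_left]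

end CfsgLib.FrakM
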