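import Cfsg.Agent.CharP.FrakH
import Cfsg.Agent.S1265

/-!
`Y_M ≤ Y_X` for subgroups `X` of characteristic `p` over the preimage of `F*(M†/C(Y_M))`.
-/

set_option autoImplicit false
set_option linter.style.haveILetI false
set_option linter.unusedSectionVars false

namespace CfsgLib.FrakM

open Subgroup CfsgLib CfsgLib.CharP
open scoped commutatorElement

variable {H : Type*} [Group H] [Finite H] {p : ℕ} [hp : Fact p.Prime] {T : Sylow p H} {M : Subgroup H}

local notation "YM" => Cfsg.largestPReducedOf p M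
local notation "CM" => centralizer (Cfsg.largestPReducedOf p M : Set H)
local notation "OM" => Cfsg.pCoreOf p M
local notation "MD" => M ⊔ centralizer (Cfsg.largestPReducedOf p M : Set H)

/-- Subgroups normalized by `M†` that are `p`-groups modulo `C(Y_M)` lie in it. -/
theorem Ctx.le_centralizer_of_pow (h : Ctx T M) {N : Subgroup H} (hN : N ≤ MD)
    (hn : MD ≤ normalizer (N : Set H)) (hq : ∀ x ∈ N, ∃ k : ℕ, x ^ p ^ k ∈ CM) : N ≤ CM := by
  intro x hx
  have hY := h.frak.2.2.2.1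
  rw [hY] at hq ⊢
  refine (mem_centralizer_of_subtype (x := (⟨x, hN hx⟩ : (MD : Subgroup H)))).1 ?_
  refine IsPReducedNormal.le_centralizer largestPReduced_spec.1 (N.subgroupOf MD)
    (normal_subgroupOf_of_le_normalizer hn) (fun y hy => ?_) (mem_subgroupOf.2 hx)
  obtain ⟨k, hk⟩ := hq _ hy
  exact ⟨k, mem_centralizer_of_subtype.2 hk⟩

/-- The subgroups `X` with `F*` preimage `F` inside them. -/
theorem Ctx.largest_le_of_control (h : Ctx T M) {F X : Subgroup H} (hCF : CM ≤ F)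
    (hFD : F ≤ MD) (hF : ∀ N : Subgroup H, N ≤ MD → F ≤ normalizer (N : Set H) →
      (∀ x ∈ N, ∃ k : ℕ, x ^ p ^ k ∈ CM) → N ≤ CM)
    (hFX : F ≤ X) (hXc : Inner p X) : YM ≤ Cfsg.largestPReducedOf p X := by
  set OX := Cfsg.pCoreOf p X with hOXdef
  have hOCX : OM ≤ CM := pCoreOf_le_centralizer M
  have hOX : OM ≤ X := hOCX.trans (hCF.trans hFX)
  have hYX : YM ≤ X := (largestPReducedOf_le_pCoreOf M).trans hOX
  -- `p`-groups inside `C` over `O_p(M)`
  have hgroup : ∀ P : Subgroup H, IsPGroup p P → OM ≤ P → P ⊓ MD ≤ CM → P = OM := by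
    intro P hP hOP hle
    refine (eq_of_normalizer_inf_le hP hOP ?_).symm
    have he := h.eq_of_le_pGroup (hP.to_le (inf_le_left : P ⊓ normalizer (OM : Set H) ≤ P))
      (le_inf hOP le_normalizer)
      ((le_inf inf_le_left (inf_le_right.trans h.normalizer_core_le)).trans hle)
    exact he.le
  have hCpow : ∀ N : Subgroup H, IsPGroup p N → ∀ x ∈ N, ∃ k : ℕ, x ^ p ^ k ∈ CM := fun N hN x hx => by
    obtain ⟨k, hk⟩ := exists_pow_eq_one_of_mem hN hx
    exact ⟨k, hk ▸ one_mem _⟩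
  have hDn : MD ≤ normalizer (CM : Set H) := h.dagger_le_normalizer_centralizer
  have hinf : ∀ A : Subgroup H, X ≤ normalizer (A : Set H) →
      F ≤ normalizer ((A ⊓ MD : Subgroup H) : Set H) := fun A hA f hf => mem_normalizer_iff.2 fun x => by
    rw [Subgroup.mem_inf, Subgroup.mem_inf]
    exact and_congr (mem_normalizer_iff.1 (hA (hFX hf)) x) (conj_mem_iff (hFD hf)).symm
  -- `O_p(X) ≤ O_p(M)`
  have hOXM : OX ≤ OM := by
    have hn : OM ≤ normalizer (OX : Set H) := hOX.trans (le_normalizer_pCoreOf X)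
    have hp' : IsPGroup p ↥(OM ⊔ OX) := by
      obtain ⟨i, hi⟩ := IsPGroup.iff_card.1 (isPGroup_pCoreOf (p := p) M)
      obtain ⟨j, hj⟩ := IsPGroup.iff_card.1 (isPGroup_pCoreOf (p := p) X)
      have h1 := Solvable.card_sup_dvd hn
      rw [hi, hj, ← pow_add] at h1
      obtain ⟨k, -, hk⟩ := (Nat.dvd_prime_pow hp.out).1 h1
      exact IsPGroup.of_card hk
    have h0 : OX ⊓ MD ≤ CM := hF _ inf_le_right (hinf _ (le_normalizer_pCoreOf X))
      (hCpow _ ((isPGroup_pCoreOf X).to_le inf_le_left))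
    refine le_sup_right.trans (hgroup _ hp' le_sup_left ?_).le
    rintro x ⟨hx, hxD⟩
    rw [sup_comm] at hx
    obtain ⟨a, ha, b, hb, rfl⟩ := exists_mul_of_mem_sup (L := OM) (C := OX) hn (by rwa [sup_comm])
    refine mul_mem (hOCX ha) (h0 ⟨hb, ?_⟩)
    have := mul_mem (inv_mem (mem_sup_left (LocalB.opIn_le M ha) : a ∈ MD)) hxD
    rwa [inv_mul_cancel_left] at this
  have hYc : YM ≤ centralizer (OX : Set H) := fun y hy => mem_centralizer_iff.2 fun o ho =>
    (mem_centralizer_iff.1 (hOCX (hOXM ho)) y hy).symm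
  have hYO : YM ≤ OX := fun y hy => hXc ⟨hYX hy, hYc hy⟩
  -- the normal closure of `Y`
  set W := normalClosure (((YM).subgroupOf X : Subgroup ↥X) : Set ↥X) with hW
  set Z : Subgroup ↥X := Cfsg.omegaOne p (Cfsg.pCore p ↥X ⊓ centralizer (Cfsg.pCore p ↥X : Set ↥X)) with hZ
  have hpow : ∀ y ∈ YM, y ^ p = 1 := by
    rintro _ ⟨a, ha, rfl⟩
    exact congrArg Subtype.val ((largestPReduced_spec (L := M) (p := p)).1.2.1.2 a ha)
  have hZe : Cfsg.IsElementaryAbelian p Z := Thompson.elab_omegaOne fun a ha b hb =>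
    mem_centralizer_iff.1 hb.2 a ha.1
  haveI := Solvable.pCore_normal p (G := ↥X)
  haveI : (Cfsg.pCore p ↥X ⊓ centralizer (Cfsg.pCore p ↥X : Set ↥X)).Normal := Subgroup.normal_inf_normal _ _
  haveI : Z.Normal := ⟨fun x hx g => by
    have h1 := mem_map_of_mem (MulAut.conj g).toMonoidHom hx
    rw [hZ, Thompson.map_omegaOne _ (MulAut.conj g).injective] at h1
    refine Thompson.omegaOne_mono ?_ h1
    rintro _ ⟨z, hz, rfl⟩
    exact Normal.conj_mem inferInstance z hz g⟩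
  have hWZ : W ≤ Z := normalClosure_le_normal fun y hy => by
    obtain ⟨w, hw, hwe⟩ := hYO hy
    refine Thompson.mem_omegaOne ⟨Subtype.ext hwe ▸ hw, mem_centralizer_of_subtype.2 (hYc hy)⟩
      (Subtype.ext ?_)
    exact hpow _ hy
  have hred : Cfsg.IsPReducedNormal p W := by
    refine isPReducedNormal_of normalClosure_normal (isElementaryAbelian_mono hWZ hZe) fun N hN hq => ?_
    haveI := hN
    refine le_centralizer_iff.1 (normalClosure_le_normal (le_centralizer_iff.1 ?_))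
    obtain ⟨T₁, hT₁⟩ := ((isPGroup_pCoreOf M).of_equiv (subgroupOfEquivOfLe hOX).symm).exists_le_sylow
    haveI : (centralizer (W : Set ↥X)).Normal := inferInstance
    have hWY : centralizer (W : Set ↥X) ≤ centralizer (((YM).subgroupOf X : Subgroup ↥X) : Set ↥X) :=
      centralizer_le subset_normalClosure
    refine (le_sup_sylow_of_pow hq T₁).trans (sup_le hWY ?_)
    set N₀ := N ⊔ centralizer (W : Set ↥X) with hN₀
    haveI : N₀.Normal := sup_normal _ _
    set P₀ := (T₁ : Subgroup ↥X) ⊓ N₀ with hP₀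
    have hCM : ∀ y : ↥X, y ∈ centralizer (W : Set ↥X) → (y : H) ∈ CM := fun y hy => by
      refine mem_centralizer_iff.2 fun z hz => ?_
      exact congrArg Subtype.val (mem_centralizer_iff.1 (hWY hy) ⟨z, hYX hz⟩ hz)
    -- `N₀ ∩ M† ≤ C`
    set N₁ := N₀.map X.subtype ⊓ MD with hN₁
    have hN₁C : N₁ ≤ CM := by
      refine hF _ inf_le_right (hinf _ ?_) ?_
      · intro g hg
        refine mem_normalizer_of_map_le ?_
        rintro _ ⟨_, ⟨v, hv, rfl⟩, rfl⟩
        exact ⟨⟨g, hg⟩ * v * ⟨g, hg⟩⁻¹, Normal.conj_mem inferInstance v hv _, rfl⟩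
      · rintro _ ⟨⟨v, hv, rfl⟩, -⟩
        obtain ⟨a, ha, c, hc, rfl⟩ := mem_sup_of_normal_right.1 hv
        obtain ⟨k, hk⟩ := hq a ha
        refine ⟨k, hCM ((a * c) ^ p ^ k) ?_⟩
        rw [← QuotientGroup.eq_one_iff, QuotientGroup.mk_pow, QuotientGroup.mk_mul,
          (QuotientGroup.eq_one_iff c).2 hc, mul_one, ← QuotientGroup.mk_pow]
        exact (QuotientGroup.eq_one_iff _).2 hk
    have hTn : OM ≤ normalizer ((P₀.map X.subtype : Subgroup H) : Set H) := fun o ho => by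
      refine mem_normalizer_of_map_le ?_
      rintro _ ⟨_, ⟨v, hv, rfl⟩, rfl⟩
      have hoT : (⟨o, hOX ho⟩ : ↥X) ∈ (T₁ : Subgroup ↥X) := hT₁ (mem_subgroupOf.2 ho)
      exact ⟨⟨o, hOX ho⟩ * v * ⟨o, hOX ho⟩⁻¹,
        ⟨Subgroup.mul_mem _ (Subgroup.mul_mem _ hoT hv.1) (Subgroup.inv_mem _ hoT), Normal.conj_mem inferInstance v hv.2 _⟩, rfl⟩
    have hPp : IsPGroup p ↥(OM ⊔ P₀.map X.subtype) := by
      refine (T₁.2.map X.subtype).to_le (sup_le ?_ (map_mono inf_le_left))
      exact fun o ho => ⟨⟨o, hOX ho⟩, hT₁ (mem_subgroupOf.2 ho), rfl⟩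
    have hle : P₀.map X.subtype ≤ OM := by
      refine le_sup_right.trans (hgroup _ hPp le_sup_left ?_).le
      rintro x ⟨hx, hxD⟩
      obtain ⟨a, ha, b, hb, rfl⟩ := exists_mul_of_mem_sup (L := OM) (C := P₀.map X.subtype) hTn hx
      refine mul_mem (hOCX ha) (hN₁C ⟨map_mono inf_le_right hb, ?_⟩)
      have := mul_mem (inv_mem (mem_sup_left (LocalB.opIn_le M ha) : a ∈ MD)) hxD
      rwa [inv_mul_cancel_left] at this
    intro t ht
    exact mem_centralizer_iff.2 fun z hz => Subtype.ext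
      (mem_centralizer_iff.1 (hOCX (hle ⟨t, ht, rfl⟩)) z hz)
  intro y hy
  exact ⟨⟨y, hYX hy⟩, le_largestPReduced hred (subset_normalClosure hy), rfl⟩

/-- The preimage of `F*(M†/C)` controls `p`-subgroups modulo `C`. -/
theorem Ctx.fstar_control (h : Ctx T M) [((CM).subgroupOf MD).Normal] (F : Subgroup H)
    (hF : F = ((Cfsg.generalizedFittingSubgroup (↥(MD : Subgroup H) ⧸ (CM).subgroupOf MD)).comap
      (QuotientGroup.mk' ((CM).subgroupOf MD))).map (MD : Subgroup H).subtype) :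
    CM ≤ F ∧ F ≤ MD ∧ ∀ N : Subgroup H, N ≤ MD → F ≤ normalizer (N : Set H) →
      (∀ x ∈ N, ∃ k : ℕ, x ^ p ^ k ∈ CM) → N ≤ CM := by
  set π := QuotientGroup.mk' ((CM).subgroupOf MD) with hπ
  set Fs := Cfsg.generalizedFittingSubgroup (↥(MD : Subgroup H) ⧸ (CM).subgroupOf MD) with hFs
  subst hF
  refine ⟨fun c hc => ⟨⟨c, mem_sup_right hc⟩, ?_, rfl⟩, map_subtype_le _, fun N hND hFN hq => ?_⟩
  · show π _ ∈ Fs
    rw [show π ⟨c, mem_sup_right hc⟩ = 1 from (QuotientGroup.eq_one_iff _).2 (mem_subgroupOf.2 hc)]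
    exact one_mem _
  haveI : Fs.Normal := by
    rw [hFs, Cfsg.generalizedFittingSubgroup]
    infer_instance
  have hO : Cfsg.pCore p (↥(MD : Subgroup H) ⧸ (CM).subgroupOf MD) = ⊥ := by
    haveI := Solvable.pCore_normal p (G := ↥(MD : Subgroup H) ⧸ (CM).subgroupOf MD)
    set A := ((Cfsg.pCore p (↥(MD : Subgroup H) ⧸ (CM).subgroupOf MD)).comap π).map (MD : Subgroup H).subtype
    have hA : A ≤ CM := by
      refine h.le_centralizer_of_pow (map_subtype_le _) (fun g hg => ?_) ?_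
      · refine mem_normalizer_of_map_le ?_
        rintro _ ⟨_, ⟨v, hv, rfl⟩, rfl⟩
        exact ⟨⟨g, hg⟩ * v * ⟨g, hg⟩⁻¹, (Normal.comap inferInstance π).conj_mem v hv _, rfl⟩
      · rintro _ ⟨v, hv, rfl⟩
        obtain ⟨k, hk⟩ := exists_pow_eq_one_of_mem (Solvable.isPGroup_pCore p) (mem_comap.1 hv)
        rw [← map_pow] at hk
        exact ⟨k, mem_subgroupOf.1 ((QuotientGroup.eq_one_iff _).1 hk)⟩
    rw [eq_bot_iff]
    intro q hq
    obtain ⟨v, rfl⟩ := QuotientGroup.mk'_surjective _ q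
    exact mem_bot.2 ((QuotientGroup.eq_one_iff _).2 (mem_subgroupOf.2 (hA ⟨v, hq, rfl⟩)))
  set Nb := (N.subgroupOf MD).map π with hNb
  have hNp : IsPGroup p Nb := by
    rintro ⟨_, v, hv, rfl⟩
    obtain ⟨k, hk⟩ := hq _ hv
    exact ⟨k, Subtype.ext ((map_pow π v _).symm.trans ((QuotientGroup.eq_one_iff _).2 (mem_subgroupOf.2 hk)))⟩
  have hFb : Fs ≤ normalizer (Nb : Set _) := by
    intro f hf
    obtain ⟨v, rfl⟩ := QuotientGroup.mk'_surjective _ f
    have hvN := hFN ⟨v, hf, rfl⟩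
    rw [← Subgroup.mem_comap]
    refine comap_mono (le_normalizer_map π) ?_
    refine ⟨v, mem_normalizer_iff.2 fun x => ?_, rfl⟩
    exact mem_normalizer_iff.1 hvN (x : H)
  have hinter : Nb ⊓ Fs = ⊥ := by
    set B := (Nb ⊓ Fs).subgroupOf Fs with hB
    haveI : B.Normal := normal_subgroupOf_of_le_normalizer fun f hf => mem_normalizer_iff.2 fun x => by
      rw [Subgroup.mem_inf, Subgroup.mem_inf]
      exact and_congr (mem_normalizer_iff.1 (hFb hf) x) (conj_mem_iff hf).symm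
    have h1 : B ≤ Cfsg.pCore p ↥Fs := Solvable.le_pCore p inferInstance
      ((hNp.to_le inf_le_left).of_equiv (subgroupOfEquivOfLe inf_le_right).symm)
    have h2 := map_mono (f := Fs.subtype) h1
    rw [hB, map_subgroupOf_eq_of_le inf_le_right, pCore_inf_normal, hO, bot_inf_eq] at h2
    exact le_bot_iff.1 h2
  have hbot : Nb = ⊥ := by
    have hc : ⁅Nb, Fs⁆ = ⊥ := le_bot_iff.1 (hinter ▸ le_inf (le_normalizer_iff_commutator_le_left.1 hFb)
      (commutator_le_right Nb Fs))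
    have hle : Nb ≤ Fs := (commutator_eq_bot_iff_le_centralizer.1 hc).trans
      (Cfsg.Agent.S1265.result)
    rw [← hinter, inf_eq_left.2 hle]
  intro x hx
  have : π ⟨x, hND hx⟩ = 1 := mem_bot.1 (hbot ▸ ⟨⟨x, hND hx⟩, hx, rfl⟩)
  exact mem_subgroupOf.1 ((QuotientGroup.eq_one_iff _).1 this)

end CfsgLib.FrakM
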