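import Cfsg.Agent.CharP.PReducedSubnormal
import Cfsg.Agent.Solvable.PGroupBasic

/-!
A group acting on a `p`-group `P`, trivially on `P'` and with elementary abelian `[P, Y]`.
-/

set_option autoImplicit false
set_option linter.style.haveILetI false

namespace CfsgLib.CharP

open Subgroup Cfsg
open scoped commutatorElement

variable {G : Type*} [Group G] [Finite G] {p : ℕ} [Fact p.Prime]

theorem pResidual_centralizes_frattini (P : Subgroup G) (hP : IsPGroup p P) (H : Subgroup G)
    (hH : H ≤ normalizer (P : Set G)) (Y : Subgroup G) (hYH : Y ≤ H)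
    (hYc : Y ≤ centralizer ((⁅P, P⁆ : Subgroup G) : Set G))
    (hel : IsElementaryAbelian p ⁅P, Y⁆) :
    (pResidual p ↥((normalClosure ((Y.subgroupOf H : Subgroup ↥H) : Set ↥H)).map H.subtype)).map
        ((normalClosure ((Y.subgroupOf H : Subgroup ↥H) : Set ↥H)).map H.subtype).subtype ≤
      centralizer (((frattini ↥P).map P.subtype : Subgroup G) : Set G) := by
  set D := ⁅P, P⁆ with hD
  set Φ := (frattini ↥P).map P.subtype with hΦ
  have hnD : ∀ g ∈ normalizer (P : Set G), ∀ d ∈ D, g * d * g⁻¹ ∈ D := by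
    intro g hg
    have hle : D.map (MulAut.conj g).toMonoidHom ≤ D := by
      have h1 : P.map (MulAut.conj g).toMonoidHom ≤ P := by
        rintro _ ⟨x, hx, rfl⟩; exact (mem_normalizer_iff.1 hg x).1 hx
      rw [hD, Subgroup.map_commutator]; exact commutator_mono h1 h1
    exact fun d hd => hle (mem_map_of_mem _ hd)
  have hnΦ : ∀ g ∈ normalizer (P : Set G), ∀ f ∈ Φ, g * f * g⁻¹ ∈ Φ := by
    rintro g hg _ ⟨f, hf, rfl⟩
    exact ⟨P.normalizerMonoidHom ⟨g, hg⟩ f,
      characteristic_iff_le_comap.1 frattini_characteristic _ hf, rfl⟩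
  have hDΦ : D ≤ Φ := by
    rw [hD, hΦ, ← map_subtype_commutator]
    exact map_mono (PGroupBasic.commutator_pow_le_frattini hP).1
  let K : Subgroup H :=
    { carrier := {n | (n : G) ∈ centralizer (D : Set G) ∧
        ∀ f ∈ Φ, (n : G) * f * (n : G)⁻¹ * f⁻¹ ∈ D}
      one_mem' := ⟨one_mem _, fun f _ => by simp⟩
      mul_mem' := fun {a b} ha hb => ⟨mul_mem ha.1 hb.1, fun f hf => by
        have h1 := mul_mem (hnD a (hH a.2) _ (hb.2 f hf)) (ha.2 f hf)
        simpa [mul_assoc] using h1⟩
      inv_mem' := fun {a} ha => ⟨inv_mem ha.1, fun f hf => by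
        have h1 := hnD (a : G)⁻¹ (inv_mem (hH a.2)) _ (inv_mem (ha.2 f hf))
        simpa [mul_assoc] using h1⟩ }
  haveI hKn : K.Normal := by
    refine ⟨fun n hn g => ⟨mem_centralizer_iff.2 fun d hd => ?_, fun f hf => ?_⟩⟩
    · have h1 : (g : G)⁻¹ * d * g ∈ D := by
        simpa using hnD (g : G)⁻¹ (inv_mem (hH g.2)) d hd
      have h2 := mem_centralizer_iff.1 hn.1 _ h1
      show d * ((g : G) * n * (g : G)⁻¹) = (g : G) * n * (g : G)⁻¹ * d
      calc d * ((g : G) * n * (g : G)⁻¹) = g * (((g : G)⁻¹ * d * g) * n) * (g : G)⁻¹ := by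
            simp [mul_assoc]
        _ = (g : G) * n * (g : G)⁻¹ * d := by rw [h2]; simp [mul_assoc]
    · have h1 : (g : G)⁻¹ * f * g ∈ Φ := by simpa using hnΦ (g : G)⁻¹ (inv_mem (hH g.2)) f hf
      simpa [mul_assoc] using hnD g (hH g.2) _ (hn.2 _ h1)
  have hYK : Y.subgroupOf H ≤ K := by
    intro y hy
    refine ⟨hYc hy, fun f hf => ?_⟩
    obtain ⟨f, hf, rfl⟩ := hf
    have hyP : (y : G) ∈ normalizer (P : Set G) := hH y.2
    let B : Subgroup P :=
      { carrier := {x | (y : G) * x * (y : G)⁻¹ * (x : G)⁻¹ ∈ D}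
        one_mem' := by simp
        mul_mem' := fun {a b} ha hb => by
          have h := mul_mem ha (hnD a (le_normalizer a.2) _ hb)
          show (y : G) * ((a : G) * b) * (y : G)⁻¹ * ((a : G) * b)⁻¹ ∈ D
          simpa [mul_assoc] using h
        inv_mem' := fun {a} ha => by
          have h := hnD (a : G)⁻¹ (inv_mem (le_normalizer a.2)) _ (inv_mem ha)
          show (y : G) * (a : G)⁻¹ * (y : G)⁻¹ * (a : G)⁻¹⁻¹ ∈ D
          simpa [mul_assoc] using h }
    have hDB : commutator P ≤ B := by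
      intro x hx
      have hxD : (x : G) ∈ D := by
        have := mem_map_of_mem P.subtype hx
        rwa [map_subtype_commutator] at this
      exact mul_mem (hnD y hyP _ hxD) (inv_mem hxD)
    haveI : B.Normal := ⟨fun b hb g => by
      have h := mul_mem (hDB (commutator_mem_commutator (mem_top g) (mem_top b))) hb
      simpa [commutatorElement_def, mul_assoc] using h⟩
    refine (PGroupBasic.frattini_le_of_elementary (p := p) B hDB fun x => ?_) hf
    set c : G := (y : G) * x * (y : G)⁻¹ * (x : G)⁻¹ with hc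
    have hcP : c ∈ P := mul_mem ((mem_normalizer_iff.1 hyP _).1 x.2) (inv_mem x.2)
    have hcPY : c ∈ ⁅P, Y⁆ := by
      rw [commutator_comm]; exact commutator_mem_commutator hy x.2
    set π := QuotientGroup.mk' (commutator P)
    have hcomm : Commute (π ⟨c, hcP⟩) (π x) := by
      rw [← commutatorElement_eq_one_iff_commute, ← map_commutatorElement]
      exact (QuotientGroup.eq_one_iff _).2
        (commutator_mem_commutator (mem_top _) (mem_top _))
    have h1 : π ((⟨c, hcP⟩ * x) ^ p * (x ^ p)⁻¹) = 1 := by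
      rw [map_mul, map_inv, map_pow, map_pow, map_mul, hcomm.mul_pow, mul_assoc, mul_inv_cancel,
        mul_one, ← map_pow]
      refine (QuotientGroup.eq_one_iff _).2 ?_
      rw [show (⟨c, hcP⟩ : P) ^ p = 1 from Subtype.ext (hel.2 c hcPY)]
      exact one_mem _
    have h2 := mem_map_of_mem P.subtype ((QuotientGroup.eq_one_iff _).1 h1)
    rw [map_subtype_commutator] at h2
    have h3 : ((⟨c, hcP⟩ * x : P) : G) = (y : G) * x * (y : G)⁻¹ := by simp [hc]
    rw [Subgroup.coe_subtype, Subgroup.coe_mul, Subgroup.coe_inv, Subgroup.coe_pow,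
      Subgroup.coe_pow, h3, conj_pow] at h2
    exact h2
  have hN := map_mono (f := H.subtype) (normalClosure_le_normal hYK)
  rw [pResidual, MonoidHom.map_closure, closure_le]
  rintro _ ⟨⟨x, hx⟩, hxc, rfl⟩
  obtain ⟨n, hn, hnx⟩ := hN hx
  have hxD : x ∈ centralizer (D : Set G) := hnx ▸ hn.1
  have hxs : ∀ f ∈ Φ, x * f * x⁻¹ * f⁻¹ ∈ D := hnx ▸ hn.2
  exact centralizer_mem_of_commutator ((hP.to_le (map_subtype_le _))) hDΦ
    (by rwa [Set.mem_ofPred_eq, Subgroup.orderOf_mk] at hxc) hxD hxs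

end CfsgLib.CharP
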