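import Cfsg.Agent.Transfer.PResidual
import Cfsg.Agent.CharP.Kieler
import Cfsg.Agent.CharP.YMinimal
import Cfsg.Agent.Solvable.PGroupBasic
import Mathlib.GroupTheory.Transfer

/-!
Transfer of a central involution of a Sylow 2-subgroup.
-/

set_option autoImplicit false
set_option linter.style.haveILetI false

namespace CfsgLib.InvolutionTransfer

open Subgroup MulAction

variable {G : Type*} [Group G] [Finite G]

/-- The transfer of an involution is the product over its fixed cosets. -/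
theorem transfer_involution {H : Subgroup G} {A : Type*} [CommGroup A] (ϕ : H →* A) {z : G}
    (hz : z * z = 1) [DecidableEq (G ⧸ H)] [Fintype (G ⧸ H)] (f : G ⧸ H → A)
    (hf : ∀ (g : G) (h : g⁻¹ * z * g ∈ H), f (g : G ⧸ H) = ϕ ⟨g⁻¹ * z * g, h⟩) :
    MonoidHom.transfer ϕ z =
      ∏ q ∈ Finset.univ.filter (fun q : G ⧸ H => z • q = q), f q := by
  haveI : H.FiniteIndex := inferInstance
  let T : H.LeftTransversal := default
  rw [MonoidHom.transfer_def ϕ T, Subgroup.leftTransversals.diff]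
  have hzz : ∀ q : G ⧸ H, z • z • q = q := fun q => by rw [← mul_smul, hz, one_smul]
  have hinv : z⁻¹ = z := inv_eq_of_mul_eq_one_right hz
  set t : G ⧸ H → G := fun q => (T.2.leftQuotientEquiv q : G) with ht
  have htq : ∀ q, ((t q : G) : G ⧸ H) = q := fun q => T.2.quotientGroupMk_leftQuotientEquiv q
  have hsm : ∀ q, ((z • T).2.leftQuotientEquiv q : G) = z * t (z • q) := fun q => by
    rw [smul_apply_eq_smul_apply_inv_smul, hinv]; rfl
  have hmem : ∀ q, (t q)⁻¹ * (z * t (z • q)) ∈ H := fun q => QuotientGroup.eq.1 (by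
    rw [htq]
    show q = z • ((t (z • q) : G) : G ⧸ H)
    rw [htq, hzz])
  set F : G ⧸ H → A := fun q => ϕ ⟨(t q)⁻¹ * (z * t (z • q)), hmem q⟩ with hF
  trans ∏ q, F q
  · refine Finset.prod_congr (by ext; simp) fun q _ => ?_
    exact congrArg ϕ (Subtype.ext (congrArg (fun x => (t q)⁻¹ * x) (hsm q)))
  rw [← Finset.prod_filter_mul_prod_filter_not Finset.univ (fun q : G ⧸ H => z • q = q) F]
  have hmoved : ∏ q ∈ Finset.univ.filter (fun q : G ⧸ H => ¬ z • q = q), F q = 1 := by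
    refine Finset.prod_involution (fun q _ => z • q) (fun q _ => ?_) (fun q hq _ => ?_)
      (fun q hq => ?_) (fun q _ => hzz q)
    · rw [hF, ← map_mul, ← map_one ϕ]
      refine congrArg ϕ (Subtype.ext ?_)
      show (t q)⁻¹ * (z * t (z • q)) * ((t (z • q))⁻¹ * (z * t (z • z • q))) = 1
      rw [hzz]
      calc _ = (t q)⁻¹ * ((z * z) * t q) := by simp [mul_assoc]
        _ = 1 := by rw [hz, one_mul, inv_mul_cancel]
    · exact (Finset.mem_filter.1 hq).2
    · simp only [Finset.mem_filter, Finset.mem_univ, true_and] at hq ⊢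
      rw [hzz]; exact fun h => hq h.symm
  rw [hmoved, mul_one]
  refine Finset.prod_congr rfl fun q hq => ?_
  have hq' : z • q = q := (Finset.mem_filter.1 hq).2
  have h1 : (t q)⁻¹ * z * t q ∈ H := by
    have := hmem q
    rwa [hq', ← mul_assoc] at this
  rw [show f q = f ((t q : G) : G ⧸ H) by rw [htq], hf _ h1]
  exact congrArg ϕ (Subtype.ext ((congrArg (fun x => (t q)⁻¹ * (z * t x)) hq').trans
    (mul_assoc _ _ _).symm))

theorem cases_two : ∀ a b : Multiplicative (ZMod 2), b ≠ 1 → a = 1 ∨ a = b := by decide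

theorem sq_two : ∀ a : Multiplicative (ZMod 2), a ^ 2 = 1 := by decide

theorem omega_le_frattini_or (S : Sylow 2 G) :
    Cfsg.pResidual 2 G ≠ ⊤ ∨
      Cfsg.omegaOne 2 ((S : Subgroup G) ⊓ centralizer ((S : Subgroup G) : Set G)) ≤
        (frattini ↥(S : Subgroup G)).map (S : Subgroup G).subtype ∨
      ∃ g ∈ normalizer ((S : Subgroup G) : Set G),
        ∃ z ∈ Cfsg.omegaOne 2 ((S : Subgroup G) ⊓ centralizer ((S : Subgroup G) : Set G)),
          g * z * g⁻¹ ≠ z := by
  classical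
  haveI : Fact (Nat.Prime 2) := ⟨Nat.prime_two⟩
  haveI := Fintype.ofFinite (G ⧸ (S : Subgroup G))
  by_contra hcon
  push Not at hcon
  obtain ⟨hres, hΦ, hfix⟩ := hcon
  obtain ⟨z, hzΩ, hzΦ⟩ := SetLike.not_le_iff_exists.1 hΦ
  obtain ⟨hzS, hzC, hz2⟩ := Kieler.omegaZ_props hzΩ
  rw [pow_two] at hz2
  -- a character of `S` that is nontrivial at `z`
  obtain ⟨M, hM, hzM⟩ : ∃ M : Subgroup ↥(S : Subgroup G), IsCoatom M ∧ ⟨z, hzS⟩ ∉ M := by
    by_contra h
    push Not at h
    refine hzΦ ⟨⟨z, hzS⟩, ?_, rfl⟩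
    rw [frattini, Order.radical]
    exact mem_iInf.2 fun M => mem_iInf.2 fun hM => h M hM
  haveI := S.2.isNilpotent
  haveI hMn : M.Normal := Group.normalizerCondition_of_isNilpotent.normal_of_coatom M hM
  have hcard : Nat.card (↥(S : Subgroup G) ⧸ M) = 2 := by
    rw [← index_eq_card]
    exact (PGroupBasic.coatom_normal_index S.2 hM).2
  let e : (↥(S : Subgroup G) ⧸ M) ≃* Multiplicative (ZMod 2) :=
    mulEquivOfPrimeCardEq (p := 2) hcard (by simp)
  set ϕ : ↥(S : Subgroup G) →* Multiplicative (ZMod 2) := e.toMonoidHom.comp (QuotientGroup.mk' M)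
  set c := ϕ ⟨z, hzS⟩ with hc
  have hc1 : c ≠ 1 := fun h => hzM ((QuotientGroup.eq_one_iff _).1 (e.map_eq_one_iff.1 h))
  have htwo : ∀ a : Multiplicative (ZMod 2), a = 1 ∨ a = c := by
    exact fun a => cases_two a c hc1
  -- the value at a fixed coset
  set f : G ⧸ (S : Subgroup G) → Multiplicative (ZMod 2) := fun q =>
    if h : (q.out)⁻¹ * z * q.out ∈ (S : Subgroup G) then ϕ ⟨_, h⟩ else 1 with hfdef
  have hf : ∀ (g : G) (h : g⁻¹ * z * g ∈ (S : Subgroup G)),
      f (g : G ⧸ (S : Subgroup G)) = ϕ ⟨g⁻¹ * z * g, h⟩ := by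
    intro g h
    obtain ⟨s, hs⟩ := QuotientGroup.mk_out_eq_mul (S : Subgroup G) g
    have e1 : (g * s : G)⁻¹ * z * (g * s) = (s : G)⁻¹ * (g⁻¹ * z * g) * s := by simp [mul_assoc]
    have h' : ((g : G ⧸ (S : Subgroup G)).out)⁻¹ * z * (g : G ⧸ (S : Subgroup G)).out ∈
        (S : Subgroup G) := by
      rw [hs, e1]
      exact mul_mem (mul_mem (inv_mem s.2) h) s.2
    simp only [hfdef, dif_pos h']
    rw [show (⟨_, h'⟩ : ↥(S : Subgroup G)) = s⁻¹ * ⟨g⁻¹ * z * g, h⟩ * s from
      Subtype.ext ((congrArg (fun x : G => x⁻¹ * z * x) hs).trans e1), map_mul, map_mul,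
      map_inv, mul_right_comm, inv_mul_cancel, one_mul]
  have hτ : MonoidHom.transfer ϕ z = 1 := by
    have h1 : Cfsg.pResidual 2 G ≤ (MonoidHom.transfer ϕ).ker := by
      refine (closure_le _).2 fun g (hg : (orderOf g).Coprime 2) => ?_
      refine orderOf_eq_one_iff.1 (Nat.eq_one_of_dvd_coprimes hg (orderOf_map_dvd _ g) ?_)
      exact (_root_.orderOf_dvd_natCard _).trans (by simp)
    rw [hres] at h1
    exact h1 (mem_top z)
  rw [transfer_involution ϕ hz2 f hf] at hτ
  set A : Set (G ⧸ (S : Subgroup G)) := {q | z • q = q ∧ f q ≠ 1} with hA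
  have hfp : ∀ g : G, z • (g : G ⧸ (S : Subgroup G)) = g → g⁻¹ * z * g ∈ (S : Subgroup G) :=
    fun g h => by
      have := QuotientGroup.eq.1 (h.symm : ((g : G) : G ⧸ (S : Subgroup G)) = (z * g : G))
      change g⁻¹ * (z * g) ∈ _ at this
      rwa [← mul_assoc] at this
  have hprod : ∏ q ∈ Finset.univ.filter (fun q : G ⧸ (S : Subgroup G) => z • q = q), f q =
      c ^ Nat.card A := by
    rw [← Finset.prod_filter_ne_one, Finset.filter_filter,
      Finset.prod_congr rfl (fun q hq => (htwo (f q)).resolve_left (Finset.mem_filter.1 hq).2.2),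
      Finset.prod_const]
    congr 1
    rw [Nat.card_eq_card_toFinset]
    congr 1
    ext q
    simp [A]
  -- `S` acts on the set `A`
  have hinvA : ∀ s : ↥(S : Subgroup G), ∀ q ∈ A, (s : G) • q ∈ A := by
    rintro s q ⟨hq1, hq2⟩
    obtain ⟨g, rfl⟩ := QuotientGroup.mk_surjective q
    have hsz : z * (s : G) = s * z := (mem_centralizer_iff.1 hzC s s.2).symm
    refine ⟨by rw [← mul_smul, hsz, mul_smul, hq1], ?_⟩
    show f ((s * g : G) : G ⧸ (S : Subgroup G)) ≠ 1
    have hg := hfp g hq1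
    have e1 : ((s : G) * g)⁻¹ * z * (s * g) = g⁻¹ * z * g := by
      calc ((s : G) * g)⁻¹ * z * (s * g) = g⁻¹ * (s : G)⁻¹ * (z * s) * g := by simp [mul_assoc]
        _ = g⁻¹ * z * g := by rw [hsz]; simp [mul_assoc]
    rw [hf _ (e1.symm ▸ hg)]
    rw [hf g hg] at hq2
    convert hq2 using 3
  letI act : MulAction ↥(S : Subgroup G) A :=
    { smul := fun s q => ⟨(s : G) • (q : G ⧸ (S : Subgroup G)), hinvA s q q.2⟩
      one_smul := fun q => Subtype.ext (one_smul G _)
      mul_smul := fun s t q => Subtype.ext (mul_smul (s : G) (t : G) _) }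
  have hmod := S.2.card_modEq_card_fixedPoints A
  have hmod' := S.2.card_modEq_card_fixedPoints (G ⧸ (S : Subgroup G))
  have hAfix : ∀ q ∈ fixedPoints ↥(S : Subgroup G) (G ⧸ (S : Subgroup G)), q ∈ A := by
    intro q hq
    obtain ⟨g, rfl⟩ := QuotientGroup.mk_surjective q
    have hqz : z • (g : G ⧸ (S : Subgroup G)) = g := hq ⟨z, hzS⟩
    refine ⟨hqz, ?_⟩
    have hn : g⁻¹ ∈ normalizer ((S : Subgroup G) : Set G) := by
      refine YMinimal.mem_normalizer_of_conj_le ?_
      rintro _ ⟨s, hs, rfl⟩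
      have h2 : (s * g : G) • ((1 : G) : G ⧸ (S : Subgroup G)) = (g : G ⧸ (S : Subgroup G)) := by
        rw [mul_smul]
        show (s : G) • ((g * 1 : G) : G ⧸ (S : Subgroup G)) = _
        rw [mul_one]
        exact hq ⟨s, hs⟩
      have := QuotientGroup.eq.1 h2.symm
      simpa [mul_assoc] using this
    have h3 := hfix g⁻¹ hn z hzΩ
    rw [inv_inv] at h3
    rw [hf g (h3.symm ▸ hzS)]
    rwa [show (⟨g⁻¹ * z * g, _⟩ : ↥(S : Subgroup G)) = ⟨z, hzS⟩ from Subtype.ext h3]
  let efix : fixedPoints ↥(S : Subgroup G) A ≃ fixedPoints ↥(S : Subgroup G) (G ⧸ (S : Subgroup G)) :=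
    { toFun := fun q => ⟨q.1.1, fun s => congrArg Subtype.val (q.2 s)⟩
      invFun := fun q => ⟨⟨q.1, hAfix q.1 q.2⟩, fun s => Subtype.ext (q.2 s)⟩
      left_inv := fun _ => rfl
      right_inv := fun _ => rfl }
  rw [Nat.card_congr efix] at hmod
  have hodd : Nat.card A % 2 = 1 := by
    have h := hmod.trans hmod'.symm
    rw [← index_eq_card, Nat.ModEq] at h
    rw [h]
    exact Nat.two_dvd_ne_zero.1 S.not_dvd_index
  rw [hprod, ← Nat.div_add_mod (Nat.card A) 2, hodd, pow_succ, pow_mul,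
    show c ^ 2 = 1 from sq_two c, one_pow, one_mul] at hτ
  exact hc1 hτ

end CfsgLib.InvolutionTransfer
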