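import Cfsg.Agent.CharP.PIrreducible
import Cfsg.Agent.CharP.Subnormal
import Cfsg.Agent.CharP.FStarAction
import Cfsg.Agent.CharP.FStarCentralizer
import Cfsg.Agent.Comp.ExtTwoLayer

/-!
A transitive family of subgroups, each normal in the join, covering `O^p(G)`.
-/

set_option autoImplicit false
set_option linter.style.haveILetI false
set_option linter.unusedSectionVars false

namespace CfsgLib.IrrFam

open Subgroup
open scoped commutatorElement

variable {G : Type*} [Group G] [Finite G] {p : ℕ} [Fact p.Prime]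

/-- The hypotheses on the family. -/
structure Fam (p : ℕ) (F : Set (Subgroup G)) : Prop where
  ne : F.Nonempty
  inv : ∀ h : G, ∀ P ∈ F, P.map (MulAut.conj h).toMonoidHom ∈ F
  tr : ∀ P ∈ F, ∀ K ∈ F, ∃ h : G, K = P.map (MulAut.conj h).toMonoidHom
  res : Cfsg.pResidual p G ≤ sSup F
  norm : ∀ P ∈ F, sSup F ≤ normalizer (P : Set G)

variable {F : Set (Subgroup G)}

theorem Fam.sSup_normal (hF : Fam p F) : (sSup F).Normal := by
  refine ⟨fun x hx g => ?_⟩
  have h : (sSup F).map (MulAut.conj g).toMonoidHom ≤ sSup F := by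
    rw [map_le_iff_le_comap]
    exact sSup_le fun P hP => map_le_iff_le_comap.1 (le_sSup (hF.inv g P hP))
  exact h ⟨x, hx, rfl⟩

theorem Fam.subnormal (hF : Fam p F) {P : Subgroup G} (hP : P ∈ F) : P.IsSubnormal := by
  haveI := hF.sSup_normal
  have hn : (P.subgroupOf (sSup F)).Normal := normal_subgroupOf_of_le_normalizer (hF.norm P hP)
  have := Comp.isSubnormal_map_subtype (Normal.isSubnormal (H := sSup F) inferInstance) hn
  rwa [map_subgroupOf_eq_of_le (le_sSup hP)] at this

/-- A member inside an overgroup of a Sylow subgroup forces the whole group. -/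
theorem Fam.eq_top_of_le (hF : Fam p F) (T : Sylow p G) {X : Subgroup G}
    (hT : (T : Subgroup G) ≤ X) {P : Subgroup G} (hP : P ∈ F) (hPX : P ≤ X) : X = ⊤ := by
  haveI := hF.sSup_normal
  have hall : ∀ K ∈ F, K ≤ X := by
    intro K hK
    obtain ⟨h, rfl⟩ := hF.tr P hP K hK
    have hh : h ∈ (T : Subgroup G) ⊔ sSup F := by
      have := (sup_le_sup_right hF.res (T : Subgroup G)).trans' (CharP.pResidual_sup_sylow T).ge
      rw [sup_comm]
      exact this (mem_top h)
    obtain ⟨t, ht, r, hr, rfl⟩ := mem_sup_of_normal_right.1 hh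
    rintro _ ⟨x, hx, rfl⟩
    have h1 : r * x * r⁻¹ ∈ X := hPX ((mem_normalizer_iff.1 (hF.norm P hP hr) x).1 hx)
    have h2 := mul_mem (mul_mem (hT ht) h1) (inv_mem (hT ht))
    simpa [mul_assoc] using h2
  exact top_le_iff.1 ((CharP.pResidual_sup_sylow T).ge.trans
    (sup_le (hF.res.trans (sSup_le hall)) hT))

/-- Each member having a unique maximal subgroup over its Sylow part gives the same for `G`. -/
theorem Fam.minimal (hF : Fam p F) (T : Sylow p G)
    (hcl : ∀ P ∈ F, ∀ N : Subgroup G, (T : Subgroup G) ⊓ P ≤ N → N ≤ P →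
      P ≤ normalizer (N : Set G) → P ≤ N)
    (hmx : ∀ P ∈ F, ∃ m : Subgroup G, m ≤ P ∧ ¬ P ≤ m ∧ (T : Subgroup G) ⊓ P ≤ m ∧
      ∀ Y : Subgroup G, (T : Subgroup G) ⊓ P ≤ Y → Y ≤ P → ¬ P ≤ Y → Y ≤ m) :
    Cfsg.IsMinimalOver (T : Subgroup G) := by
  classical
  refine ⟨?_, ?_⟩
  · set N := normalClosure ((T : Subgroup G) : Set G) with hN
    have hTN : (T : Subgroup G) ≤ N := subset_normalClosure
    obtain ⟨P, hP⟩ := hF.ne
    refine hF.eq_top_of_le T hTN hP ((hcl P hP (N ⊓ P)
      (inf_le_inf_right _ hTN) inf_le_right ?_).trans inf_le_left)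
    intro g hg
    rw [mem_normalizer_iff]
    intro x
    have h1 : g ∈ normalizer (N : Set G) := by rw [normalizer_eq_top]; exact mem_top g
    simp only [mem_inf, mem_normalizer_iff.1 h1 x, mem_normalizer_iff.1 (le_normalizer hg) x]
  choose m hm1 hm2 hm3 hm4 using hmx
  have hmsymm : ∀ P Q (hP : P ∈ F) (hQ : Q ∈ F), P = Q → m P hP = m Q hQ := by
    rintro P Q hP hQ rfl; rfl
  set St : Submonoid G :=
    { carrier := {h | ∀ P, ∀ hP : P ∈ F,
        (m P hP).map (MulAut.conj h).toMonoidHom = m _ (hF.inv h P hP)}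
      one_mem' := fun P hP => by
        have h1 : P.map (MulAut.conj (1 : G)).toMonoidHom = P := by ext; simp
        rw [hmsymm _ _ (hF.inv 1 P hP) hP h1]
        ext; simp
      mul_mem' := fun {a b} ha hb P hP => by
        have h1 : ∀ A : Subgroup G, A.map (MulAut.conj (a * b)).toMonoidHom =
            (A.map (MulAut.conj b).toMonoidHom).map (MulAut.conj a).toMonoidHom := fun A => by
          rw [Subgroup.map_map]
          exact congrArg (fun f => A.map f) (MonoidHom.ext fun y => by simp [mul_assoc])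
        rw [h1, hb P hP, ha _ (hF.inv b P hP)]
        exact hmsymm _ _ _ _ (h1 P).symm } with hSt
  let M : Subgroup G :=
    { St with
      inv_mem' := fun {x} hx => by
        have h : x⁻¹ = x ^ (orderOf x - 1) :=
          inv_eq_of_mul_eq_one_right (by
            rw [← pow_succ', Nat.sub_add_cancel (orderOf_pos x), pow_orderOf_eq_one])
        rw [h]
        exact St.pow_mem hx _ }
  have key : ∀ X : Subgroup G, (T : Subgroup G) ≤ X → (∀ P ∈ F, ¬ P ≤ X) → X ≤ M := by
    intro X hTX hX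
    have hle : ∀ x ∈ X, ∀ P (hP : P ∈ F),
        (m P hP).map (MulAut.conj x).toMonoidHom ≤ m _ (hF.inv x P hP) := by
      intro x hx P hP
      set P' := P.map (MulAut.conj x).toMonoidHom with hP'
      refine hm4 P' _ _ ?_ (map_mono (hm1 P hP)) fun h => hm2 P hP ?_
      · intro y hy
        have hyP : x⁻¹ * y * x ∈ P := by
          obtain ⟨z, hz, hzy⟩ := hy.2
          rw [← hzy]
          simpa [mul_assoc] using hz
        refine ⟨x⁻¹ * y * x, ?_, by simp [mul_assoc]⟩
        refine hm4 P hP (X ⊓ P) (inf_le_inf_right _ hTX) inf_le_right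
          (fun h => hX P hP (h.trans inf_le_left)) ⟨?_, hyP⟩
        exact X.mul_mem (X.mul_mem (X.inv_mem hx) (hTX hy.1)) hx
      · rw [← Subgroup.map_le_map_iff_of_injective (f := (MulAut.conj x).toMonoidHom)
          (MulAut.conj x).injective]
        exact h
    intro x hx P hP
    refine le_antisymm (hle x hx P hP) ?_
    have h1 := hle x⁻¹ (inv_mem hx) _ (hF.inv x P hP)
    have h2 : ∀ A : Subgroup G, (A.map (MulAut.conj x).toMonoidHom).map
        (MulAut.conj x⁻¹).toMonoidHom = A := fun A => by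
      rw [Subgroup.map_map]
      convert Subgroup.map_id A
      ext; simp [mul_assoc]
    rw [hmsymm _ _ _ hP (h2 P)] at h1
    intro y hy
    exact ⟨x⁻¹ * y * x, h1 ⟨y, hy, by simp⟩, by simp [mul_assoc]⟩
  have hTM : (T : Subgroup G) ≤ M := by
    refine key _ le_rfl fun P hP h => hm2 P hP ?_
    exact (le_inf h le_rfl).trans (hm3 P hP)
  have hMne : M ≠ ⊤ := by
    intro h
    obtain ⟨P, hP⟩ := hF.ne
    refine hm2 P hP (hcl P hP _ (hm3 P hP) (hm1 P hP) fun e he => ?_)
    have h1 : (m P hP).map (MulAut.conj e).toMonoidHom = m P hP := by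
      have he' : e ∈ M := h ▸ mem_top e
      refine (he' P hP).trans (hmsymm _ _ _ _ ?_)
      exact mem_normalizer_iff_map_conj_eq.1 (le_normalizer he)
    exact mem_normalizer_iff_map_conj_eq.2 h1
  have hall : ∀ X : Subgroup G, (T : Subgroup G) ≤ X → X ≠ ⊤ → X ≤ M := fun X hTX hXne =>
    key X hTX fun P hP h => hXne (hF.eq_top_of_le T hTX hP h)
  refine ⟨M, ⟨⟨hMne, fun Z hZ => ?_⟩, hTM⟩, fun Z hZ => ?_⟩
  · by_contra hZne
    exact hZ.not_ge (hall Z (hTM.trans hZ.le) hZne)
  · have hle := hall Z hZ.2 hZ.1.1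
    by_contra hne
    exact hMne (hZ.1.2 _ (lt_of_le_of_ne hle hne))

/-- A normal subgroup centralizing `O^p(G)` has trivial `p`-part when `O_p(G) = 1`. -/
theorem eq_one_of_centralizes_pResidual (hOp : Cfsg.pCore p G = ⊥) {x : G}
    (hx : x ∈ centralizer (Cfsg.pResidual p G : Set G)) {k : ℕ} (hk : x ^ p ^ k = 1) : x = 1 := by
  haveI := PResidual.pResidual_normal p (G := G)
  set C := centralizer (Cfsg.pResidual p G : Set G) with hC
  haveI : Group.IsNilpotent C := by
    haveI : Group.IsNilpotent (G ⧸ Cfsg.pResidual p G) :=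
      (PResidual.isPGroup_quotient_pResidual (p := p) (G := G)).isNilpotent
    refine Subgroup.isNilpotent_of_ker_le_center
      ((QuotientGroup.mk' (Cfsg.pResidual p G)).comp C.subtype) fun y hy => ?_
    rw [MonoidHom.mem_ker, MonoidHom.comp_apply, ← MonoidHom.mem_ker, QuotientGroup.ker_mk'] at hy
    exact mem_center_iff.2 fun z => Subtype.ext (mem_centralizer_iff.1 z.2 _ hy).symm
  have hxF : x ∈ Cfsg.fittingSubgroup G := Comp.le_fitting inferInstance inferInstance hx
  refine CharP.eq_one_of_coprime_of_pow (p := p) ?_ hk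
  exact ((Fact.out : p.Prime).coprime_iff_not_dvd.2 (FStarAct.fitting_prime_to hOp)).symm.coprime_dvd_left
    ((Cfsg.fittingSubgroup G).orderOf_dvd_natCard hxF)

/-- `O^p` of a subgroup, in the ambient group, is generated by its `p'`-elements. -/
theorem pResidual_map_le {P N : Subgroup G}
    (h : ∀ x ∈ P, (orderOf x).Coprime p → x ∈ N) :
    (Cfsg.pResidual p P).map P.subtype ≤ N := by
  rw [Cfsg.pResidual, MonoidHom.map_closure, closure_le]
  rintro _ ⟨x, hx, rfl⟩
  exact h _ x.2 (by rwa [Subgroup.coe_subtype, Subgroup.orderOf_coe])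

theorem mem_pResidual_map {P : Subgroup G} {x : G} (hx : x ∈ P) (hc : (orderOf x).Coprime p) :
    x ∈ (Cfsg.pResidual p P).map P.subtype :=
  ⟨⟨x, hx⟩, PResidual.mem_pResidual p (by rwa [← Subgroup.orderOf_coe]), rfl⟩

theorem map_conj_pResidual_le (P : Subgroup G) (h : G) :
    ((Cfsg.pResidual p P).map P.subtype).map (MulAut.conj h).toMonoidHom ≤
      (Cfsg.pResidual p ↥(P.map (MulAut.conj h).toMonoidHom)).map
        (P.map (MulAut.conj h).toMonoidHom).subtype := by
  rw [map_le_iff_le_comap]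
  refine pResidual_map_le fun x hx hc => ?_
  refine mem_pResidual_map ⟨x, hx, rfl⟩ (hc.coprime_dvd_left ?_)
  exact orderOf_map_dvd (MulAut.conj h).toMonoidHom x

theorem Fam.pCore_member (hF : Fam p F) (hOp : Cfsg.pCore p G = ⊥) {P : Subgroup G} (hP : P ∈ F) :
    Cfsg.pCore p P = ⊥ := by
  haveI := Solvable.pCore_normal p (G := P)
  have h := CharP.subnormal_pGroup_le_pCore
    (Comp.isSubnormal_map_subtype (hF.subnormal hP) (Solvable.pCore_normal p (G := P)))
    ((Solvable.isPGroup_pCore p).map P.subtype)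
  rw [hOp, le_bot_iff, map_eq_bot_iff_of_injective _ P.subtype_injective] at h
  exact h

/-- The dichotomy for a normal subgroup of `G` met with a member. -/
theorem Fam.inf_cases (hF : Fam p F) (hOp : Cfsg.pCore p G = ⊥) {P : Subgroup G} (hP : P ∈ F)
    (hs : Cfsg.IsStronglyPIrreducible p P) (N : Subgroup G) (hN : P ≤ normalizer (N : Set G)) :
    ⁅N ⊓ P, P⁆ = ⊥ ∨ (Cfsg.pResidual p P).map P.subtype ≤ N := by
  have hn : ((N ⊓ P).subgroupOf P).Normal := normal_subgroupOf_of_le_normalizer fun g hg => by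
    rw [mem_normalizer_iff]
    intro x
    simp only [mem_inf, mem_normalizer_iff.1 (hN hg) x, mem_normalizer_iff.1 (le_normalizer hg) x]
  by_cases h : ⁅(N ⊓ P).subgroupOf P, (⊤ : Subgroup P)⁆ ≤ Cfsg.pCore p P
  · left
    rw [hF.pCore_member hOp hP, le_bot_iff] at h
    have := congrArg (map P.subtype) h
    rwa [map_commutator, map_subgroupOf_eq_of_le inf_le_right, ← MonoidHom.range_eq_map,
      range_subtype, Subgroup.map_bot] at this
  · right
    have := map_mono (f := P.subtype) (hs.2 _ hn h)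
    rw [map_subgroupOf_eq_of_le inf_le_right] at this
    exact this.trans inf_le_left

/-- In a member: `O^p(P) ≤ P'`, the Sylow part, and `O^p(P) = [O^p(P), T ∩ P]`. -/
theorem Fam.member (hF : Fam p F) (hOp : Cfsg.pCore p G = ⊥) (T : Sylow p G) {P : Subgroup G}
    (hP : P ∈ F) (hs : Cfsg.IsStronglyPIrreducible p P) :
    (Cfsg.pResidual p P).map P.subtype ≤ ⁅P, P⁆ ∧
      P ≤ (Cfsg.pResidual p P).map P.subtype ⊔ ((T : Subgroup G) ⊓ P) ∧
      ⁅(Cfsg.pResidual p P).map P.subtype, (T : Subgroup G) ⊓ P⁆ =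
        (Cfsg.pResidual p P).map P.subtype := by
  have hi := CharP.isPIrreducible_of_strongly hs
  have hdvd : ¬ p ∣ (((T : Subgroup G)).subgroupOf P).index :=
    (Fact.out : p.Prime).coprime_iff_not_dvd.1
      (ExtTwoLayer.coprime_relIndex_inf_of_subnormal (hF.subnormal hP) T).symm
  let S : Sylow p P := (T.2.comap_subtype).toSylow hdvd
  have hS : (S : Subgroup P).map P.subtype = (T : Subgroup G) ⊓ P := subgroupOf_map_subtype _ _
  refine ⟨?_, ?_, ?_⟩
  · refine (map_mono (CharP.IsPIrreducible.pResidual_le_commutator hi S)).trans ?_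
    rw [map_subtype_commutator]
  · have := map_mono (f := P.subtype) (CharP.pResidual_sup_sylow S).ge
    rwa [Subgroup.map_sup, hS, ← MonoidHom.range_eq_map, range_subtype] at this
  · have hSne : ¬ (S : Subgroup P) ≤ Cfsg.pCore p P :=
      fun h => hi.1 (CharP.isPClosed_of_sylow_le S h)
    have := congrArg (map P.subtype)
      (CharP.IsPIrreducible.commutator_pResidual hi S le_rfl le_normalizer hSne).1
    rwa [map_commutator, hS] at this

theorem Fam.dichotomy (hF : Fam p F) (hOp : Cfsg.pCore p G = ⊥) (T : Sylow p G)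
    (hs : ∀ P ∈ F, Cfsg.IsStronglyPIrreducible p P) {P K : Subgroup G} (hP : P ∈ F) (hK : K ∈ F) :
    (Cfsg.pResidual p P).map P.subtype = (Cfsg.pResidual p K).map K.subtype ∨ ⁅P, K⁆ = ⊥ := by
  have hstep : ∀ {A B : Subgroup G}, A ∈ F → B ∈ F →
      (Cfsg.pResidual p A).map A.subtype ≤ B →
      (Cfsg.pResidual p A).map A.subtype = (Cfsg.pResidual p B).map B.subtype := by
    intro A B hA hB hle
    refine eq_of_le_of_card_ge (pResidual_map_le fun x hx hc =>
      mem_pResidual_map (hle (mem_pResidual_map hx hc)) hc) ?_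
    obtain ⟨h, rfl⟩ := hF.tr B hB A hA
    refine le_trans (le_of_eq ?_) (Subgroup.card_le_of_le (map_conj_pResidual_le B h))
    exact (card_map_of_injective (f := (MulAut.conj h).toMonoidHom) (MulAut.conj h).injective).symm
  have hPK : P ≤ normalizer (K : Set G) := (le_sSup hP).trans (hF.norm K hK)
  have hKP : K ≤ normalizer (P : Set G) := (le_sSup hK).trans (hF.norm P hP)
  rcases hF.inf_cases hOp hP (hs P hP) K hPK with h1 | h1
  swap
  · exact Or.inl (hstep hP hK h1)
  rcases hF.inf_cases hOp hK (hs K hK) P hKP with h2 | h2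
  swap
  · exact Or.inl (hstep hK hP h2).symm
  right
  have hle : ⁅P, K⁆ ≤ P ⊓ K :=
    le_inf (le_normalizer_iff_commutator_le_left.1 hKP)
      (le_normalizer_iff_commutator_le_right.1 hPK)
  have hZP : ⁅P ⊓ K, P⁆ = ⊥ := by rw [inf_comm]; exact h1
  have hQ : ⁅⁅P, P⁆, K⁆ = ⊥ := by
    refine commutator_commutator_eq_bot_of_rotate ?_ ?_
    · exact le_bot_iff.1 ((commutator_mono hle le_rfl).trans hZP.le)
    · rw [commutator_comm K P]
      exact le_bot_iff.1 ((commutator_mono hle le_rfl).trans hZP.le)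
  have hQ' : ⁅(Cfsg.pResidual p P).map P.subtype, K⁆ = ⊥ :=
    le_bot_iff.1 ((commutator_mono (hF.member hOp T hP (hs P hP)).1 le_rfl).trans hQ.le)
  have hT : ⁅(T : Subgroup G) ⊓ P, K⁆ = ⊥ := by
    rw [eq_bot_iff, commutator_le]
    intro t ht k hk
    rw [mem_bot, ← commutatorElement_inv]
    have hc : ⁅k, t⁆ ∈ P ⊓ K := hle (commutator_comm K P ▸ commutator_mem_commutator hk ht.2)
    have hp : ¬ p ∣ Nat.card (Cfsg.fittingSubgroup G) := FStarAct.fitting_prime_to hOp
    have hsn : (P ⊓ K).IsSubnormal := (hF.subnormal hP).inf (hF.subnormal hK)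
    haveI : IsMulCommutative ↥(P ⊓ K) := ⟨⟨fun a b => Subtype.ext
      (mem_centralizer_iff.1 (commutator_eq_bot_iff_le_centralizer.1 hZP a.2) _ (mem_inf.1 b.2).1).symm⟩⟩
    have hnil : Group.IsNilpotent ↥(P ⊓ K) := by
      open scoped IsMulCommutative in exact CommGroup.isNilpotent
    rw [FStarAct.commutatorElement_eq_one (CharP.exists_pow_eq_one_of_mem T.2 ht.1)
      (mem_centralizer_iff.1 (commutator_eq_bot_iff_le_centralizer.1 hZP hc) t ht.2)
      (Comp.subnormal_nilpotent_le_fitting hsn hnil hc) hp, inv_one]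
  rw [commutator_eq_bot_iff_le_centralizer] at hQ' hT ⊢
  exact (hF.member hOp T hP (hs P hP)).2.1.trans (sup_le hQ' hT)

theorem Fam.irreducible (hF : Fam p F) (hOp : Cfsg.pCore p G = ⊥)
    (hs : ∀ P ∈ F, Cfsg.IsStronglyPIrreducible p P) : Cfsg.IsPIrreducible p G := by
  obtain ⟨T⟩ := (inferInstance : Nonempty (Sylow p G))
  haveI hRn := hF.sSup_normal
  obtain ⟨P₀, hP₀⟩ := hF.ne
  have hQn : (⨆ P : F, (Cfsg.pResidual p ↥(P : Subgroup G)).map (P : Subgroup G).subtype).Normal := by
    refine ⟨fun x hx g => ?_⟩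
    have h : (⨆ P : F, (Cfsg.pResidual p ↥(P : Subgroup G)).map (P : Subgroup G).subtype).map
        (MulAut.conj g).toMonoidHom ≤
        ⨆ P : F, (Cfsg.pResidual p ↥(P : Subgroup G)).map (P : Subgroup G).subtype := by
      rw [Subgroup.map_iSup]
      exact iSup_le fun P => (map_conj_pResidual_le (P : Subgroup G) g).trans
        (le_iSup (fun P : F => (Cfsg.pResidual p ↥(P : Subgroup G)).map (P : Subgroup G).subtype)
          ⟨_, hF.inv g P P.2⟩)
    exact h ⟨x, hx, rfl⟩
  haveI := hQn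
  have hRT : ∀ (V : Subgroup G) [V.Normal],
      (∀ P ∈ F, (Cfsg.pResidual p P).map P.subtype ≤ V) → Cfsg.pResidual p G ≤ V := by
    intro V _ hV
    refine CharP.pResidual_le_of_sup_pGroup T.2 (hF.res.trans (sSup_le fun P hP => ?_))
    exact (hF.member hOp T hP (hs P hP)).2.1.trans (sup_le_sup (hV P hP) inf_le_left)
  have hres : Cfsg.pResidual p G ≤
      ⨆ P : F, (Cfsg.pResidual p ↥(P : Subgroup G)).map (P : Subgroup G).subtype :=
    hRT _ fun P hP => le_iSup
      (fun P : F => (Cfsg.pResidual p ↥(P : Subgroup G)).map (P : Subgroup G).subtype) ⟨P, hP⟩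
  refine ⟨fun hcl => ?_, fun N hN hnc => ?_⟩
  · refine (hs P₀ hP₀).1 (CharP.isPClosed_iff.2 fun x k hk => ?_)
    have := CharP.isPClosed_iff.1 hcl (x : G) k (by simpa using congrArg Subtype.val hk)
    rw [hOp, mem_bot] at this
    rw [show x = 1 from Subtype.ext this]
    exact one_mem _
  haveI := hN
  have hnorm : ∀ P : Subgroup G, P ≤ normalizer (N : Set G) := fun P => by
    rw [normalizer_eq_top]; exact le_top
  by_cases hex : ∃ P ∈ F, (Cfsg.pResidual p P).map P.subtype ≤ N
  · obtain ⟨P, hP, hle⟩ := hex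
    refine hRT N fun K hK => ?_
    obtain ⟨h, rfl⟩ := hF.tr K hK P hP
    intro x hx
    have h1 := hle (map_conj_pResidual_le K h ⟨x, hx, rfl⟩)
    have h2 := hN.conj_mem _ h1 h⁻¹
    simpa [mul_assoc] using h2
  exfalso
  push Not at hex
  set B := N ⊓ sSup F with hB
  have hz : ∀ P ∈ F, ⁅N ⊓ P, P⁆ = ⊥ := fun P hP =>
    (hF.inf_cases hOp hP (hs P hP) N (hnorm P)).resolve_right (hex P hP)
  have hBP : ∀ P ∈ F, ⁅B, P⁆ ≤ N ⊓ P := by
    intro P hP
    refine le_inf ((commutator_mono inf_le_left le_top).trans (commutator_le_left N ⊤)) ?_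
    exact le_normalizer_iff_commutator_le_right.1 (inf_le_right.trans (hF.norm P hP))
  have hBQ : ∀ P ∈ F, ⁅⁅P, P⁆, B⁆ = ⊥ := by
    intro P hP
    refine commutator_commutator_eq_bot_of_rotate ?_ ?_
    · rw [commutator_comm P B]
      exact le_bot_iff.1 ((commutator_mono (hBP P hP) le_rfl).trans (hz P hP).le)
    · exact le_bot_iff.1 ((commutator_mono (hBP P hP) le_rfl).trans (hz P hP).le)
  have hBC : B ≤ centralizer (Cfsg.pResidual p G : Set G) := by
    rw [← le_centralizer_iff]
    refine hres.trans (iSup_le fun P => ?_)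
    exact (hF.member hOp T P.2 (hs P P.2)).1.trans
      (commutator_eq_bot_iff_le_centralizer.1 (hBQ P P.2))
  have hBp : ¬ p ∣ Nat.card B := by
    intro hdvd
    obtain ⟨b, hb⟩ := exists_prime_orderOf_dvd_card' p hdvd
    have hb' : orderOf (b : G) = p := by rw [Subgroup.orderOf_coe, hb]
    have := eq_one_of_centralizes_pResidual hOp (hBC b.2) (k := 1)
      (by rw [pow_one]; exact orderOf_dvd_iff_pow_eq_one.1 (dvd_of_eq hb'))
    rw [this, orderOf_one] at hb'
    exact (Fact.out : p.Prime).one_lt.ne hb'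
  have hBT : ∀ P ∈ F, ⁅B, (T : Subgroup G) ⊓ P⁆ = ⊥ := by
    intro P hP
    rw [eq_bot_iff, commutator_le]
    intro b hb t ht
    have hc : ⁅b, t⁆ ∈ N ⊓ P := hBP P hP (commutator_mem_commutator hb ht.2)
    rw [mem_bot]
    exact FStarAct.commutatorElement_eq_one (CharP.exists_pow_eq_one_of_mem T.2 ht.1)
      (mem_centralizer_iff.1 (commutator_eq_bot_iff_le_centralizer.1 (hz P hP) hc) t ht.2)
      (⟨hc.1, le_sSup hP hc.2⟩ : ⁅b, t⁆ ∈ B) hBp
  have hTC : (N ⊓ (T : Subgroup G)) ≤ centralizer (Cfsg.pResidual p G : Set G) := by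
    rw [← le_centralizer_iff]
    refine hres.trans (iSup_le fun P => ?_)
    obtain ⟨-, -, hQ⟩ := hF.member hOp T P.2 (hs P P.2)
    rw [← commutator_eq_bot_iff_le_centralizer, ← hQ]
    set TP := (T : Subgroup G) ⊓ (P : Subgroup G) with hTP
    set Q := (Cfsg.pResidual p ↥(P : Subgroup G)).map (P : Subgroup G).subtype with hQdef
    set A := N ⊓ (T : Subgroup G) with hA
    have hAT : ⁅TP, A⁆ = ⊥ := by
      rw [eq_bot_iff, commutator_le]
      intro t ht a ha
      rw [mem_bot]
      have h1 : ⁅t, a⁆ ∈ B := by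
        refine ⟨commutator_le_right (H₁ := ⊤) (H₂ := N) (commutator_mem_commutator (mem_top t) ha.1), ?_⟩
        exact commutator_le_left (H₁ := sSup F) (H₂ := ⊤)
          (commutator_mem_commutator (le_sSup P.2 ht.2) (mem_top a))
      have h2 : ⁅t, a⁆ ∈ (T : Subgroup G) :=
        (T : Subgroup G).mul_mem ((T : Subgroup G).mul_mem ((T : Subgroup G).mul_mem ht.1 ha.2)
          ((T : Subgroup G).inv_mem ht.1)) ((T : Subgroup G).inv_mem ha.2)
      obtain ⟨k, hk⟩ := CharP.exists_pow_eq_one_of_mem T.2 h2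
      exact CharP.eq_one_of_coprime_of_pow
        (((Fact.out : p.Prime).coprime_iff_not_dvd.2 hBp).symm.coprime_dvd_left
          (B.orderOf_dvd_natCard h1)) hk
    have hAQ : ⁅A, Q⁆ ≤ B := by
      refine le_inf ((commutator_mono inf_le_left le_top).trans (commutator_le_left N ⊤)) ?_
      exact (commutator_mono le_top ((map_subtype_le _).trans (le_sSup P.2))).trans
        (commutator_le_right ⊤ (sSup F))
    refine commutator_commutator_eq_bot_of_rotate (by rw [hAT, commutator_bot_left]) ?_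
    exact le_bot_iff.1 ((commutator_mono hAQ le_rfl).trans (hBT P P.2).le)
  refine hnc ((CharP.isPClosed_normal_iff N).2 fun x hx k hk => ?_)
  rw [hOp, mem_bot]
  obtain ⟨S, hS⟩ := (CharP.isPGroup_zpowers hk).exists_le_sylow
  obtain ⟨g, hg⟩ := MulAction.exists_smul_eq G S T
  have hy : g * x * g⁻¹ ∈ N ⊓ (T : Subgroup G) := by
    refine ⟨hN.conj_mem x hx g, ?_⟩
    rw [← hg, Sylow.coe_subgroup_smul]
    exact ⟨x, hS (mem_zpowers x), rfl⟩
  have := eq_one_of_centralizes_pResidual hOp (hTC hy) (k := k) (by rw [conj_pow, hk]; simp)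
  simpa using this

end CfsgLib.IrrFam
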