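import Cfsg.Agent.CharP.Kieler

/-!
Kieler's lemma for subnormal subgroups and in groups of local characteristic `p`;
generation of point stabilizers.
-/

set_option autoImplicit false
set_option linter.style.haveILetI false

namespace CfsgLib.Kieler

open Subgroup Cfsg

universe u

variable {H : Type u} [Group H] [Finite H] {p : ℕ} [Fact p.Prime]

theorem map_omegaZ (M : Subgroup H) (Q : Subgroup M) :
    (omegaZ p Q).map M.subtype = omegaZ p (Q.map M.subtype) := by
  rw [Thompson.map_omegaOne _ M.subtype_injective, CharP.map_inf_centralizer]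

/-- The normal case inside a subgroup. -/
theorem in_subgroup (M : Subgroup H) (hM : centralizer (pCore p M : Set M) ≤ pCore p M)
    (P : Sylow p M) {Q N : Subgroup H} (hP : (P : Subgroup M).map M.subtype = Q) (hNM : N ≤ M)
    (hn : M ≤ normalizer (N : Set H)) :
    N ⊓ centralizer (omegaZ p Q : Set H) = N ⊓ centralizer (omegaZ p (Q ⊓ N) : Set H) := by
  haveI : (N.subgroupOf M).Normal := normal_subgroupOf_of_le_normalizer hn
  have h := normal_case hM P (N.subgroupOf M)
  have e1 : (omegaZ p (P : Subgroup M)).map M.subtype = omegaZ p Q := by rw [map_omegaZ, hP]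
  have e2 : (omegaZ p ((P : Subgroup M) ⊓ N.subgroupOf M)).map M.subtype = omegaZ p (Q ⊓ N) := by
    rw [map_omegaZ, Subgroup.map_inf _ _ _ M.subtype_injective, hP, map_subgroupOf_eq_of_le hNM]
  ext x
  constructor
  · rintro ⟨hx, hc⟩
    refine ⟨hx, ?_⟩
    have h1 : (⟨x, hNM hx⟩ : M) ∈ N.subgroupOf M ⊓ centralizer (omegaZ p (P : Subgroup M) : Set M) :=
      ⟨hx, CharP.mem_centralizer_of_subtype.2 (e1 ▸ hc)⟩
    rw [h] at h1
    exact e2 ▸ CharP.mem_centralizer_of_subtype.1 h1.2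
  · rintro ⟨hx, hc⟩
    refine ⟨hx, ?_⟩
    have h1 : (⟨x, hNM hx⟩ : M) ∈ N.subgroupOf M ⊓
        centralizer (omegaZ p ((P : Subgroup M) ⊓ N.subgroupOf M) : Set M) :=
      ⟨hx, CharP.mem_centralizer_of_subtype.2 (e2 ▸ hc)⟩
    rw [← h] at h1
    exact e1 ▸ CharP.mem_centralizer_of_subtype.1 h1.2

/-- All normalizers of nontrivial `p`-subgroups have characteristic `p`. -/
def LocalChar (p : ℕ) (H : Type u) [Group H] : Prop :=
  ∀ U : Subgroup H, IsPGroup p U → U ≠ ⊥ →
    centralizer (pCore p ↥(normalizer (U : Set H)) : Set ↥(normalizer (U : Set H))) ≤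
      pCore p ↥(normalizer (U : Set H))

theorem LocalChar.subnormal (h : LocalChar p H) {K : Subgroup H} (hK : K.IsSubnormal) :
    LocalChar p K := by
  intro U hU hU1
  set U' := U.map K.subtype with hU'
  have h1 : CharP.HasCharP p ↥(normalizer (U' : Set H)) :=
    h U' (hU.map _) ((Subgroup.map_eq_bot_iff_of_injective _ K.subtype_injective).not.2 hU1)
  have h2 := CharP.hasCharP_of_isSubnormal
    (hK.subgroupOf (K := normalizer (U' : Set H))) h1
  have hiff : ∀ x : K, x ∈ normalizer (U : Set K) ↔ (x : H) ∈ normalizer (U' : Set H) := by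
    intro x
    rw [mem_normalizer_iff, mem_normalizer_iff]
    refine ⟨fun hx z => ⟨?_, fun hz => ?_⟩, fun hx z => ?_⟩
    · rintro ⟨w, hw, rfl⟩
      exact ⟨x * w * x⁻¹, (hx w).1 hw, rfl⟩
    · have hz' : (x : H) * z * (x : H)⁻¹ ∈ K := map_subtype_le U hz
      have hzK : z ∈ K := by
        simpa [mul_assoc] using mul_mem (mul_mem (inv_mem x.2) hz') x.2
      exact ⟨⟨z, hzK⟩, (hx ⟨z, hzK⟩).2 ((mem_map_iff_mem K.subtype_injective).1 hz), rfl⟩
    · have h3 := hx (z : H)
      rw [hU', show (x : H) * (z : H) * (x : H)⁻¹ = K.subtype (x * z * x⁻¹) from rfl,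
        show (z : H) = K.subtype z from rfl, mem_map_iff_mem K.subtype_injective,
        mem_map_iff_mem K.subtype_injective] at h3
      exact h3
  exact CharP.HasCharP.of_mulEquiv h2
    { toFun := fun x => ⟨⟨((x : normalizer (U' : Set H)) : H), x.2⟩, (hiff _).2 (x : normalizer (U' : Set H)).2⟩
      invFun := fun x => ⟨⟨((x : K) : H), (hiff _).1 x.2⟩, (x : K).2⟩
      left_inv := fun x => rfl
      right_inv := fun x => rfl
      map_mul' := fun x y => rfl }

theorem omegaZ_ne_bot {S : Subgroup H} (hS : IsPGroup p S) (hne : S ≠ ⊥) : omegaZ p S ≠ ⊥ := by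
  haveI : Nontrivial S := (nontrivial_iff_ne_bot S).2 hne
  haveI := hS.center_nontrivial
  obtain ⟨n, hn0, hn⟩ := (hS.to_subgroup (center S)).nontrivial_iff_card.1 inferInstance
  obtain ⟨g, hg⟩ := exists_prime_orderOf_dvd_card' (G := center S) p
    (hn ▸ dvd_pow_self p (by omega))
  intro hbot
  have h1 : ((g : S) : H) ∈ omegaZ p S := mem_omegaZ (g : S).2
    (mem_centralizer_iff.2 fun v hv => congrArg Subtype.val (mem_center_iff.1 g.2 ⟨v, hv⟩))
    (by rw [← SubmonoidClass.coe_pow, ← SubmonoidClass.coe_pow, ← hg, pow_orderOf_eq_one]; rfl)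
  rw [hbot, mem_bot, OneMemClass.coe_eq_one, OneMemClass.coe_eq_one] at h1
  rw [h1, orderOf_one] at hg
  exact (Fact.out : p.Prime).one_lt.ne hg

theorem isPGroup_omegaZ {S : Subgroup H} (hS : IsPGroup p S) : IsPGroup p (omegaZ p S) :=
  hS.to_le fun _ h => (omegaZ_props h).1

theorem le_normalizer_omegaZ {A B : Subgroup H} (h : A ≤ normalizer (B : Set H)) :
    A ≤ normalizer (omegaZ p B : Set H) := fun a ha => by
  refine mem_normalizer_iff.2 fun x => ⟨omegaZ_conj_mem (h ha), fun hx => ?_⟩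
  simpa [mul_assoc] using omegaZ_conj_mem (h (inv_mem ha)) hx

theorem normal_case_local (hH : LocalChar p H) (T : Sylow p H) (L : Subgroup H) [L.Normal]
    (hS : (T : Subgroup H) ⊓ L ≠ ⊥) :
    L ⊓ centralizer (omegaZ p (T : Subgroup H) : Set H) =
      L ⊓ centralizer (omegaZ p ((T : Subgroup H) ⊓ L) : Set H) := by
  set S := (T : Subgroup H) ⊓ L
  have hSp : IsPGroup p S := T.isPGroup'.to_le inf_le_left
  have key : ∀ U : Subgroup H, IsPGroup p U → U ≠ ⊥ → (T : Subgroup H) ≤ normalizer (U : Set H) →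
      (L ⊓ normalizer (U : Set H)) ⊓ centralizer (omegaZ p (T : Subgroup H) : Set H) =
        (L ⊓ normalizer (U : Set H)) ⊓ centralizer (omegaZ p S : Set H) := by
    intro U hU hU1 hTU
    have h := in_subgroup (normalizer (U : Set H)) (hH U hU hU1) (T.subtype hTU)
      (Q := (T : Subgroup H)) (N := L ⊓ normalizer (U : Set H))
      (by rw [Sylow.coe_subtype, map_subgroupOf_eq_of_le hTU]) inf_le_right
      ((le_inf ((le_normalizer_of_normal (H := L) : ⊤ ≤ normalizer (L : Set H)).trans' le_top)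
        le_normalizer).trans inf_normalizer_le_normalizer_inf)
    have e : (T : Subgroup H) ⊓ (L ⊓ normalizer (U : Set H)) = S := by
      rw [← inf_assoc, inf_eq_left]; exact inf_le_left.trans hTU
    rwa [e] at h
  refine le_antisymm ?_ ?_
  · rintro x ⟨hx, hc⟩
    have hT1 : (T : Subgroup H) ≠ ⊥ := fun e => hS (eq_bot_iff.2 (e ▸ inf_le_left))
    have hxN : x ∈ normalizer (omegaZ p (T : Subgroup H) : Set H) := centralizer_le_normalizer _ hc
    have h := key _ (isPGroup_omegaZ T.isPGroup') (omegaZ_ne_bot T.isPGroup' hT1)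
      (le_normalizer_omegaZ le_normalizer)
    exact ⟨hx, (h.le ⟨⟨hx, hxN⟩, hc⟩).2⟩
  · rintro x ⟨hx, hc⟩
    have hxN : x ∈ normalizer (omegaZ p S : Set H) := centralizer_le_normalizer _ hc
    have h := key _ (isPGroup_omegaZ hSp) (omegaZ_ne_bot hSp hS)
      (le_normalizer_omegaZ (CharP.sylow_le_normalizer_inf T L le_normalizer_of_normal))
    exact ⟨hx, (h.ge ⟨⟨hx, hxN⟩, hc⟩).2⟩

theorem exists_sylow_subnormal (T : Sylow p H) {K : Subgroup H} (hK : K.IsSubnormal) :
    ∃ Q : Sylow p K, (Q : Subgroup K).map K.subtype = (T : Subgroup H) ⊓ K := by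
  obtain ⟨Q, hQ⟩ := Cfsg.Agent.S3028.sylow_inf T hK
  exact ⟨Q, hQ.trans (inf_comm _ _)⟩

/-- Kieler's lemma for subnormal subgroups. -/
theorem kieler (hH : centralizer (pCore p H : Set H) ≤ pCore p H) (T : Sylow p H)
    {L : Subgroup H} (hL : L.IsSubnormal) :
    L ⊓ centralizer (omegaZ p (T : Subgroup H) : Set H) =
      L ⊓ centralizer (omegaZ p ((T : Subgroup H) ⊓ L) : Set H) := by
  induction hL with
  | top => rw [inf_top_eq]
  | step N K hle hK hn ih =>
    obtain ⟨Q, hQ⟩ := exists_sylow_subnormal T hK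
    have h := in_subgroup K (CharP.hasCharP_of_isSubnormal hK hH) Q hQ hle
      ((normal_subgroupOf_iff_le_normalizer hle).1 hn)
    rw [inf_assoc, inf_of_le_right hle] at h
    rw [← h, ← inf_of_le_left hle, inf_assoc, ih, ← inf_assoc]

/-- Kieler's lemma in groups of local characteristic `p`. -/
theorem kieler_local (hH : LocalChar p H) (T : Sylow p H) {L : Subgroup H} (hL : L.IsSubnormal)
    (hS : (T : Subgroup H) ⊓ L ≠ ⊥) :
    L ⊓ centralizer (omegaZ p (T : Subgroup H) : Set H) =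
      L ⊓ centralizer (omegaZ p ((T : Subgroup H) ⊓ L) : Set H) := by
  induction hL with
  | top => rw [inf_top_eq]
  | step N K hle hK hn ih =>
    have hK1 : (T : Subgroup H) ⊓ K ≠ ⊥ := fun e =>
      hS (eq_bot_iff.2 (e ▸ inf_le_inf_left _ hle))
    obtain ⟨Q, hQ⟩ := exists_sylow_subnormal T hK
    haveI := hn
    have hQN : ((Q : Subgroup K) ⊓ N.subgroupOf K).map K.subtype = (T : Subgroup H) ⊓ N := by
      rw [Subgroup.map_inf _ _ _ K.subtype_injective, hQ, map_subgroupOf_eq_of_le hle, inf_assoc,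
        inf_of_le_right hle]
    have h := normal_case_local (hH.subnormal hK) Q (N.subgroupOf K)
      (fun e => hS (by rw [← hQN, e, Subgroup.map_bot]))
    have e1 : (omegaZ p (Q : Subgroup K)).map K.subtype = omegaZ p ((T : Subgroup H) ⊓ K) := by
      rw [map_omegaZ, hQ]
    have e2 : (omegaZ p ((Q : Subgroup K) ⊓ N.subgroupOf K)).map K.subtype =
        omegaZ p ((T : Subgroup H) ⊓ N) := by rw [map_omegaZ, hQN]
    ext x
    constructor
    · rintro ⟨hx, hc⟩
      have h1 : x ∈ K ⊓ centralizer (omegaZ p ((T : Subgroup H) ⊓ K) : Set H) :=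
        (ih hK1) ▸ (⟨hle hx, hc⟩ : x ∈ K ⊓ _)
      have h2 : (⟨x, hle hx⟩ : K) ∈ N.subgroupOf K ⊓ centralizer (omegaZ p (Q : Subgroup K) : Set K) :=
        ⟨hx, CharP.mem_centralizer_of_subtype.2 (e1 ▸ h1.2)⟩
      rw [h] at h2
      exact ⟨hx, e2 ▸ CharP.mem_centralizer_of_subtype.1 h2.2⟩
    · rintro ⟨hx, hc⟩
      have h2 : (⟨x, hle hx⟩ : K) ∈ N.subgroupOf K ⊓
          centralizer (omegaZ p ((Q : Subgroup K) ⊓ N.subgroupOf K) : Set K) :=
        ⟨hx, CharP.mem_centralizer_of_subtype.2 (e2 ▸ hc)⟩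
      rw [← h] at h2
      have h1 : x ∈ K ⊓ centralizer (omegaZ p (T : Subgroup H) : Set H) :=
        (ih hK1).symm ▸ (⟨hle hx, e1 ▸ CharP.mem_centralizer_of_subtype.1 h2.2⟩ :
          x ∈ K ⊓ centralizer (omegaZ p ((T : Subgroup H) ⊓ K) : Set H))
      exact ⟨hx, h1.2⟩

end CfsgLib.Kieler
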