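import Cfsg.Agent.CharP.YMinimal

/-!
The L-Lemma.
-/

set_option autoImplicit false
set_option linter.style.haveILetI false

namespace CfsgLib.YMinimal

open Subgroup Cfsg

variable {G : Type*} [Group G] [Finite G] {p : ℕ} [Fact p.Prime]

local notation:max A "^ᶜ" g:max => Subgroup.map (MulEquiv.toMonoidHom (MulAut.conj g)) A

theorem map_map_sup (A B : Subgroup G) (g : G) :
    (A ⊔ B)^ᶜ g = A^ᶜ g ⊔ B^ᶜ g := Subgroup.map_sup _ _ _

theorem conj_injective (g : G) :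
    Function.Injective (fun A : Subgroup G => A^ᶜ g) :=
  map_injective (MulAut.conj g).injective

theorem l_lemma (T : Sylow p G) (hmin : IsMinimalOver (T : Subgroup G)) (M : Subgroup G)
    (hM : IsCoatom M) (hTM : (T : Subgroup G) ≤ M) (A : Subgroup G) (hAT : A ≤ (T : Subgroup G))
    (hA : ¬ A ≤ pCore p G) :
    ∃ L : Subgroup G, A ⊔ pCore p G ≤ L ∧ ∃ L₀ : Subgroup G, A ⊔ pCoreOf p L ≤ L₀ ∧ L₀ < L ∧
      (∀ X : Subgroup G, A ⊔ pCoreOf p L ≤ X → X < L → X ≤ L₀) ∧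
      (∃ g : G, L₀ = L ⊓ M^ᶜ g) ∧
      ∀ x ∈ L, x ∉ L₀ → (A ⊔ A^ᶜ x) ⊔ pCoreOf p L = L := by
  set Q := pCore p G
  haveI hQn : Q.Normal := Solvable.pCore_normal p
  have hAp : IsPGroup p A := T.isPGroup'.to_le hAT
  -- the class of subgroups to be minimised
  let Inv : Subgroup G → G → Subgroup G → Prop := fun L g P =>
    Q ≤ L ∧ ¬ L ≤ M^ᶜ g ∧ IsSylowIn p P L ∧ P ≤ M^ᶜ g ∧
      ∀ X : Subgroup G, P ≤ X → X < L → X ≤ M^ᶜ g
  let Cond : Subgroup G → Prop := fun L => ∃ (g : G) (P : Subgroup G) (a : G),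
    Inv L g P ∧ A^ᶜ a ≤ L ⊓ M^ᶜ g ∧ ¬ A^ᶜ a ≤ pCoreOf p L
  have hCtop : Cond ⊤ := by
    refine ⟨1, T, 1, ⟨le_top, ?_, ⟨le_top, T.isPGroup', ?_⟩, ?_, fun X hX hlt => ?_⟩, ?_, ?_⟩
    · rw [conj_one]; exact fun h => hM.1 (top_le_iff.1 h)
    · rw [relIndex_top_right]; exact T.not_dvd_index
    · rw [conj_one]; exact hTM
    · rw [conj_one]; exact le_of_ne_top hM hTM hmin hX hlt.ne
    · rw [conj_one, conj_one]; exact le_inf le_top (hAT.trans hTM)
    · rw [conj_one, pCoreOf_top]; exact hA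
  obtain ⟨L, -, ⟨g, P, a, ⟨hQL, hLM, hP, hPM, hinv⟩, haK, haO⟩, hLmin⟩ :=
    exists_minimal_le_of_wellFoundedLT Cond ⊤ hCtop
  set A₁ := A^ᶜ a with hA₁
  set O := pCoreOf p L with hO
  set K := L ⊓ M^ᶜ g with hK
  have hKL : K < L := lt_of_le_of_ne inf_le_left fun e => hLM (e ▸ inf_le_right)
  have hOP : O ≤ P := hP.le_of_normalized (pCoreOf_le L) (le_normalizer_pCoreOf L)
    (isPGroup_pCoreOf L)
  have hOK : O ≤ K := le_inf (pCoreOf_le L) (hOP.trans hPM)
  have hPK : IsSylowIn p P K :=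
    ⟨le_inf hP.1 hPM, hP.2.1, fun h => hP.2.2 (h.trans
      (Dvd.intro _ (relIndex_mul_relIndex P K L (le_inf hP.1 hPM) inf_le_left)))⟩
  -- any Sylow subgroup of `K` can replace `P`
  have hSyl : ∀ U, IsSylowIn p U K → ∀ X, U ≤ X → X < L → X ≤ M^ᶜ g := by
    intro U hU X hUX hXL
    obtain ⟨k, hk, hkU⟩ := hPK.conj hU
    have hkL : k ∈ normalizer (L : Set G) := le_normalizer hk.1
    have hkM : k ∈ normalizer ((M^ᶜ g : Subgroup G) : Set G) := le_normalizer hk.2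
    have h1 : X^ᶜ k⁻¹ < L := by
      have := (map_lt_map_iff_of_injective (f := (MulAut.conj k⁻¹).toMonoidHom)
        (MulAut.conj k⁻¹).injective).2 hXL
      rwa [conj_eq_self (inv_mem hkL)] at this
    have h2 : P ≤ X^ᶜ k⁻¹ := conj_le_iff.1 (hkU.le.trans hUX)
    have h3 := conj_mono (hinv _ h2 h1) k
    rwa [conj_conj, mul_inv_cancel, conj_one, conj_eq_self hkM] at h3
  set Y := A₁ ⊔ O with hY
  have hYp : IsPGroup p Y := isPGroup_sup_of_le_normalizer (hAp.map _) (isPGroup_pCoreOf L)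
    ((haK.trans inf_le_left).trans (le_normalizer_pCoreOf L))
  have hYK : Y ≤ K := sup_le haK hOK
  have huniq : ∀ X, Y ≤ X → X < L → X ≤ M^ᶜ g := by
    intro X₀ hYX₀ hX₀L
    by_contra hX₀
    obtain ⟨U, -, ⟨hYU, hUK, hUp, X, hXL, hXg, hUX⟩, hUmax⟩ := exists_maximal_ge_of_wellFoundedGT
      (fun U : Subgroup G => Y ≤ U ∧ U ≤ K ∧ IsPGroup p U ∧ ∃ X < L, ¬ X ≤ M^ᶜ g ∧ U ≤ X)
      Y ⟨le_rfl, hYK, hYp, X₀, hX₀L, hX₀, hYX₀⟩
    have hbig : ∀ U', U < U' → U' ≤ K → IsPGroup p U' → ∀ Z < L, U' ≤ Z → Z ≤ M^ᶜ g := by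
      intro U' hlt hU'K hU'p Z hZL hU'Z
      by_contra hZ
      exact hlt.not_ge (hUmax ⟨hYU.trans hlt.le, hU'K, hU'p, Z, hZL, hZ, hU'Z⟩ hlt.le)
    have hUL : U ≤ L := hUK.trans inf_le_left
    obtain ⟨N₁, hUN₁, hN₁K, hN₁p, hN₁n⟩ := exists_gt_normalizing hUp hUK
      fun h => hXg (hSyl U h X hUX hXL)
    obtain ⟨X', hX'X, ⟨hUX', hX'g⟩, hX'min⟩ := exists_minimal_le_of_wellFoundedLT
      (fun Z : Subgroup G => U ≤ Z ∧ ¬ Z ≤ M^ᶜ g) X ⟨hUX, hXg⟩
    have hX'L : X' < L := lt_of_le_of_lt hX'X hXL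
    have hUsyl : IsSylowIn p U X' := by
      by_contra hns
      obtain ⟨R, hUR, hRX', hRp, hRn⟩ := exists_gt_normalizing hUp hUX' hns
      set W := L ⊓ normalizer (U : Set G) with hW
      have hWne : W ≠ L := fun e => haO ((le_sup_left.trans hYU).trans
        (le_pCoreOf hUL (inf_eq_left.1 e) hUp))
      have hRW : R ≤ W := le_inf (hRX'.trans hX'L.le) hRn
      have hWM : W ≤ M^ᶜ g := hbig N₁ hUN₁ hN₁K hN₁p W (lt_of_le_of_ne inf_le_left hWne)
        (le_inf (hN₁K.trans inf_le_left) hN₁n)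
      exact hX'g (hbig R hUR (le_inf (hRX'.trans hX'L.le) (hRW.trans hWM)) hRp X' hX'L hRX')
    have hOU : O ≤ U := le_sup_right.trans hYU
    have hQO : Q ≤ O := le_pCoreOf hQL le_normalizer_of_normal (Solvable.isPGroup_pCore p)
    have hsmall : ∀ b : G, A^ᶜ b ≤ U → A^ᶜ b ≤ pCoreOf p X' := by
      intro b hb
      by_contra hnot
      refine hX'L.not_ge (hLmin ?_ hX'L.le)
      exact ⟨g, U, b, ⟨(hQO.trans hOU).trans hUX', hX'g, hUsyl, hUK.trans inf_le_right,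
        fun Z hUZ hZ => by
          by_contra hZg
          exact hZ.not_ge (hX'min ⟨hUZ, hZg⟩ hZ.le)⟩,
        le_inf (hb.trans hUX') (hb.trans (hUK.trans inf_le_right)), hnot⟩
    set W₁ : Subgroup G := ⨆ b : {b : G // A^ᶜ b ≤ U}, A^ᶜ (b : G) with hW₁
    have hW₁U : W₁ ≤ U := iSup_le fun b => b.2
    have haW : A₁ ≤ W₁ := le_iSup_of_le ⟨a, le_sup_left.trans hYU⟩ le_rfl
    have hnorm : ∀ x : G, (∀ b : G, A^ᶜ b ≤ U → A^ᶜ (x * b) ≤ U) →
        x ∈ normalizer (W₁ : Set G) := by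
      intro x hx
      refine mem_normalizer_of_conj_le ?_
      rw [hW₁, Subgroup.map_iSup]
      refine iSup_le fun b => ?_
      rw [conj_conj]
      exact le_iSup_of_le ⟨x * b, hx b b.2⟩ le_rfl
    have hX'n : X' ≤ normalizer (W₁ : Set G) := fun x hx => hnorm x fun b hb => by
      rw [← conj_conj]
      refine (conj_mono (hsmall b hb) x).trans ?_
      rw [conj_eq_self (le_normalizer_pCoreOf X' hx)]
      exact hUsyl.le_of_normalized (pCoreOf_le X') (le_normalizer_pCoreOf X') (isPGroup_pCoreOf X')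
    have hN₁n' : N₁ ≤ normalizer (W₁ : Set G) := fun x hx => hnorm x fun b hb => by
      rw [← conj_conj]
      exact (conj_mono hb x).trans (conj_eq_self (hN₁n hx)).le
    have hWne : L ⊓ normalizer (W₁ : Set G) ≠ L := fun e => haO (haW.trans
      (le_pCoreOf (hW₁U.trans hUL) (inf_eq_left.1 e) (hUp.to_le hW₁U)))
    exact hX'g ((le_inf hX'L.le hX'n).trans (hbig N₁ hUN₁ hN₁K hN₁p _
      (lt_of_le_of_ne inf_le_left hWne) (le_inf (hN₁K.trans inf_le_left) hN₁n')))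
  have huniq' : ∀ X, Y ≤ X → X < L → X ≤ K := fun X h1 h2 => le_inf h2.le (huniq X h1 h2)
  -- part (b)
  have hgen : ∀ x ∈ L, x ∉ K → (A₁ ⊔ A₁^ᶜ x) ⊔ O = L := by
    intro x hx hxK
    have hxL : x ∈ normalizer (L : Set G) := le_normalizer hx
    have hle : (A₁ ⊔ A₁^ᶜ x) ⊔ O ≤ L := by
      refine sup_le (sup_le (haK.trans inf_le_left) ?_) (pCoreOf_le L)
      exact (conj_mono (haK.trans inf_le_left) x).trans (conj_eq_self hxL).le
    refine eq_of_le_of_not_lt hle fun hlt => ?_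
    have h1 := huniq' _ (sup_le (le_sup_left.trans le_sup_left) le_sup_right) hlt
    have h2 : K^ᶜ x⁻¹ < L := by
      have := (map_lt_map_iff_of_injective (f := (MulAut.conj x⁻¹).toMonoidHom)
        (MulAut.conj x⁻¹).injective).2 hKL
      rwa [conj_eq_self (inv_mem hxL)] at this
    have h3 : Y ≤ K^ᶜ x⁻¹ := sup_le (conj_le_iff.1 ((le_sup_right.trans le_sup_left).trans h1))
      (conj_le_iff.1 ((conj_eq_self (le_normalizer_pCoreOf L hx)).le.trans (hOK)))
    have h4 := huniq' _ h3 h2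
    have hKn : x ∈ normalizer (K : Set G) := by simpa using inv_mem (mem_normalizer_of_conj_le h4)
    set N := L ⊓ normalizer (K : Set G) with hN
    have hNL : N = L := by
      by_contra hne
      exact hxK (huniq' N (hYK.trans (le_inf inf_le_left le_normalizer))
        (lt_of_le_of_ne inf_le_left hne) ⟨hx, hKn⟩)
    have hLK : L ≤ normalizer (K : Set G) := inf_eq_left.1 hNL
    have hPn : ¬ L ≤ normalizer (P : Set G) := fun h => haO (by
      have hPO : P = O := le_antisymm (le_pCoreOf hP.1 h hP.2.1) hOP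
      obtain ⟨U, hAU, hU⟩ := exists_sylowIn_ge (hAp.map _) haK
      obtain ⟨k, hk, hkU⟩ := hPK.conj hU
      refine hAU.trans ?_
      rw [← hkU, hPO, conj_eq_self (le_normalizer_pCoreOf L hk.1)])
    refine hKL.not_ge fun l hl => ?_
    obtain ⟨k, hk, hkl⟩ := hPK.conj (U := P^ᶜ l) ⟨by
        rw [← conj_eq_self (hLK hl)]; exact conj_mono hPK.1 l, hP.2.1.map _, by
        rw [show K = K^ᶜ l from (conj_eq_self (hLK hl)).symm,
          relIndex_map_map_of_injective _ _ (MulAut.conj l).injective]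
        exact hPK.2.2⟩
    have hn : k⁻¹ * l ∈ L ⊓ normalizer (P : Set G) := by
      refine Subgroup.mem_inf.2 ⟨mul_mem (inv_mem hk.1) hl, mem_normalizer_of_conj_le ?_⟩
      rw [← conj_conj, ← hkl, conj_conj, inv_mul_cancel, conj_one]
    have := huniq' _ (show Y ≤ (L ⊓ normalizer (P : Set G)) ⊔ Y from le_sup_right)
    by_cases hlt' : (L ⊓ normalizer (P : Set G)) ⊔ Y < L
    · simpa using mul_mem hk (this hlt' (mem_sup_left hn))
    · have h5 : L ⊓ normalizer (P : Set G) < L := lt_of_le_of_ne inf_le_left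
        fun e => hPn (inf_eq_left.1 e)
      have h6 := hinv _ (le_inf hP.1 le_normalizer) h5
      simpa using mul_mem hk (show k⁻¹ * l ∈ K from ⟨hn.1, h6 hn⟩)
  -- transport by `a⁻¹`
  set c := a⁻¹
  have hA' : A₁^ᶜ c = A := by rw [hA₁, conj_conj, inv_mul_cancel, conj_one]
  have hO' : O^ᶜ c = pCoreOf p (L^ᶜ c) := map_pCoreOf L c
  refine ⟨L^ᶜ c, ?_, K^ᶜ c, ?_, ?_, ?_, ⟨c * g, ?_⟩, ?_⟩
  · rw [← hA', ← conj_eq_self (le_normalizer_of_normal (H := Q) (mem_top c)), ← map_map_sup]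
    exact conj_mono (sup_le (haK.trans inf_le_left) hQL) c
  · rw [← hA', ← hO', ← map_map_sup]
    exact conj_mono hYK c
  · exact (map_lt_map_iff_of_injective (MulAut.conj c).injective).2 hKL
  · intro X hX hXL
    rw [← hA', ← hO', ← map_map_sup] at hX
    have h1 : X^ᶜ c⁻¹ < L := by
      have := (map_lt_map_iff_of_injective (f := (MulAut.conj c⁻¹).toMonoidHom)
        (MulAut.conj c⁻¹).injective).2 hXL
      rwa [conj_conj, inv_mul_cancel, conj_one] at this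
    have h2 := conj_mono (huniq' _ (conj_le_iff.1 hX) h1) c
    rwa [conj_conj, mul_inv_cancel, conj_one] at h2
  · rw [hK, Subgroup.map_inf _ _ _ (MulAut.conj c).injective, conj_conj]
  · intro x hx hxK
    rw [mem_conj] at hx hxK
    have h := hgen _ hx hxK
    conv_rhs => rw [← h]
    rw [map_map_sup, map_map_sup, hA', hO', conj_conj, hA₁, conj_conj]
    congr 3
    simp [c, mul_assoc]

end CfsgLib.YMinimal
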