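import Cfsg.Agent.CharP.WeakFactor
import Cfsg.Agent.CharP.LargeSubgroup
import Cfsg.Agent.Comp.Basic
import Cfsg.Agent.KGroup.SectionLayer
import Mathlib.GroupTheory.Nilpotent
import Mathlib.GroupTheory.Sylow

/-!
A large subgroup acting on an elementary abelian subgroup with quasisimple `O^p` on the section.
-/

set_option autoImplicit false
set_option linter.style.haveILetI false
set_option linter.unusedSectionVars false

namespace CfsgLib.LargeSection

open Subgroup Cfsg CfsgLib.YMinimal CfsgLib.WeakClosed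
open scoped commutatorElement

section Quotient

variable {X : Type*} [Group X] [Finite X] {p : ℕ} [Fact p.Prime]

/-- A subgroup normal in the group with quasisimple `O^p`: its trace on `O^p` is all or central. -/
theorem normal_cases {M : Subgroup X} [M.Normal] (hqs : Cfsg.IsQuasisimple ↥M) {N : Subgroup X}
    (hn : M ≤ normalizer (N : Set X)) : M ≤ N ∨ N ⊓ M ≤ centralizer (M : Set X) := by
  have hN : (N.subgroupOf M).Normal := by
    rw [← inf_subgroupOf_right]
    exact normal_subgroupOf_of_le_normalizer (le_trans (le_inf hn le_normalizer)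
      inf_normalizer_le_normalizer_inf)
  rcases Comp.quasisimple_normal hqs hN with h | h
  · exact Or.inl (subgroupOf_eq_top.1 h)
  · refine Or.inr fun x hx => mem_centralizer_iff.2 fun y hy => ?_
    exact congrArg Subtype.val (mem_center_iff.1 (h (show (⟨x, hx.2⟩ : ↥M) ∈ N.subgroupOf M from hx.1))
      ⟨y, hy⟩)

/-- A `p`-subgroup centralizing `O^p` is trivial. -/
theorem eq_bot_of_centralizes (hO : Cfsg.pCore p X = ⊥) {M : Subgroup X} [M.Normal]
    (hM : Cfsg.pResidual p X = M) {Y : Subgroup X} (hYp : IsPGroup p Y)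
    (hY : Y ≤ centralizer (M : Set X)) : Y = ⊥ := by
  set Cn := centralizer (M : Set X) with hCn
  have hp' : ∀ x : ↥Cn, (orderOf x).Coprime p → x ∈ center ↥Cn := by
    intro x hx
    have hxM : (x : X) ∈ M := hM ▸ CfsgLib.PResidual.mem_pResidual p (by rwa [Subgroup.orderOf_coe])
    exact mem_center_iff.2 fun y => Subtype.ext (mem_centralizer_iff.1 y.2 _ hxM).symm
  have hQ : IsPGroup p (↥Cn ⧸ center ↥Cn) := by
    intro g
    induction g using QuotientGroup.induction_on with
    | _ x =>
      obtain ⟨k, m, hm, hk⟩ := Nat.exists_eq_pow_mul_and_not_dvd (orderOf_pos x).ne' p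
        (Fact.out : p.Prime).ne_one
      refine ⟨k, ?_⟩
      rw [← QuotientGroup.mk_pow, QuotientGroup.eq_one_iff]
      refine hp' _ ?_
      rw [orderOf_pow' x (pow_pos (Fact.out : p.Prime).pos k).ne',
        Nat.gcd_eq_right (hk ▸ dvd_mul_right _ _), hk,
        Nat.mul_div_cancel_left _ (pow_pos (Fact.out : p.Prime).pos k)]
      exact ((Fact.out : p.Prime).coprime_iff_not_dvd.2 hm).symm
  haveI : Group.IsNilpotent (↥Cn ⧸ center ↥Cn) := hQ.isNilpotent
  haveI : Group.IsNilpotent ↥Cn := Group.of_quotient_center_nilpotent inferInstance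
  obtain ⟨P, hP⟩ := (hYp.comap_of_injective Cn.subtype Cn.subtype_injective).exists_le_sylow
  haveI hPn : (P : Subgroup ↥Cn).Normal := Sylow.normal_of_normalizerCondition
    normalizerCondition_of_isNilpotent P
  haveI : (P : Subgroup ↥Cn).Characteristic := P.characteristic_of_normal hPn
  have hle : (P : Subgroup ↥Cn).map Cn.subtype ≤ Cfsg.pCore p X :=
    le_sSup ⟨inferInstance, P.2.map _⟩
  rw [hO, le_bot_iff] at hle
  refine eq_bot_iff.2 fun y hy => ?_
  rw [← hle]
  exact ⟨⟨y, hY hy⟩, hP hy, rfl⟩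

theorem perfect_map {M : Subgroup X} (hqs : Cfsg.IsQuasisimple ↥M) : ⁅M, M⁆ = M := by
  haveI := hqs.1
  rw [← map_subtype_commutator, Group.IsPerfect.commutator_eq_top, ← MonoidHom.range_eq_map,
    range_subtype]

theorem centralizes_of_normal {M : Subgroup X} [M.Normal] (hqs : Cfsg.IsQuasisimple ↥M)
    {Y : Subgroup X} (h : ⁅Y, M⁆ ≤ centralizer (M : Set X)) : Y ≤ centralizer (M : Set X) :=
  Comp.le_centralizer_of_commutator_eq_bot (Comp.commutator_eq_bot_of_perfect (perfect_map hqs)
    (commutator_eq_bot_iff_le_centralizer.2 h))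

theorem residual_eq_of_weakClosure (hO : Cfsg.pCore p X = ⊥) {M : Subgroup X} [M.Normal]
    (hM : Cfsg.pResidual p X = M) (hqs : Cfsg.IsQuasisimple ↥M) {Q K W : Subgroup X}
    [hWn : W.Normal] [hKn : K.Normal] (hQp : IsPGroup p Q) (hW : W = Q ⊔ K) (hK : K ≤ M) :
    K = M ∨ Q = ⊥ := by
  rcases normal_cases hqs (N := K) le_normalizer_of_normal
    with h | h
  · exact Or.inl (le_antisymm hK h)
  refine Or.inr (eq_bot_of_centralizes hO hM hQp (centralizes_of_normal hqs ?_))
  rw [inf_eq_left.2 hK] at h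
  rcases normal_cases hqs (N := W) le_normalizer_of_normal with h2 | h2
  · exfalso
    have hMK : M ≤ K := by
      conv_lhs => rw [← hM]
      rw [Cfsg.pResidual, closure_le]
      intro x hx
      have hxM : x ∈ M := hM ▸ CfsgLib.PResidual.mem_pResidual p hx
      exact WeakFactor.mem_of_coprime hQp le_normalizer_of_normal (hW ▸ h2 hxM) hx
    refine Comp.quasisimple_center_ne_top hqs (eq_top_iff.2 fun x _ => ?_)
    exact mem_center_iff.2 fun y => Subtype.ext (mem_centralizer_iff.1 (h (hMK x.2)) y y.2)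
  · refine le_trans (le_inf ?_ ?_) h2
    · exact (commutator_mono (hW ▸ le_sup_left) le_rfl).trans (commutator_le_left W M)
    · exact commutator_le_right Q M

theorem commutator_eq_of_moving (hO : Cfsg.pCore p X = ⊥) {M : Subgroup X} [M.Normal]
    (hM : Cfsg.pResidual p X = M) (hqs : Cfsg.IsQuasisimple ↥M) {Y : Subgroup X}
    (hYp : IsPGroup p Y) (hY : Y ≠ ⊥) : ⁅M, Y⁆ = M := by
  rcases normal_cases hqs (N := ⁅M, Y⁆) (Baumann_le_normalizer M Y) with h | h
  · exact le_antisymm (commutator_le_left M Y) h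
  · refine absurd (eq_bot_of_centralizes hO hM hYp (centralizes_of_normal hqs ?_)) hY
    rw [commutator_comm]
    exact le_trans (le_inf le_rfl (commutator_le_left M Y)) h
where
  Baumann_le_normalizer (A B : Subgroup X) : A ≤ normalizer ((⁅A, B⁆ : Subgroup X) : Set X) := by
    intro a ha
    refine mem_normalizer_of_conj_le ?_
    rw [map_commutator, commutator_le]
    rintro _ ⟨x, hx, rfl⟩ _ ⟨y, hy, rfl⟩
    show ⁅a * x * a⁻¹, a * y * a⁻¹⁆ ∈ ⁅A, B⁆
    have h2 : ⁅a * x * a⁻¹, a * y * a⁻¹⁆ = a * ⁅x, y⁆ * a⁻¹ := by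
      simp only [commutatorElement_def]; group
    have h3 : a * ⁅x, y⁆ * a⁻¹ = ⁅a * x, y⁆ * (⁅a, y⁆)⁻¹ := by
      simp only [commutatorElement_def]; group
    rw [h2, h3]
    exact mul_mem (commutator_mem_commutator (mul_mem ha hx) hy)
      (inv_mem (commutator_mem_commutator ha hy))

end Quotient

variable {G : Type*} [Group G] [Finite G] {p : ℕ} [Fact p.Prime]

theorem normalizer_le_normalizer_derived (K : Subgroup G) :
    normalizer (K : Set G) ≤ normalizer ((⁅K, K⁆ : Subgroup G) : Set G) := fun g hg =>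
  mem_normalizer_of_conj_le (by rw [map_commutator, conj_eq_self hg])

theorem main {Q : Subgroup G} (hQp : IsPGroup p ↥Q) (hQ : Cfsg.IsLarge Q) {U : Subgroup G}
    (hU : Cfsg.IsElementaryAbelian p U) (hU1 : U ≠ ⊥) {E : Subgroup G} (hQE : Q ≤ E)
    (hEU : E ≤ normalizer (U : Set G)) (hQn : ¬ E ≤ normalizer (Q : Set G))
    [hn : ((centralizer (U : Set G)).subgroupOf E).Normal]
    (hred : Cfsg.pCore p (↥E ⧸ (centralizer (U : Set G)).subgroupOf E) = ⊥)
    (hqs : Cfsg.IsQuasisimple ↥(((Cfsg.pResidual p ↥E) ⊔ (centralizer (U : Set G)).subgroupOf E).map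
      (QuotientGroup.mk' ((centralizer (U : Set G)).subgroupOf E))))
    {K : Subgroup G} (hK : K = pResidualOf p (weakClosure Q E))
    [hn2 : ((centralizer (U : Set G)).subgroupOf K).Normal] :
    pResidualOf p E ⊔ (E ⊓ centralizer (U : Set G)) = K ⊔ (E ⊓ centralizer (U : Set G)) ∧
      ⁅K, K⁆ = K ∧ pResidualOf p K = K ∧
      Cfsg.IsQuasisimple (↥K ⧸ (centralizer (U : Set G)).subgroupOf K) ∧
      Cfsg.IsQuasisimple (↥K ⧸ Cfsg.pCore p ↥K) ∧
      ∀ Y : Subgroup G, Y ≤ E → IsPGroup p ↥Y → ¬ Y ≤ centralizer (U : Set G) → ⁅K, Y⁆ = K := by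
  classical
  have hwc := large_isWeaklyClosed hQp hQ
  have hUp : IsPGroup p U := fun u => ⟨1, Subtype.ext (by simpa using hU.2 u u.2)⟩
  set C := centralizer (U : Set G) with hC
  set W := weakClosure Q E with hWdef
  have hWE : W ≤ E := iSup_le fun g => g.2
  obtain ⟨-, hWC, hCW⟩ := weakClosure_centralizer hQp hQ hQE hUp hU1 hEU
  obtain ⟨hWKQ, hKQ⟩ := WeakFactor.weakClosure_structure hwc hQp hQE
  rw [← hK] at hWKQ hKQ
  rw [← hWdef] at hWKQ hWC hCW
  have hKW : K ≤ W := hK ▸ map_subtype_le _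
  have hKE : K ≤ E := hKW.trans hWE
  have hWn : E ≤ normalizer (W : Set G) := WeakFactor.le_normalizer_weakClosure
  have hEK : E ≤ normalizer (K : Set G) :=
    hK ▸ hWn.trans (WeakFactor.normalizer_le_normalizer_pResidualOf W)
  have hres : pResidualOf p K = K := by
    refine le_antisymm (map_subtype_le _) ?_
    conv_lhs => rw [hK]
    refine WeakFactor.pResidualOf_le fun x hx ho => WeakFactor.mem_pResidualOf ?_ ho
    rw [hK]
    exact WeakFactor.mem_pResidualOf hx ho
  -- the section
  set N := C.subgroupOf E with hN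
  let π : ↥E →* ↥E ⧸ N := QuotientGroup.mk' N
  have hπ : Function.Surjective π := QuotientGroup.mk'_surjective N
  let bar : Subgroup G → Subgroup (↥E ⧸ N) := fun A => (A.subgroupOf E).map π
  set M := ((Cfsg.pResidual p ↥E) ⊔ N).map π with hMdef
  have hM : Cfsg.pResidual p (↥E ⧸ N) = M := by
    rw [hMdef, Subgroup.map_sup, (Subgroup.map_eq_bot_iff _).2 (le_of_eq (QuotientGroup.ker_mk' N).symm),
      sup_bot_eq]
    refine le_antisymm ?_ ?_
    · rw [Cfsg.pResidual, closure_le]
      intro y hy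
      obtain ⟨x, rfl⟩ := hπ y
      obtain ⟨j, hj⟩ : ∃ j : ℕ, π x ^ (p ^ j) = π (x ^ (p ^ j)) ∧ (orderOf (x ^ p ^ j)).Coprime p := by
        obtain ⟨k, m, hm, hk⟩ := Nat.exists_eq_pow_mul_and_not_dvd (orderOf_pos x).ne' p
          (Fact.out : p.Prime).ne_one
        refine ⟨k, (map_pow π x _).symm, ?_⟩
        rw [orderOf_pow' x (pow_pos (Fact.out : p.Prime).pos k).ne',
          Nat.gcd_eq_right (hk ▸ dvd_mul_right _ _), hk,
          Nat.mul_div_cancel_left _ (pow_pos (Fact.out : p.Prime).pos k)]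
        exact ((Fact.out : p.Prime).coprime_iff_not_dvd.2 hm).symm
      obtain ⟨i, hi⟩ := exists_pow_eq_self_of_coprime (x := π x) (n := p ^ j)
        ((Nat.Coprime.pow_right j hy).symm)
      refine ⟨(x ^ p ^ j) ^ i, pow_mem (CfsgLib.PResidual.mem_pResidual p hj.2) i, ?_⟩
      rw [map_pow, ← hj.1, hi]
    · rw [Cfsg.pResidual, MonoidHom.map_closure, closure_le]
      rintro _ ⟨x, hx, rfl⟩
      exact CfsgLib.PResidual.mem_pResidual p (Nat.Coprime.coprime_dvd_left (orderOf_map_dvd π x) hx)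
  haveI : M.Normal := hM ▸ CfsgLib.PResidual.pResidual_normal p
  have hbar_mem : ∀ {A : Subgroup G} {x : G} (hx : x ∈ E), x ∈ A → π ⟨x, hx⟩ ∈ bar A :=
    fun {A x} hx hA => mem_map_of_mem π (show (⟨x, hx⟩ : ↥E) ∈ A.subgroupOf E from hA)
  have hbar_le : ∀ {A B : Subgroup G}, A ≤ E → bar A ≤ bar B → A ≤ B ⊔ (E ⊓ C) := by
    intro A B hA h a ha
    obtain ⟨b, hb, he⟩ := h (hbar_mem (hA ha) ha)
    rw [QuotientGroup.mk'_eq_mk'] at he
    obtain ⟨c, hc, hbc⟩ := he
    have : (b : G) * c = a := congrArg Subtype.val hbc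
    rw [← this]
    exact mul_mem_sup hb ⟨c.2, hc⟩
  have hbar_p : ∀ {A : Subgroup G}, IsPGroup p A → IsPGroup p (bar A) := fun hA =>
    (hA.comap_of_injective E.subtype E.subtype_injective).map π
  have hbar_bot : ∀ {A : Subgroup G}, A ≤ E → (bar A = ⊥ ↔ A ≤ C) := by
    intro A hA
    constructor
    · intro h a ha
      have h1 := hbar_mem (hA ha) ha
      rw [h, mem_bot, QuotientGroup.mk'_apply, QuotientGroup.eq_one_iff] at h1
      exact h1
    · intro h
      rw [Subgroup.map_eq_bot_iff, QuotientGroup.ker_mk']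
      exact fun a ha => h ha
  have hbar_normal : ∀ {A : Subgroup G}, E ≤ normalizer (A : Set G) → (bar A).Normal := fun hA =>
    (normal_subgroupOf_of_le_normalizer hA).map π hπ
  have hbar_comm : ∀ {A B : Subgroup G}, A ≤ E → B ≤ E → bar ⁅A, B⁆ = ⁅bar A, bar B⁆ := by
    intro A B hA hB
    simp only [bar]
    rw [← map_commutator]
    congr 1
    apply map_injective E.subtype_injective
    rw [map_commutator, map_subgroupOf_eq_of_le hA, map_subgroupOf_eq_of_le hB,
      map_subgroupOf_eq_of_le]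
    rw [commutator_le]
    intro a ha b hb
    rw [commutatorElement_def]
    exact mul_mem (mul_mem (mul_mem (hA ha) (hB hb)) (inv_mem (hA ha))) (inv_mem (hB hb))
  have hbarK : bar K ≤ M := by
    rw [← hM]
    rintro _ ⟨x, hx, rfl⟩
    have hle : K ≤ ((Cfsg.pResidual p (↥E ⧸ N)).comap π).map E.subtype := by
      conv_lhs => rw [← hres]
      refine WeakFactor.pResidualOf_le fun y hy ho => ?_
      refine ⟨⟨y, hKE hy⟩, CfsgLib.PResidual.mem_pResidual p
        (Nat.Coprime.coprime_dvd_left (orderOf_map_dvd π _) ?_), rfl⟩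
      rwa [← Subgroup.orderOf_coe]
    obtain ⟨y, hy, hyx⟩ := hle hx
    rwa [← Subtype.ext hyx]
  have hbarW : bar W = bar Q ⊔ bar K := by
    show (W.subgroupOf E).map π = _
    rw [hWKQ, subgroupOf_sup hKE hQE, Subgroup.map_sup, sup_comm]
  haveI := hbar_normal hWn
  haveI := hbar_normal hEK
  have hKM : bar K = M := by
    refine (residual_eq_of_weakClosure hred hM hqs (hbar_p hQp) hbarW hbarK).resolve_right
      fun h => hQn fun e he => ?_
    have hQC : Q ≤ C := (hbar_bot hQE).1 h
    have hCQ : C ≤ normalizer (Q : Set G) :=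
      centralizer_le_normalizer_large hQp hQ hUp hU1 (hQE.trans hEU)
    have hconj : Q.map (MulAut.conj e).toMonoidHom ≤ normalizer (Q : Set G) :=
      ((Subgroup.map_mono hQC).trans (conj_eq_self
        (hEU.trans (FrakM.normalizer_le_normalizer_centralizer U) he)).le).trans hCQ
    exact mem_normalizer_of_conj_le (eq_of_le hwc (R := Q.map (MulAut.conj e).toMonoidHom ⊔ Q)
      (isPGroup_sup_of_le_normalizer (hQp.map _) hQp hconj) le_sup_right le_sup_left).le
  have h1 : pResidualOf p E ⊔ (E ⊓ C) = K ⊔ (E ⊓ C) := by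
    refine le_antisymm (sup_le ?_ le_sup_right) (sup_le ?_ le_sup_right)
    · refine hbar_le (map_subtype_le _) ?_
      rw [hKM, hMdef]
      refine Subgroup.map_mono (le_trans ?_ le_sup_left)
      rw [pResidualOf, subgroupOf, comap_map_eq_self_of_injective E.subtype_injective]
    · refine le_trans ?_ le_sup_left
      conv_lhs => rw [← hres]
      exact WeakFactor.pResidualOf_le fun y hy ho => WeakFactor.mem_pResidualOf (hKE hy) ho
  -- consequences
  set R := pCoreOf p W
  have hRK : R ⊓ K ≤ pCoreOf p K := le_pCoreOf inf_le_right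
    ((le_inf (hKW.trans (le_normalizer_pCoreOf W)) le_normalizer).trans
      inf_normalizer_le_normalizer_inf) ((isPGroup_pCoreOf W).to_le inf_le_left)
  have hcent : ⁅K ⊓ C, K⁆ ≤ pCoreOf p K := by
    refine le_trans (le_inf ?_ ?_) hRK
    · rw [commutator_comm]
      exact (commutator_mono hKW inf_le_right).trans hWC
    · exact (commutator_mono inf_le_left le_rfl).trans (commutator_le_self K)
  have hQK : Q ≤ normalizer (K : Set G) := hQE.trans hEK
  -- a normal subgroup of `K` with `p`-quotient is `K`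
  have hfull : ∀ {A : Subgroup G}, K ≤ normalizer (A : Set G) → K ≤ A ⊔ pCoreOf p K → K ≤ A := by
    intro A hA h
    conv_lhs => rw [← hres]
    refine WeakFactor.pResidualOf_le fun y hy ho => ?_
    exact WeakFactor.mem_of_coprime (isPGroup_pCoreOf K) ((map_subtype_le _).trans hA)
      (by rw [sup_comm]; exact h hy) ho
  have hperf : ⁅K, K⁆ = K := by
    refine le_antisymm (commutator_le_self K) ?_
    have hKKn : K ≤ normalizer ((⁅K, K⁆ : Subgroup G) : Set G) :=
      le_normalizer.trans (normalizer_le_normalizer_derived K)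
    have hKK : K ≤ ⁅K, K⁆ ⊔ (E ⊓ C) := by
      refine hbar_le hKE (le_of_eq ?_)
      rw [hbar_comm hKE hKE, hKM, perfect_map hqs]
    have hR : R ⊓ K ≤ ⁅K, K⁆ := by
      intro y hy
      have hd := hRK hy
      obtain ⟨k, hk⟩ := isPGroup_pCoreOf K ⟨y, hd⟩
      haveI : ((⁅K, K⁆ : Subgroup G).subgroupOf K).Normal := normal_subgroupOf_of_le_normalizer hKKn
      have h' : ∀ (a : ↥K), a ∈ Cfsg.pResidual p ↥K →
          (orderOf (QuotientGroup.mk' ((⁅K, K⁆ : Subgroup G).subgroupOf K) a)).Coprime p := by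
        intro a ha
        induction ha using closure_induction with
        | mem b hb => exact Nat.Coprime.coprime_dvd_left (orderOf_map_dvd _ b) hb
        | one => simp
        | mul b c _ _ hb hc =>
          rw [map_mul]
          refine Nat.Coprime.coprime_dvd_left (Commute.orderOf_mul_dvd_lcm ?_)
            (Nat.Coprime.coprime_dvd_left (Nat.lcm_dvd_mul _ _) (Nat.Coprime.mul_left hb hc))
          rw [Commute, SemiconjBy, ← map_mul, ← map_mul]
          refine (QuotientGroup.eq).2 ?_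
          show (((b * c)⁻¹ * (c * b) : ↥K) : G) ∈ ⁅K, K⁆
          have := commutator_mem_commutator (inv_mem c.2) (inv_mem b.2) (H₁ := K) (H₂ := K)
          simpa [commutatorElement_def, mul_assoc] using this
        | inv b _ hb => rwa [map_inv, orderOf_inv]
      have htop : (⟨y, hy.2⟩ : ↥K) ∈ Cfsg.pResidual p ↥K := by
        have : y ∈ pResidualOf p K := by rw [hres]; exact hy.2
        obtain ⟨w, hw, hwy⟩ := this
        rwa [← show w = ⟨y, hy.2⟩ from Subtype.ext hwy]
      have h2 := h' _ htop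
      have h3 : orderOf (QuotientGroup.mk' ((⁅K, K⁆ : Subgroup G).subgroupOf K) ⟨y, hy.2⟩) ∣ p ^ k := by
        refine orderOf_dvd_of_pow_eq_one ?_
        rw [← map_pow, show (⟨y, hy.2⟩ : ↥K) ^ p ^ k = 1 from Subtype.ext (by
          simpa [Subtype.ext_iff] using hk), map_one]
      have h4 := Nat.eq_one_of_dvd_coprimes (h2.pow_right k) dvd_rfl h3
      rw [orderOf_eq_one_iff, QuotientGroup.mk'_apply, QuotientGroup.eq_one_iff] at h4
      exact h4
    have hQn' : Q ≤ normalizer ((⁅K, K⁆ : Subgroup G) : Set G) :=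
      hQK.trans (normalizer_le_normalizer_derived K)
    calc K = ⁅K, Q⁆ := hKQ.symm
      _ ≤ ⁅K, K⁆ := by
        refine commutator_le.2 fun k hk q hq => ?_
        have hmem : k ∈ (E ⊓ C) ⊔ ⁅K, K⁆ := by rw [sup_comm]; exact hKK hk
        have hn' : E ⊓ C ⊓ K ≤ normalizer ((⁅K, K⁆ : Subgroup G) : Set G) := inf_le_right.trans hKKn
        have : k ∈ (E ⊓ C ⊓ K) ⊔ ⁅K, K⁆ := by
          have hnc : ⁅K, K⁆ ≤ normalizer ((E ⊓ C : Subgroup G) : Set G) :=
            ((commutator_le_self K).trans hKE).trans ((le_inf le_normalizer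
              (hEU.trans (FrakM.normalizer_le_normalizer_centralizer U))).trans
              inf_normalizer_le_normalizer_inf)
          obtain ⟨a, ha, b, hb, rfl⟩ := FrakM.exists_mul_of_mem_sup hnc (hKK hk)
          rw [sup_comm]
          refine mul_mem_sup ha ⟨hb, ?_⟩
          have := mul_mem (inv_mem (commutator_le_self K ha)) hk
          simpa using this
        obtain ⟨c, hc, d, hd, rfl⟩ := FrakM.exists_mul_of_mem_sup hn' this
        rw [show ⁅c * d, q⁆ = c * ⁅d, q⁆ * c⁻¹ * ⁅c, q⁆ by simp only [commutatorElement_def]; group]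
        refine mul_mem ((mem_normalizer_iff.1 (hKKn hc.2) _).1 ?_) (hR ⟨?_, ?_⟩)
        · rw [commutatorElement_def, mul_assoc, mul_assoc, ← mul_assoc q]
          exact mul_mem hd ((mem_normalizer_iff.1 (hQn' hq) _).1 (inv_mem hd))
        · exact hWC ((commutator_comm C W).le (commutator_mem_commutator hc.1.2
            (hWKQ.ge (mem_sup_right hq))))
        · rw [commutatorElement_def, mul_assoc, mul_assoc, ← mul_assoc q]
          exact mul_mem hc.2 ((mem_normalizer_iff.1 (hQK hq) _).1 (inv_mem hc.2))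
  have hKperf : Group.IsPerfect ↥K := ⟨map_injective K.subtype_injective (by
    rw [map_subtype_commutator, hperf, ← MonoidHom.range_eq_map, range_subtype])⟩
  -- `K / C_K(U)`
  let f : ↥K →* ↥M := (π.comp (Subgroup.inclusion hKE)).codRestrict M fun x =>
    hKM.le (hbar_mem (hKE x.2) x.2)
  have hfs : Function.Surjective f := by
    rintro ⟨y, hy⟩
    obtain ⟨x, hx, rfl⟩ := hKM.ge hy
    exact ⟨⟨(x : G), hx⟩, rfl⟩
  have hfk : f.ker = C.subgroupOf K := by
    ext x
    rw [MonoidHom.mem_ker, mem_subgroupOf]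
    show f x = 1 ↔ _
    rw [Subtype.ext_iff]
    show π (Subgroup.inclusion hKE x) = 1 ↔ _
    rw [QuotientGroup.mk'_apply, QuotientGroup.eq_one_iff]
    rfl
  have hq1 : Cfsg.IsQuasisimple (↥K ⧸ C.subgroupOf K) :=
    Comp.isQuasisimple_of_equiv
      ((QuotientGroup.quotientMulEquivOfEq hfk.symm).trans
        (QuotientGroup.quotientKerEquivOfSurjective f hfs)).symm hqs
  have hDC : pCoreOf p K ≤ C := by
    have hDn : E ≤ normalizer (pCoreOf p K : Set G) :=
      hEK.trans (FrakM.normalizer_le_normalizer_pCoreOf K)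
    haveI : (bar (pCoreOf p K)).Normal := hbar_normal hDn
    refine (hbar_bot (A := pCoreOf p K) ((map_subtype_le _).trans hKE)).1 (le_bot_iff.1 (hred ▸ ?_))
    exact le_sSup ⟨inferInstance, hbar_p (isPGroup_pCoreOf K)⟩
  have hq2 : Cfsg.IsQuasisimple (↥K ⧸ Cfsg.pCore p ↥K) := by
    haveI := hn2
    have hle : Cfsg.pCore p ↥K ≤ (C.subgroupOf K).comap (MonoidHom.id ↥K) := fun x hx =>
      hDC (mem_map_of_mem K.subtype hx)
    refine CfsgLib.SectionLayer.isQuasisimple_of_central
      (QuotientGroup.map (Cfsg.pCore p ↥K) (C.subgroupOf K) (MonoidHom.id _) hle)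
      (fun y => ?_) ?_ ?_ hq1
    · induction y using QuotientGroup.induction_on with
      | _ x => exact ⟨QuotientGroup.mk x, rfl⟩
    · intro y hy
      induction y using QuotientGroup.induction_on with
      | _ x =>
        have hxC : x ∈ C.subgroupOf K := (QuotientGroup.eq_one_iff x).1 hy
        refine mem_center_iff.2 fun w => ?_
        induction w using QuotientGroup.induction_on with
        | _ w =>
          rw [← QuotientGroup.mk_mul, ← QuotientGroup.mk_mul]
          refine QuotientGroup.eq.2 ?_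
          have h := hcent (commutator_mem_commutator (Subgroup.mem_inf.2
            ⟨(x⁻¹).2, inv_mem hxC⟩) (inv_mem w.2))
          obtain ⟨v, hv, he⟩ := h
          rw [show (w * x)⁻¹ * (x * w) = v from Subtype.ext (by
            rw [show ((v : ↥K) : G) = _ from he]
            simp [commutatorElement_def, mul_assoc])]
          exact hv
    · exact hKperf.ofSurjective (QuotientGroup.mk'_surjective _)
  refine ⟨h1, hperf, hres, hq1, hq2, fun Y hYE hYp hYC => ?_⟩
  have hYK : Y ≤ normalizer (K : Set G) := hYE.trans hEK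
  have hle : ⁅K, Y⁆ ≤ K := commutator_le.2 fun k hk y hy => by
    rw [commutatorElement_def, mul_assoc, mul_assoc, ← mul_assoc y]
    exact mul_mem hk ((mem_normalizer_iff.1 (hYK hy) _).1 (inv_mem hk))
  refine le_antisymm hle ?_
  have hKn : K ≤ normalizer ((⁅K, Y⁆ : Subgroup G) : Set G) := fun k hk =>
    mem_normalizer_of_conj_le (by
      rw [map_commutator, commutator_le]
      rintro _ ⟨x, hx, rfl⟩ _ ⟨y, hy, rfl⟩
      show ⁅k * x * k⁻¹, k * y * k⁻¹⁆ ∈ ⁅K, Y⁆
      rw [show ⁅k * x * k⁻¹, k * y * k⁻¹⁆ = ⁅k * x, y⁆ * (⁅k, y⁆)⁻¹ by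
        simp only [commutatorElement_def]; group]
      exact mul_mem (commutator_mem_commutator (mul_mem hk hx) hy)
        (inv_mem (commutator_mem_commutator hk hy)))
  have hK2 : K ≤ ⁅K, Y⁆ ⊔ (E ⊓ C) := by
    refine hbar_le hKE (le_of_eq ?_)
    rw [hbar_comm hKE hYE, hKM]
    exact (commutator_eq_of_moving hred hM hqs (hbar_p hYp)
      (fun h => hYC ((hbar_bot hYE).1 h))).symm
  refine hfull hKn ?_
  -- `K = [K, K]` maps into `[K, Y] O_p(K)`
  set A := ⁅K, Y⁆ ⊔ pCoreOf p K
  have hAK : K ≤ normalizer (A : Set G) := le_trans (le_inf hKn (le_normalizer_pCoreOf K))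
    (normalizer_inf_normalizer_le_normalizer_sup _ _)
  haveI : (A.subgroupOf K).Normal := normal_subgroupOf_of_le_normalizer hAK
  have hnc : ⁅K, Y⁆ ≤ normalizer ((E ⊓ C : Subgroup G) : Set G) :=
    (hle.trans hKE).trans ((le_inf le_normalizer
      (hEU.trans (FrakM.normalizer_le_normalizer_centralizer U))).trans
      inf_normalizer_le_normalizer_inf)
  have hcomm : ∀ a ∈ K, ∀ b ∈ K, ⁅a, b⁆ ∈ A := by
    intro a ha b hb
    obtain ⟨y, hy, c, hc, rfl⟩ := FrakM.exists_mul_of_mem_sup hnc (hK2 ha)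
    have hcK : c ∈ K := by simpa using mul_mem (inv_mem (hle hy)) ha
    rw [show ⁅y * c, b⁆ = y * ⁅c, b⁆ * y⁻¹ * ⁅y, b⁆ by simp only [commutatorElement_def]; group]
    refine mul_mem ((mem_normalizer_iff.1 (hAK (hle hy)) _).1
      (mem_sup_right (hcent (commutator_mem_commutator (Subgroup.mem_inf.2 ⟨hcK, hc.2⟩) hb)))) ?_
    rw [commutatorElement_def, mul_assoc, mul_assoc, ← mul_assoc b]
    exact mul_mem (mem_sup_left hy)
      ((mem_normalizer_iff.1 (hAK hb) _).1 (inv_mem (mem_sup_left hy)))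
  calc K = ⁅K, K⁆ := hperf.symm
    _ ≤ A := commutator_le.2 hcomm

end CfsgLib.LargeSection
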