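import Cfsg.Agent.CharP.Stabilizer
import Cfsg.Agent.CharP.PIrreducible

/-!
Fixed points of non-p-elements on `O_p(L)` in a minimal group `L` over an abelian subgroup `Y`.
-/

set_option autoImplicit false
set_option linter.style.haveILetI false
set_option linter.unusedSectionVars false

namespace CfsgLib.MinFpf

open Subgroup
open scoped commutatorElement

variable {L : Type*} [Group L] [Finite L] {p : ℕ} [Fact p.Prime]

/-- An abelian `p`-subgroup `Y` with `N(Y)` the only maximal subgroup containing it, together with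
`A = O_p(L)` generated by the conjugates of `Y ∩ A`. -/
structure Setup (p : ℕ) (Y A : Subgroup L) : Prop where
  eq_pCore : A = Cfsg.pCore p L
  char : centralizer (A : Set L) ≤ A
  isPGroup : IsPGroup p Y
  comm : ∀ a ∈ Y, ∀ b ∈ Y, a * b = b * a
  norm : A ≤ normalizer (Y : Set L)
  gen : A ≤ normalClosure ((Y ⊓ A : Subgroup L) : Set L)
  closure_eq : normalClosure (Y : Set L) = ⊤
  max : ∀ X : Subgroup L, Y ≤ X → X ≠ ⊤ → X ≤ normalizer (Y : Set L)
  ne : normalizer (Y : Set L) ≠ ⊤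

variable {Y A : Subgroup L}

theorem Setup.normal (h : Setup p Y A) : A.Normal := h.eq_pCore ▸ Solvable.pCore_normal p

theorem Setup.pA (h : Setup p Y A) : IsPGroup p A := h.eq_pCore ▸ Solvable.isPGroup_pCore p

/-- The conjugate `gYg⁻¹`. -/
abbrev cjY (Y : Subgroup L) (g : L) : Subgroup L := Y.map (MulAut.conj g).toMonoidHom

theorem mem_cjY {g z : L} : z ∈ cjY Y g ↔ g⁻¹ * z * g ∈ Y :=
  ⟨fun ⟨w, hw, hwz⟩ => by
    rw [show g⁻¹ * z * g = w by rw [← hwz]; simp [mul_assoc]]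
    exact hw,
  fun h => ⟨_, h, by simp [mul_assoc]⟩⟩

theorem Setup.normalizer_cjY (h : Setup p Y A) (g : L) : A ≤ normalizer (cjY Y g : Set L) := by
  intro a ha
  have hag : g⁻¹ * a * g ∈ A := by simpa using h.normal.conj_mem a ha g⁻¹
  refine mem_normalizer_fintype fun z hz => ?_
  rw [SetLike.mem_coe, mem_cjY] at hz ⊢
  have := (mem_normalizer_iff.mp (h.norm hag) _).mp hz
  rw [show g⁻¹ * (a * z * a⁻¹) * g = (g⁻¹ * a * g) * (g⁻¹ * z * g) * (g⁻¹ * a * g)⁻¹ by group]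
  exact this

theorem Setup.max_cjY (h : Setup p Y A) (g : L) {X : Subgroup L} (hX : cjY Y g ≤ X) (hne : X ≠ ⊤)
    {x : L} (hx : x ∈ X) : g⁻¹ * x * g ∈ normalizer (Y : Set L) := by
  have h1 := h.max (X.map (MulAut.conj g⁻¹).toMonoidHom) (fun y hy => ⟨g * y * g⁻¹,
    hX ⟨y, hy, rfl⟩, by simp [mul_assoc]⟩) (fun he => hne ?_)
  · exact h1 ⟨x, hx, by simp⟩
  · refine eq_top_iff.mpr fun z _ => ?_
    obtain ⟨w, hw, hwz⟩ := (eq_top_iff.mp he) (mem_top (g⁻¹ * z * g))
    have : w = z := (MulAut.conj g⁻¹).injective (by simpa [mul_assoc] using hwz)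
    exact this ▸ hw

/-- Two distinct conjugates generate. -/
theorem Setup.sup_eq_top (h : Setup p Y A) {g : L} (hg : g ∉ normalizer (Y : Set L)) :
    Y ⊔ cjY Y g = ⊤ := by
  by_contra hne
  set B := normalizer (Y : Set L) with hB
  have h1 : cjY Y g ≤ B := le_sup_right.trans (h.max _ le_sup_left hne)
  have h2 : ∀ x ∈ B, g⁻¹ * x * g ∈ B := fun x hx => h.max_cjY g h1 h.ne hx
  have hgB : g⁻¹ ∈ normalizer (B : Set L) := mem_normalizer_fintype fun x hx => by
    simpa using h2 x hx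
  by_cases htop : normalizer (B : Set L) = ⊤
  · haveI := normalizer_eq_top_iff.mp htop
    exact h.ne (top_le_iff.mp (h.closure_eq ▸ normalClosure_le_normal (fun y hy => le_normalizer hy)))
  · exact hg (inv_mem_iff.mp (h.max _ ((le_normalizer).trans le_normalizer) htop hgB))

/-- The central part of `Y`. -/
abbrev cen (Y : Subgroup L) : Subgroup L := Y ⊓ center L

theorem Setup.inter (h : Setup p Y A) {g z : L} (hg : g ∉ normalizer (Y : Set L)) (hz : z ∈ Y)
    (hz' : z ∈ cjY Y g) : z ∈ cen Y := by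
  refine ⟨hz, ?_⟩
  have : ⊤ ≤ centralizer ({z} : Set L) := by
    rw [← h.sup_eq_top hg]
    refine sup_le (fun w hw => mem_centralizer_singleton_iff.mpr (h.comm w hw z hz)) fun w hw => ?_
    rw [mem_cjY] at hw hz'
    refine mem_centralizer_singleton_iff.mpr ?_
    have := h.comm _ hw _ hz'
    calc w * z = g * ((g⁻¹ * w * g) * (g⁻¹ * z * g)) * g⁻¹ := by group
      _ = z * w := by rw [this]; group
  exact mem_center_iff.mpr fun w => mem_centralizer_singleton_iff.mp (this (mem_top w))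

theorem Setup.sup_inf (h : Setup p Y A) {g : L} (hg : g ∉ normalizer (Y : Set L)) :
    A ≤ (Y ⊓ A) ⊔ (cjY Y g ⊓ A) := by
  haveI := h.normal
  set P := (Y ⊓ A) ⊔ (cjY Y g ⊓ A) with hP
  have hPA : P ≤ A := sup_le inf_le_right inf_le_right
  have hnorm : ∀ Z : Subgroup L, A ≤ normalizer (Z : Set L) → Z ⊓ A ≤ P →
      Z ≤ normalizer (P : Set L) := by
    intro Z hZ hZP z hz
    refine mem_normalizer_fintype fun c hc => ?_
    have h1 : ⁅z, c⁆ ∈ Z ⊓ A := by
      refine ⟨?_, ?_⟩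
      · rw [show ⁅z, c⁆ = z * (c * z⁻¹ * c⁻¹) by simp [commutatorElement_def, mul_assoc]]
        exact Z.mul_mem hz ((mem_normalizer_iff.mp (hZ (hPA hc)) _).mp (Z.inv_mem hz))
      · exact A.mul_mem (Normal.conj_mem inferInstance c (hPA hc) z) (A.inv_mem (hPA hc))
    rw [show z * c * z⁻¹ = ⁅z, c⁆ * c by simp [commutatorElement_def]]
    exact P.mul_mem (hZP h1) hc
  haveI : P.Normal := normalizer_eq_top_iff.mp (top_le_iff.mp ((h.sup_eq_top hg).ge.trans
    (sup_le (hnorm Y h.norm le_sup_left) (hnorm _ (h.normalizer_cjY g) le_sup_right))))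
  exact h.gen.trans (normalClosure_le_normal fun x hx => mem_sup_left hx)

instance cen_normal : (cen Y).Normal :=
  ⟨fun z hz g => by rw [mem_center_iff.mp hz.2 g, mul_inv_cancel_right]; exact hz⟩

/-- The natural map onto `L/C_Y(L)`. -/
abbrev qc (Y : Subgroup L) : L →* L ⧸ cen Y := QuotientGroup.mk' (cen Y)

theorem qc_eq_one {z : L} : qc Y z = 1 ↔ z ∈ cen Y := QuotientGroup.eq_one_iff z

theorem Setup.exists_not_mem (h : Setup p Y A) : ∃ g, g ∉ normalizer (Y : Set L) := by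
  by_contra hc
  push Not at hc
  exact h.ne (eq_top_iff.mpr fun g _ => hc g)

theorem Setup.exists_decomp (h : Setup p Y A) {g a : L} (hg : g ∉ normalizer (Y : Set L))
    (ha : a ∈ A) : ∃ w ∈ Y ⊓ A, ∃ v ∈ cjY Y g ⊓ A, w * v = a := by
  have hn : Y ⊓ A ≤ normalizer ((cjY Y g ⊓ A : Subgroup L) : Set L) := fun w hw =>
    mem_normalizer_fintype fun z hz => ⟨(mem_normalizer_iff.mp (h.normalizer_cjY g hw.2) z).mp hz.1,
      h.normal.conj_mem z hz.2 w⟩
  have := h.sup_inf hg ha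
  rwa [← SetLike.mem_coe, coe_mul_of_left_le_normalizer_right _ _ hn, Set.mem_mul] at this

theorem Setup.qc_comm (h : Setup p Y A) {a b : L} (ha : a ∈ A) (hb : b ∈ A) :
    Commute (qc Y a) (qc Y b) := by
  obtain ⟨g, hg⟩ := h.exists_not_mem
  have hwv : ∀ w ∈ Y ⊓ A, ∀ v ∈ cjY Y g ⊓ A, Commute (qc Y w) (qc Y v) := by
    intro w hw v hv
    refine commutatorElement_eq_one_iff_mul_comm.mp ?_
    rw [← map_commutatorElement, qc_eq_one]
    refine h.inter hg ?_ ?_
    · rw [show ⁅w, v⁆ = w * (v * w⁻¹ * v⁻¹) by simp [commutatorElement_def, mul_assoc]]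
      exact mul_mem hw.1 ((mem_normalizer_iff.mp (h.norm hv.2) _).mp (inv_mem hw.1))
    · exact mul_mem ((mem_normalizer_iff.mp (h.normalizer_cjY g hw.2) _).mp hv.1) (inv_mem hv.1)
  have hYY : ∀ g' : L, ∀ u ∈ cjY Y g', ∀ v ∈ cjY Y g', Commute u v := by
    rintro g' _ ⟨u, hu, rfl⟩ _ ⟨v, hv, rfl⟩
    exact (show Commute u v from h.comm u hu v hv).map _
  obtain ⟨w, hw, v, hv, rfl⟩ := h.exists_decomp hg ha
  obtain ⟨w', hw', v', hv', rfl⟩ := h.exists_decomp hg hb
  rw [map_mul, map_mul]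
  exact (((show Commute w w' from h.comm w hw.1 w' hw'.1).map (qc Y)).mul_left
      (hwv w' hw' v hv).symm).mul_right
    ((hwv w hw v' hv').mul_left ((hYY g v hv.1 v' hv'.1).map (qc Y)))

/-- The elements centralizing `A/C_Y(L)` lie in `A`. -/
theorem Setup.mem_of_centralizes (h : Setup p Y A) {y : L}
    (hy : ∀ a ∈ A, Commute (qc Y y) (qc Y a)) : y ∈ A := by
  haveI := h.normal
  haveI : (A.map (qc Y)).Normal := Normal.map inferInstance _ (QuotientGroup.mk'_surjective _)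
  set K := (centralizer ((A.map (qc Y) : Subgroup (L ⧸ cen Y)) : Set (L ⧸ cen Y))).comap (qc Y)
    with hKdef
  haveI : K.Normal := Normal.comap inferInstance _
  have hKA : K ≤ A := by
    rw [h.eq_pCore]
    refine Solvable.le_pCore p inferInstance (CharP.isPGroup_of_no_pPrime K fun l hl hlc => ?_)
    have hcen : l ∈ centralizer (A : Set L) := by
      refine CharP.centralize_of_series h.pA hlc
        ((normalizer_eq_top_iff.mpr h.normal) ▸ mem_top l)
        (fun i => if i = 0 then A else if i = 1 then cen Y else ⊥) 2 rfl rfl fun i hi => ?_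
      interval_cases i
      · simp only [zero_add, one_ne_zero, if_false, if_true]
        refine (commutator_le).mpr fun a ha z hz => ?_
        rw [← qc_eq_one, map_commutatorElement]
        refine commutatorElement_eq_one_iff_mul_comm.mpr ?_
        obtain ⟨i, rfl⟩ := mem_zpowers_iff.mp hz
        rw [map_zpow]
        exact ((show Commute (qc Y a) (qc Y l) from mem_centralizer_iff.mp (mem_comap.mp hl) _
          (mem_map_of_mem _ ha)).zpow_right i).eq
      · simp only [one_ne_zero, if_false, if_true, Nat.reduceAdd, OfNat.ofNat_ne_zero,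
          OfNat.ofNat_ne_one]
        refine (commutator_le).mpr fun c hc z _ => mem_bot.mpr ?_
        exact commutatorElement_eq_one_iff_mul_comm.mpr (mem_center_iff.mp hc.2 z).symm
    obtain ⟨k, hk⟩ := CharP.exists_pow_eq_one_of_mem h.pA (h.char hcen)
    exact CharP.eq_one_of_coprime_of_pow hlc hk
  refine hKA (mem_comap.mpr (mem_centralizer_iff.mpr ?_))
  rintro _ ⟨a, ha, rfl⟩
  exact (hy a ha).eq.symm

theorem Setup.fixed_cjY (h : Setup p Y A) {g y v : L} (hg : g ∉ normalizer (Y : Set L))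
    (hy : y ∈ Y) (hyA : y ∉ A) (hv : v ∈ cjY Y g) (hvA : v ∈ A)
    (hc : Commute (qc Y y) (qc Y v)) : v ∈ cen Y := by
  have hYg : ∀ z ∈ cjY Y g, Commute z v := by
    intro z hz
    obtain ⟨u, hu, rfl⟩ := hz
    obtain ⟨u', hu', rfl⟩ := hv
    exact (show Commute u u' from h.comm u hu u' hu').map _
  set S := (centralizer ({qc Y v} : Set (L ⧸ cen Y))).comap (qc Y) with hS
  have hStop : S = ⊤ := by
    by_contra hne
    have hle : cjY Y g ≤ S := fun z hz =>
      mem_comap.mpr (mem_centralizer_singleton_iff.mpr ((hYg z hz).map (qc Y)).eq)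
    have hyS : y ∈ S := mem_comap.mpr (mem_centralizer_singleton_iff.mpr hc.eq)
    have hyN := h.max_cjY g hle hne hyS
    refine hyA (h.mem_of_centralizes fun a ha => ?_)
    obtain ⟨w, hw, v', hv', rfl⟩ := h.exists_decomp hg ha
    rw [map_mul]
    refine Commute.mul_right ((show Commute y w from h.comm y hy w hw.1).map _) ?_
    refine commutatorElement_eq_one_iff_mul_comm.mp ?_
    rw [← map_commutatorElement, qc_eq_one]
    refine h.inter hg ?_ (mem_cjY.mpr ?_)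
    · rw [show ⁅y, v'⁆ = y * (v' * y⁻¹ * v'⁻¹) by simp [commutatorElement_def, mul_assoc]]
      exact mul_mem hy ((mem_normalizer_iff.mp (h.norm hv'.2) _).mp (inv_mem hy))
    · have h1 := mem_cjY.mp hv'.1
      rw [show g⁻¹ * ⁅y, v'⁆ * g = (g⁻¹ * y * g) * (g⁻¹ * v' * g) * (g⁻¹ * y * g)⁻¹ *
        (g⁻¹ * v' * g)⁻¹ by simp [commutatorElement_def, mul_assoc]]
      exact mul_mem ((mem_normalizer_iff.mp hyN _).mp h1) (inv_mem h1)
  have hcent : ∀ x, ∀ z ∈ cjY Y g, Commute (x * z * x⁻¹) v := by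
    intro x z hz
    have hx : x⁻¹ * v * x * v⁻¹ ∈ cen Y := by
      rw [← qc_eq_one]
      have hx' := mem_centralizer_singleton_iff.mp
        (mem_comap.mp (hStop ▸ mem_top x⁻¹ : x⁻¹ ∈ S))
      simp only [map_mul, map_inv] at hx' ⊢
      rw [hx']
      group
    have h1 : Commute z (x⁻¹ * v * x) := by
      rw [show x⁻¹ * v * x = (x⁻¹ * v * x * v⁻¹) * v by group]
      exact (show Commute z _ from mem_center_iff.mp hx.2 z).mul_right (hYg z hz)
    have h2 := h1.map (MulAut.conj x).toMonoidHom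
    simpa [mul_assoc] using h2
  have hcore : Y ≤ (centralizer ({v} : Set L)).normalCore := by
    intro u hu x
    have := hcent (x * g⁻¹) (g * u * g⁻¹) ⟨u, hu, rfl⟩
    rw [show x * g⁻¹ * (g * u * g⁻¹) * (x * g⁻¹)⁻¹ = x * u * x⁻¹ by group] at this
    exact mem_centralizer_singleton_iff.mpr this.eq
  have htop : ⊤ ≤ centralizer ({v} : Set L) :=
    (h.closure_eq ▸ normalClosure_le_normal hcore).trans (normalCore_le _)
  have hvZ : v ∈ center L :=
    mem_center_iff.mpr fun w => mem_centralizer_singleton_iff.mp (htop (mem_top w))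
  refine ⟨?_, hvZ⟩
  have := mem_cjY.mp hv
  rwa [mem_center_iff.mp hvZ g⁻¹, inv_mul_cancel_right] at this

theorem Setup.fixed_mem (h : Setup p Y A) {y a : L} (hy : y ∈ Y) (hyA : y ∉ A) (ha : a ∈ A)
    (hc : Commute (qc Y y) (qc Y a)) : a ∈ Y := by
  obtain ⟨g, hg⟩ := h.exists_not_mem
  obtain ⟨w, hw, v, hv, rfl⟩ := h.exists_decomp hg ha
  refine mul_mem hw.1 (h.fixed_cjY hg hy hyA hv.1 hv.2 ?_).1
  have h1 : Commute (qc Y y) (qc Y w) := (show Commute y w from h.comm y hy w hw.1).map _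
  have := (h1.inv_right).mul_right hc
  rwa [map_mul, inv_mul_cancel_left] at this

/-- A product of elements of two conjugates fixes only `C_Y(L)`. -/
theorem Setup.fixed_pair (h : Setup p Y A) {g y y' a : L} (hg : g ∉ normalizer (Y : Set L))
    (hy : y ∈ Y) (hyA : y ∉ A) (hy' : y' ∈ cjY Y g) (hy'A : y' ∉ A) (ha : a ∈ A)
    (hc : Commute (qc Y (y * y')) (qc Y a)) : a ∈ cen Y := by
  haveI := h.normal
  set u := ⁅y', a⁆ with hu
  have huZ : u ∈ cjY Y g := by
    rw [hu, show ⁅y', a⁆ = y' * (a * y'⁻¹ * a⁻¹) by simp [commutatorElement_def, mul_assoc]]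
    exact mul_mem hy' ((mem_normalizer_iff.mp (h.normalizer_cjY g ha) _).mp (inv_mem hy'))
  have hq : qc Y u = qc Y ⁅y⁻¹, a⁆ := by
    have e := hc.eq
    simp only [map_mul] at e
    simp only [hu, commutatorElement_def, map_mul, map_inv, inv_inv]
    calc qc Y y' * qc Y a * (qc Y y')⁻¹ * (qc Y a)⁻¹
        = (qc Y y)⁻¹ * (qc Y y * qc Y y' * qc Y a) * (qc Y y')⁻¹ * (qc Y a)⁻¹ := by group
      _ = _ := by rw [e]; group
  have huY : u ∈ Y := by
    have h1 : u⁻¹ * ⁅y⁻¹, a⁆ ∈ cen Y := QuotientGroup.eq.mp hq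
    have h2 : ⁅y⁻¹, a⁆ ∈ Y := by
      rw [show ⁅y⁻¹, a⁆ = y⁻¹ * (a * y⁻¹⁻¹ * a⁻¹) by simp [commutatorElement_def, mul_assoc]]
      exact mul_mem (inv_mem hy) ((mem_normalizer_iff.mp (h.norm ha) _).mp (inv_mem (inv_mem hy)))
    have h3 := mul_mem h2 (inv_mem h1.1)
    rwa [show ⁅y⁻¹, a⁆ * (u⁻¹ * ⁅y⁻¹, a⁆)⁻¹ = u by group] at h3
  have huC := h.inter hg huY huZ
  have hc' : Commute (qc Y y') (qc Y a) := by
    refine commutatorElement_eq_one_iff_mul_comm.mp ?_
    rw [← map_commutatorElement, qc_eq_one]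
    exact huC
  have hcy : Commute (qc Y y) (qc Y a) := by
    have := hc.mul_left hc'.inv_left
    rwa [map_mul, mul_inv_cancel_right] at this
  refine h.inter hg (h.fixed_mem hy hyA ha hcy) (mem_cjY.mpr ?_)
  refine h.fixed_mem (mem_cjY.mp hy') (fun hh => hy'A ?_)
    (by simpa using h.normal.conj_mem a ha g⁻¹) ?_
  · simpa [mul_assoc] using h.normal.conj_mem _ hh g
  · simp only [map_mul, map_inv]
    have := hc'.map (MulAut.conj (qc Y g)⁻¹).toMonoidHom
    simpa [mul_assoc] using this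

/-- For odd `p`, a central involution modulo `A` that is the square of such a product fixes only
`C_Y(L)`. -/
theorem Setup.fixed_square (h : Setup p Y A) (hp : p ≠ 2) {g y y' a z : L}
    (hg : g ∉ normalizer (Y : Set L)) (hy : y ∈ Y) (hyA : y ∉ A) (hy' : y' ∈ cjY Y g)
    (hy'A : y' ∉ A) (hz : ∃ a0 ∈ A, z = (y * y') * (y * y') * a0)
    (hzc : ∀ x : L, ⁅x, z⁆ ∈ A) (ha : a ∈ A) (hc : Commute (qc Y z) (qc Y a)) : a ∈ cen Y := by
  haveI := h.normal
  by_contra haC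
  have hD : ∀ d ∈ A, Commute (qc Y z) (qc Y d) → ∀ x : L,
      Commute (qc Y z) (qc Y (x * d * x⁻¹)) := by
    intro d hd hd' x
    have h2 := h.qc_comm (hzc x⁻¹) hd
    rw [commutatorElement_def, inv_inv] at h2
    have h3 : Commute (qc Y (x⁻¹ * z * x)) (qc Y d) := by
      have := h2.mul_left hd'
      rwa [← map_mul, inv_mul_cancel_right] at this
    have h4 := h3.map (MulAut.conj (qc Y x)).toMonoidHom
    simpa [mul_assoc] using h4
  obtain ⟨v, hvY, hvA, hvc, hvC⟩ : ∃ v, v ∈ Y ∧ v ∈ A ∧ Commute (qc Y z) (qc Y v) ∧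
      v ∉ cen Y := by
    by_cases hall : ∀ y1 ∈ Y, Commute (qc Y y1) (qc Y a)
    · exact ⟨a, h.fixed_mem hy hyA ha (hall y hy), ha, hc, haC⟩
    · push Not at hall
      obtain ⟨y1, hy1, hy1c⟩ := hall
      refine ⟨⁅y1, a⁆, ?_, mul_mem (h.normal.conj_mem a ha y1) (inv_mem ha), ?_, fun hh => hy1c ?_⟩
      · rw [show ⁅y1, a⁆ = y1 * (a * y1⁻¹ * a⁻¹) by simp [commutatorElement_def, mul_assoc]]
        exact mul_mem hy1 ((mem_normalizer_iff.mp (h.norm ha) _).mp (inv_mem hy1))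
      · rw [commutatorElement_def, map_mul, map_inv]
        exact (hD a ha hc y1).mul_right hc.inv_right
      · rw [← qc_eq_one, map_commutatorElement] at hh
        exact commutatorElement_eq_one_iff_mul_comm.mp hh
  obtain ⟨x, hx⟩ : ∃ x, x = y * y' := ⟨_, rfl⟩
  obtain ⟨e, he⟩ : ∃ e, e = x * v * x⁻¹ := ⟨_, rfl⟩
  have heA : e ∈ A := he ▸ h.normal.conj_mem v hvA x
  have hev : e * v ∈ cen Y := by
    refine h.fixed_pair hg hy hyA hy' hy'A (mul_mem heA hvA) ?_
    obtain ⟨a0, ha0, rfl⟩ := hz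
    rw [← hx] at hvc ⊢
    have h1 : qc Y ((x * x) * v * (x * x)⁻¹) = qc Y v := by
      have h2 := hvc.mul_left (h.qc_comm ha0 hvA).inv_left
      rw [← map_inv, ← map_mul, mul_inv_cancel_right] at h2
      simp only [map_mul, map_inv] at h2 ⊢
      rw [h2.eq, mul_inv_cancel_right]
    calc qc Y x * qc Y (e * v)
        = qc Y ((x * x) * v * (x * x)⁻¹) * (qc Y e * qc Y x) := by
          simp only [he, map_mul, map_inv]; group
      _ = qc Y (e * v) * qc Y x := by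
          rw [h1, ← mul_assoc, (h.qc_comm hvA heA).eq, map_mul]
  have hy'v : qc Y (y' * v * y'⁻¹) = (qc Y v)⁻¹ := by
    have h1 := eq_inv_of_mul_eq_one_left (show qc Y e * qc Y v = 1 by
      rw [← map_mul]; exact qc_eq_one.mpr hev)
    have h2 : Commute (qc Y y) (qc Y v) := (show Commute y v from h.comm y hy v hvY).map _
    rw [he, hx] at h1
    simp only [map_mul, map_inv] at h1 ⊢
    calc qc Y y' * qc Y v * (qc Y y')⁻¹
        = (qc Y y)⁻¹ * (qc Y y * qc Y y' * qc Y v * (qc Y y * qc Y y')⁻¹) * qc Y y := by group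
      _ = (qc Y y)⁻¹ * (qc Y v)⁻¹ * qc Y y := by rw [h1]
      _ = (qc Y v)⁻¹ := by
          rw [(h2.inv_left.inv_right).eq, inv_mul_cancel_right]
  have hc1 : ⁅y', v⁆ ∈ cjY Y g := by
    rw [show ⁅y', v⁆ = y' * (v * y'⁻¹ * v⁻¹) by simp [commutatorElement_def, mul_assoc]]
    exact mul_mem hy' ((mem_normalizer_iff.mp (h.normalizer_cjY g hvA) _).mp (inv_mem hy'))
  have hq : qc Y ⁅y', v⁆ = qc Y (v⁻¹ * v⁻¹) := by
    rw [commutatorElement_def, map_mul, hy'v, map_mul]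
    simp
  have hc2 : ⁅y', v⁆ ∈ Y := by
    have h3 := mul_mem (mul_mem (inv_mem hvY) (inv_mem hvY)) (inv_mem (QuotientGroup.eq.mp hq).1)
    rwa [show v⁻¹ * v⁻¹ * (⁅y', v⁆⁻¹ * (v⁻¹ * v⁻¹))⁻¹ = ⁅y', v⁆ by group] at h3
  have hv2 : qc Y v ^ 2 = 1 := by
    have := hq.symm.trans (qc_eq_one.mpr (h.inter hg hc2 hc1))
    rw [map_mul, map_inv, ← mul_inv_rev, inv_eq_one] at this
    rwa [pow_two]
  obtain ⟨k, hk⟩ := CharP.exists_pow_eq_one_of_mem h.isPGroup hvY
  refine hvC (qc_eq_one.mp (orderOf_eq_one_iff.mp (Nat.eq_one_of_dvd_coprimes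
    (((Nat.coprime_primes Fact.out Nat.prime_two).mpr hp).pow_left k) ?_
    (orderOf_dvd_of_pow_eq_one hv2))))
  exact orderOf_dvd_of_pow_eq_one (by rw [← map_pow, hk, map_one])

/-- `x` is a product of two elements of conjugates of the image of `Y`. -/
def IsPairProduct {X : Type*} [Group X] (Yb : Subgroup X) (x : X) : Prop :=
  ∃ g₁ g₂ : X, ∃ y₁ ∈ Yb, ∃ y₂ ∈ Yb, x = g₁ * y₁ * g₁⁻¹ * (g₂ * y₂ * g₂⁻¹)

/-- The main reduction: if all elements of prime order different from `p` in `L/A` are products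
from two conjugates (or central squares of such), the elements that are not `p`-elements fix only
`C_Y(L)`. -/
theorem Setup.fpf (h : Setup p Y A) {X : Type*} [Group X] (φ : L →* X) (hφ : Function.Surjective φ)
    (hker : φ.ker = A)
    (hX : ∀ x : X, ∀ r : ℕ, r.Prime → r ≠ p → orderOf x = r →
      IsPairProduct (Y.map φ) x ∨
        (p ≠ 2 ∧ x ∈ center X ∧ ∃ x0, IsPairProduct (Y.map φ) x0 ∧ x = x0 * x0))
    {t a : L} (ht : ¬ ∃ k : ℕ, orderOf t = p ^ k) (ha : a ∈ A) (hta : ⁅t, a⁆ ∈ cen Y) :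
    a ∈ cen Y := by
  haveI := h.normal
  obtain ⟨r, hr, hrt, hrp⟩ : ∃ r, r.Prime ∧ r ∣ orderOf t ∧ r ≠ p := by
    by_contra hc
    push Not at hc
    exact ht ⟨_, Nat.eq_prime_pow_of_unique_prime_dvd (orderOf_pos t).ne' fun {q} hq hd => hc q hq hd⟩
  set t1 := t ^ (orderOf t / r) with ht1
  have ht1o : orderOf t1 = r := by
    have hne : orderOf t / r ≠ 0 :=
      (Nat.div_pos (Nat.le_of_dvd (orderOf_pos t) hrt) hr.pos).ne'
    rw [ht1, orderOf_pow_of_dvd hne (Nat.div_dvd_of_dvd hrt),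
      Nat.div_div_self hrt (orderOf_pos t).ne']
  have hct : Commute (qc Y t1) (qc Y a) := by
    rw [ht1, map_pow]
    refine Commute.pow_left (commutatorElement_eq_one_iff_mul_comm.mp ?_) _
    rw [← map_commutatorElement]
    exact qc_eq_one.mpr hta
  have hφp : ∀ w : L, (∃ k : ℕ, w ^ p ^ k = 1) → ∃ k : ℕ, φ w ^ p ^ k = 1 :=
    fun w ⟨k, hk⟩ => ⟨k, by rw [← map_pow, hk, map_one]⟩
  have hnp : ¬ ∃ k : ℕ, φ t1 ^ p ^ k = 1 := by
    rintro ⟨k, hk⟩
    rw [← map_pow, ← MonoidHom.mem_ker, hker] at hk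
    obtain ⟨j, hj⟩ := CharP.exists_pow_eq_one_of_mem h.pA hk
    rw [← pow_mul, ← pow_add] at hj
    have := orderOf_dvd_of_pow_eq_one hj
    rw [ht1o] at this
    exact hrp ((Nat.prime_dvd_prime_iff_eq hr Fact.out).mp (hr.dvd_of_dvd_pow this))
  have hord : orderOf (φ t1) = r := by
    rcases hr.eq_one_or_self_of_dvd _ (ht1o ▸ orderOf_map_dvd φ t1) with h1 | h1
    · exact absurd ⟨0, by rw [pow_zero, pow_one]; exact orderOf_eq_one_iff.mp h1⟩ hnp
    · exact h1
  -- normalisation of a pair product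
  have hpair : ∀ x0 : X, IsPairProduct (Y.map φ) x0 → (¬ ∃ k : ℕ, x0 ^ p ^ k = 1) →
      ∃ c y y' g, g ∉ normalizer (Y : Set L) ∧ y ∈ Y ∧ y ∉ A ∧ y' ∈ cjY Y g ∧ y' ∉ A ∧
        φ (c * (y * y') * c⁻¹) = x0 := by
    rintro _ ⟨u₁, u₂, _, ⟨y₁, hy₁, rfl⟩, _, ⟨y₂, hy₂, rfl⟩, rfl⟩ hnx
    obtain ⟨g₁, rfl⟩ := hφ u₁
    obtain ⟨g₂, rfl⟩ := hφ u₂
    set g := g₁⁻¹ * g₂ with hgdef
    have e : φ g₁ * φ y₁ * (φ g₁)⁻¹ * (φ g₂ * φ y₂ * (φ g₂)⁻¹) =
        φ (g₁ * (y₁ * (g * y₂ * g⁻¹)) * g₁⁻¹) := by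
      simp only [hgdef, map_mul, map_inv]
      group
    rw [e] at hnx
    have hconj : ∀ w : L, (∃ k : ℕ, φ w ^ p ^ k = 1) → ∃ k : ℕ, φ (g₁ * w * g₁⁻¹) ^ p ^ k = 1 :=
      fun w ⟨k, hk⟩ => ⟨k, by rw [map_mul, map_mul, map_inv, conj_pow, hk, mul_one, mul_inv_cancel]⟩
    have hA1 : ∀ w ∈ A, φ w = 1 := fun w hw => MonoidHom.mem_ker.mp (hker.symm ▸ hw)
    refine ⟨g₁, y₁, g * y₂ * g⁻¹, g, fun hg => hnx (hconj _ ?_), hy₁, fun hh => hnx (hconj _ ?_),
      ⟨y₂, hy₂, rfl⟩, fun hh => hnx (hconj _ ?_), e.symm⟩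
    · exact hφp _ (CharP.exists_pow_eq_one_of_mem h.isPGroup
        (mul_mem hy₁ ((mem_normalizer_iff.mp hg y₂).mp hy₂)))
    · obtain ⟨k, hk⟩ := hφp y₂ (CharP.exists_pow_eq_one_of_mem h.isPGroup hy₂)
      exact ⟨k, by rw [map_mul, hA1 _ hh, one_mul, map_mul, map_mul, map_inv, conj_pow, hk, mul_one,
        mul_inv_cancel]⟩
    · obtain ⟨k, hk⟩ := hφp y₁ (CharP.exists_pow_eq_one_of_mem h.isPGroup hy₁)
      exact ⟨k, by rw [map_mul, hA1 _ hh, mul_one, hk]⟩
  have hback : ∀ c : L, c⁻¹ * a * c ∈ cen Y → a ∈ cen Y := fun c hcc => by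
    have := Normal.conj_mem cen_normal _ hcc c
    simpa [mul_assoc] using this
  have hadj : ∀ c : L, c⁻¹ * a * c ∈ A := fun c => by simpa using h.normal.conj_mem a ha c⁻¹
  have hcc : ∀ c : L, Commute (qc Y (c⁻¹ * t1 * c)) (qc Y (c⁻¹ * a * c)) := fun c => by
    have := hct.map (MulAut.conj (qc Y c)⁻¹).toMonoidHom
    simpa [mul_assoc] using this
  rcases hX _ r hr hrp hord with hp1 | ⟨hp2, hcenX, x0, hx0, hxx⟩
  · obtain ⟨c, y, y', g, hg, hy, hyA, hy', hy'A, he⟩ := hpair _ hp1 hnp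
    refine hback c (h.fixed_pair hg hy hyA hy' hy'A (hadj c) ?_)
    have hdiff : (c⁻¹ * t1 * c)⁻¹ * (y * y') ∈ A := by
      rw [← hker, MonoidHom.mem_ker, map_mul, map_inv, map_mul, map_mul, ← he]
      simp only [map_mul, map_inv]
      group
    have h2 := (hcc c).mul_left (h.qc_comm hdiff (hadj c))
    rwa [← map_mul, mul_inv_cancel_left] at h2
  · have hnx : ¬ ∃ k : ℕ, x0 ^ p ^ k = 1 := fun ⟨k, hk⟩ => hnp ⟨k, by
      rw [hxx, (Commute.refl x0).mul_pow, hk, one_mul]⟩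
    obtain ⟨c, y, y', g, hg, hy, hyA, hy', hy'A, he⟩ := hpair _ hx0 hnx
    refine hback c (h.fixed_square hp2 hg hy hyA hy' hy'A
      (z := c⁻¹ * t1 * c) ⟨((y * y') * (y * y'))⁻¹ * (c⁻¹ * t1 * c), ?_, by group⟩ ?_ (hadj c) (hcc c))
    · rw [← hker, MonoidHom.mem_ker]
      simp only [map_mul, map_inv]
      rw [hxx, ← he]
      simp only [map_mul, map_inv]
      group
    · intro w
      rw [← hker, MonoidHom.mem_ker, map_commutatorElement]
      refine commutatorElement_eq_one_iff_mul_comm.mpr ?_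
      rw [map_mul φ (c⁻¹ * t1) c, map_mul φ c⁻¹ t1, mem_center_iff.mp hcenX, map_inv,
        mul_assoc, inv_mul_cancel, mul_one]
      exact mem_center_iff.mp hcenX (φ w)

end CfsgLib.MinFpf
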