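import Cfsg.Agent.CharP.MinimalFpf
import Cfsg.Agent.ZJ.SL2Basic
import Cfsg.Agent.SL2C.Basic
import Cfsg.Agent.Suzuki.Partition
import Cfsg.Agent.Suzuki.SylowOdd
import Cfsg.Agent.Invol.Dihedral

/-!
Elements of order prime to `p` as products from two conjugates, in `SL₂(q)`, `Sz(q)` and in groups
generated by two involutions.
-/

set_option autoImplicit false
set_option linter.style.haveILetI false

namespace CfsgLib.MinFpf

open Subgroup

theorem exists_sq_of_odd {X : Type*} [Group X] {x : X} {r : ℕ} (hr : Odd r) (hx : x ^ r = 1) :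
    ∃ i : ℕ, x = (x ^ i) ^ 2 := by
  obtain ⟨l, rfl⟩ := hr
  exact ⟨l + 1, by rw [← pow_mul, show (l + 1) * 2 = (2 * l + 1) + 1 by ring, pow_succ, hx, one_mul]⟩

theorem pair_of_card_two {X : Type*} [Group X] [Finite X] (Yb : Subgroup X) (hY : Nat.card Yb = 2)
    {g : X} (hg : Yb ⊔ Yb.map (MulAut.conj g).toMonoidHom = ⊤) {x : X} {r : ℕ} (hr : r.Prime)
    (hr2 : r ≠ 2) (hx : orderOf x = r) : IsPairProduct Yb x := by
  haveI : Fact (Nat.Prime 2) := ⟨Nat.prime_two⟩
  obtain ⟨i, hi⟩ := exists_prime_orderOf_dvd_card' 2 (hY ▸ dvd_rfl : 2 ∣ Nat.card Yb)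
  have hio : orderOf (i : X) = 2 := by rw [Subgroup.orderOf_coe, hi]
  have hYb : Yb = zpowers (i : X) :=
    (eq_of_le_of_card_ge (zpowers_le.mpr i.2) (by rw [hY, Nat.card_zpowers, hio])).symm
  set j := g * (i : X) * g⁻¹ with hj
  have hjo : orderOf j = 2 := by rw [hj, Invol.orderOf_conj_eq, hio]
  have htop : (⊤ : Subgroup X) ≤ closure ({(i : X), j} : Set X) := by
    rw [← hg]
    conv_lhs => rw [hYb]
    refine sup_le (zpowers_le.mpr (subset_closure (Set.mem_insert _ _))) ?_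
    rw [MonoidHom.map_zpowers]
    exact zpowers_le.mpr (subset_closure (Set.mem_insert_of_mem _ rfl))
  have hmem : ∃ k : ℤ, x = ((i : X) * j) ^ k := by
    rcases (Invol.mem_closure_pair_iff hio hjo).mp (htop (mem_top x)) with h | ⟨k, hk⟩
    · exact h
    · refine absurd ?_ hr2
      have hinv : (i : X) * ((i : X) * j) * (i : X)⁻¹ = ((i : X) * j)⁻¹ := Invol.conj_mul_inv hio hjo
      have h1 := Invol.mul_zpow_mul_self (Invol.mul_self_eq_one hio) hinv k
      rw [← hk] at h1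
      exact (Nat.prime_dvd_prime_iff_eq hr Nat.prime_two).mp
        (hx ▸ orderOf_dvd_of_pow_eq_one (by rw [pow_two, h1]))
  obtain ⟨k, rfl⟩ := hmem
  obtain ⟨l, hl⟩ := exists_sq_of_odd (hr.odd_of_ne_two hr2) (hx ▸ pow_orderOf_eq_one (((i : X) * j) ^ k))
  set ρ := ((i : X) * j) ^ (k * (l : ℤ)) with hρdef
  have hsq : ((i : X) * j) ^ k = ρ * ρ := by
    rw [hl, pow_two, hρdef, zpow_mul, zpow_natCast]
  have hiρ : (i : X) * ρ * (i : X)⁻¹ = ρ⁻¹ := by
    rw [hρdef, Invol.conj_zpow_of_inverts (Invol.conj_mul_inv hio hjo), zpow_neg]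
  refine ⟨1, ρ⁻¹, i, i.2, i, i.2, ?_⟩
  rw [hsq, inv_inv, inv_one, one_mul, mul_one]
  calc ρ * ρ = ((i : X) * ρ * (i : X)⁻¹)⁻¹ * ρ := by rw [hiρ, inv_inv]
    _ = (i : X) * ρ⁻¹ * (i : X)⁻¹ * ρ := by group
    _ = (i : X) * (ρ⁻¹ * (i : X) * ρ) := by rw [Invol.inv_eq_self hio]; group

section SL2

open CfsgLib.ZJ

variable {F : Type*} [Field F]

/-- The standard monomial element. -/
def wEl (F : Type*) [Field F] : SL2 F := ⟨!![0, 1; -1, 0], by simp [Matrix.det_fin_two]⟩

@[simp] theorem wEl_00 : wEl F 0 0 = 0 := rfl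
@[simp] theorem wEl_01 : wEl F 0 1 = 1 := rfl
@[simp] theorem wEl_10 : wEl F 1 0 = -1 := rfl
@[simp] theorem wEl_11 : wEl F 1 1 = 0 := rfl

theorem lower_eq (a : F) : lower a = wEl F * upper (-a) * (wEl F)⁻¹ := by
  rw [eq_mul_inv_iff_mul_eq]
  apply sl2_ext <;> rw [sl2_mul, sl2_mul] <;> simp

theorem decomp_of_ne (g : SL2 F) (hg : g 1 0 ≠ 0) :
    g = upper ((g 0 0 - 1) / g 1 0) * lower (g 1 0) * upper ((g 1 1 - 1) / g 1 0) := by
  set s := (g 0 0 - 1) / g 1 0 with hs
  set u := (g 1 1 - 1) / g 1 0 with hu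
  have hs' : s * g 1 0 = g 0 0 - 1 := by rw [hs]; field_simp
  have hu' : g 1 0 * u = g 1 1 - 1 := by rw [hu]; field_simp
  have hdet := sl2_det g
  apply sl2_ext <;> rw [sl2_mul, sl2_mul, sl2_mul] <;> simp
  · linear_combination -hs'
  · refine mul_right_cancel₀ hg ?_
    linear_combination -hdet - (1 + g 1 0 * u) * hs' - g 0 0 * hu'
  · linear_combination -hu'

/-- The upper unitriangular subgroup. -/
def upperSub (F : Type*) [Field F] : Subgroup (SL2 F) where
  carrier := Set.range upper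
  one_mem' := ⟨0, upper_zero⟩
  mul_mem' := by
    rintro _ _ ⟨a, rfl⟩ ⟨b, rfl⟩
    exact ⟨a + b, (upper_mul a b).symm⟩
  inv_mem' := by
    rintro _ ⟨a, rfl⟩
    exact ⟨-a, (upper_inv a).symm⟩

theorem exists_conj_upper [Fintype F] {p : ℕ} [Fact p.Prime] (Yb : Subgroup (SL2 F))
    (hYp : IsPGroup p Yb) (hcard : Nat.card Yb = Fintype.card F) :
    CharP F p ∧ ∃ c : SL2 F, ∀ a : F, c⁻¹ * upper a * c ∈ Yb := by
  classical
  obtain ⟨n, hn⟩ := IsPGroup.iff_card.mp hYp
  rw [hcard] at hn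
  have hn0 : n ≠ 0 := fun h => by
    rw [h, pow_zero] at hn
    exact absurd hn Fintype.one_lt_card.ne'
  obtain ⟨ℓ, hℓ⟩ := CharP.exists F
  haveI := hℓ
  obtain ⟨e, hℓp, he⟩ := FiniteField.card F ℓ
  have hpq : p ∣ Fintype.card F := hn ▸ dvd_pow_self p hn0
  have hℓeq : ℓ = p := by
    rw [he] at hpq
    exact ((Nat.prime_dvd_prime_iff_eq Fact.out hℓp).mp ((Fact.out : p.Prime).dvd_of_dvd_pow hpq)).symm
  subst hℓeq
  refine ⟨inferInstance, ?_⟩
  have hU : Nat.card (upperSub F) = Fintype.card F := by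
    rw [← Nat.card_eq_fintype_card]
    exact (Nat.card_congr (Equiv.ofBijective (fun a : F => (⟨upper a, a, rfl⟩ : upperSub F))
      ⟨fun a b h => by
        have := congrArg (fun z : upperSub F => (z : SL2 F) 0 1) h
        simpa using this,
      fun ⟨_, a, rfl⟩ => ⟨a, rfl⟩⟩)).symm
  have hsyl : ∀ H : Subgroup (SL2 F), Nat.card H = Fintype.card F → ¬ ℓ ∣ H.index := by
    intro H hH hd
    have h1 := card_mul_index H
    rw [hH, SL2C.card_SL2_mul] at h1
    rw [Nat.eq_of_mul_eq_mul_left Fintype.card_pos h1] at hd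
    have hsq : ℓ ∣ Fintype.card F ^ 2 := dvd_pow hpq two_ne_zero
    have h3 := Nat.dvd_sub hsq hd
    have hpos : 1 ≤ Fintype.card F ^ 2 := Nat.one_le_pow _ _ Fintype.card_pos
    rw [Nat.sub_sub_self hpos] at h3
    exact (Fact.out : ℓ.Prime).not_dvd_one h3
  let P : Sylow ℓ (SL2 F) := hYp.toSylow (hsyl Yb hcard)
  let Q : Sylow ℓ (SL2 F) :=
    (IsPGroup.of_card (n := n) (hU.trans hn)).toSylow (hsyl _ hU)
  obtain ⟨c, hc⟩ := MulAction.exists_smul_eq (SL2 F) P Q
  refine ⟨c, fun a => ?_⟩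
  have hmem : upper a ∈ (Q : Subgroup (SL2 F)) := (⟨a, rfl⟩ : upper a ∈ upperSub F)
  rw [← hc, Sylow.coe_subgroup_smul] at hmem
  obtain ⟨y, hy, hya⟩ := hmem
  have : c * y * c⁻¹ = upper a := hya
  rw [← this]
  simp only [mul_assoc, inv_mul_cancel_left, inv_mul_cancel, mul_one]
  exact hy

theorem pair_sl2 [Fintype F] {p : ℕ} [Fact p.Prime] (Yb : Subgroup (SL2 F)) (hYp : IsPGroup p Yb)
    (hcard : Nat.card Yb = Fintype.card F) {x : SL2 F} {r : ℕ} (hr : r.Prime)
    (hx : orderOf x = r) :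
    IsPairProduct Yb x ∨ (p ≠ 2 ∧ x ∈ center (SL2 F) ∧ ∃ x0, IsPairProduct Yb x0 ∧ x = x0 * x0) := by
  obtain ⟨hchar, c, hc⟩ := exists_conj_upper Yb hYp hcard
  set w := wEl F with hw
  have hup : ∀ d : SL2 F, ∀ a, ∃ g : SL2 F, ∃ y ∈ Yb, g * y * g⁻¹ = d * upper a * d⁻¹ :=
    fun d a => ⟨d * c, _, hc a, by group⟩
  have hlow : ∀ a : F, lower a = w * upper (-a) * w⁻¹ := lower_eq
  have hP : ∀ d : SL2 F, ∀ a b : F, IsPairProduct Yb (d * (upper a * lower b) * d⁻¹) := by
    intro d a b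
    obtain ⟨g₁, y₁, hy₁, e₁⟩ := hup d a
    obtain ⟨g₂, y₂, hy₂, e₂⟩ := hup (d * w) (-b)
    refine ⟨g₁, g₂, y₁, hy₁, y₂, hy₂, ?_⟩
    rw [e₁, e₂, hlow]
    group
  have hne : ∀ g : SL2 F, g 1 0 ≠ 0 → ∀ d : SL2 F, IsPairProduct Yb (d * g * d⁻¹) := by
    intro g hg d
    set s := (g 0 0 - 1) / g 1 0 with hs
    set u := (g 1 1 - 1) / g 1 0 with hu
    have hdec : g = upper s * lower (g 1 0) * upper u := decomp_of_ne g hg
    have e : d * g * d⁻¹ =
        (d * (upper u)⁻¹) * (upper (u + s) * lower (g 1 0)) * (d * (upper u)⁻¹)⁻¹ := by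
      conv_lhs => rw [hdec]
      rw [← upper_mul]
      group
    rw [e]
    exact hP _ _ _
  by_cases h10 : x 1 0 = 0
  · by_cases h01 : x 0 1 = 0
    · by_cases hd : x 0 0 = x 1 1
      · have hdet := sl2_det x
        rw [h10, h01, ← hd, zero_mul, sub_zero, mul_self_eq_one_iff] at hdet
        rcases hdet with h | h
        · refine absurd hx ?_
          rw [show x = 1 from sl2_ext (by simpa using h) (by simpa using h01) (by simpa using h10)
            (by rw [← hd]; simpa using h), orderOf_one]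
          exact fun e => hr.ne_one e.symm
        · have hxe : x = -1 := sl2_ext (by simpa using h) (by simpa using h01) (by simpa using h10)
            (by rw [← hd]; simpa using h)
          refine Or.inr ⟨fun hp => ?_, ?_, upper (-2) * lower 1, by simpa using hP 1 (-2) 1, ?_⟩
          · subst hp
            haveI := hchar
            rw [CharTwo.neg_eq] at h
            exact hr.ne_one (hx.symm.trans (by
              rw [show x = 1 from sl2_ext (by simpa using h) (by simpa using h01)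
                (by simpa using h10) (by rw [← hd]; simpa using h), orderOf_one]))
          · rw [mem_center_iff]
            intro g
            rw [hxe]
            simp
          · rw [hxe]
            apply sl2_ext <;> simp only [sl2_mul] <;> simp <;> ring
      · refine Or.inl ?_
        have h := hne (lower 1 * x * (lower 1)⁻¹) ?_ (lower 1)⁻¹
        · rwa [show (lower (1 : F))⁻¹ * (lower 1 * x * (lower 1)⁻¹) * (lower (1 : F))⁻¹⁻¹ = x by group]
            at h
        · rw [show ((lower (1 : F))⁻¹ : SL2 F) = lower (-1) from inv_eq_of_mul_eq_one_right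
            (by rw [lower_mul, add_neg_cancel, lower_zero])]
          rw [sl2_mul, sl2_mul, sl2_mul]
          simp [h10, h01]
          exact fun e => hd (by linear_combination e)
    · refine Or.inl ?_
      have h := hne (w * x * w⁻¹) ?_ w⁻¹
      · rwa [show w⁻¹ * (w * x * w⁻¹) * w⁻¹⁻¹ = x by group] at h
      · obtain ⟨i00, i01, i10, i11⟩ := sl2_inv w
        rw [sl2_mul, sl2_mul, sl2_mul, i00, i10]
        simp [hw, h10, h01]
  · exact Or.inl (by simpa using hne x h10 1)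

end SL2

section Suzuki

open CfsgLib.Suzuki

variable {F : Type*} [Field F] {m : ℕ}

theorem pair_suzuki (h : IsSzField F m) (Yb : Subgroup (SzG F m))
    (hexp : ∀ y ∈ Yb, y * y = 1) (hcard : Nat.card Yb = Nat.card F)
    {x : SzG F m} {r : ℕ} (hr : r.Prime) (hr2 : r ≠ 2) (hx : orderOf x = r) :
    IsPairProduct Yb x := by
  haveI := finite_G h
  haveI := h.finite
  haveI : Fact (Nat.Prime 2) := ⟨Nat.prime_two⟩
  have hYp : IsPGroup 2 Yb := fun y => ⟨1, Subtype.ext (by simpa [pow_two] using hexp y y.2)⟩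
  obtain ⟨c, hc⟩ := exists_conj_le_unip h hYp
  -- every involution of `U` comes from `Yb`
  have hinv0 : ∀ u ∈ unip h, u * u = 1 → ∃ b, u = uE h 0 b := by
    intro u hu hu2
    obtain ⟨a, b, rfl⟩ := exists_uE h hu
    rw [uE_sq, uE_eq_one] at hu2
    rcases mul_eq_zero.mp hu2.2 with h1 | h1
    · rw [sg_eq_zero] at h1
      exact ⟨b, by rw [h1]⟩
    · exact ⟨b, by rw [h1]⟩
  have hall : ∀ b : F, ∃ y ∈ Yb, c * y * c⁻¹ = uE h 0 b := by
    choose f hf using fun y : Yb => hinv0 _ (hc y y.2) (by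
      calc c * (y : SzG F m) * c⁻¹ * (c * y * c⁻¹) = c * ((y : SzG F m) * y) * c⁻¹ := by group
        _ = 1 := by rw [hexp y y.2, mul_one, mul_inv_cancel])
    have hinj : Function.Injective f := fun y z e => Subtype.ext (by
      have := (hf y).trans ((congrArg (uE h 0) e).trans (hf z).symm)
      simpa using this)
    have hbij := (Nat.bijective_iff_injective_and_card f).mpr ⟨hinj, hcard⟩
    intro b
    obtain ⟨y, rfl⟩ := hbij.2 b
    exact ⟨y, y.2, hf y⟩
  have hinvol : ∀ t : SzG F m, orderOf t = 2 → ∃ g, ∃ y ∈ Yb, g * y * g⁻¹ = t := by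
    intro t ht
    obtain ⟨d, hd⟩ := exists_conj_le_unip h
      (IsPGroup.of_card (p := 2) (n := 1) (by rw [Nat.card_zpowers, ht, pow_one]) :
        IsPGroup 2 (zpowers t))
    obtain ⟨b, hb⟩ := hinv0 _ (hd t (mem_zpowers t)) (by
      calc d * t * d⁻¹ * (d * t * d⁻¹) = d * (t * t) * d⁻¹ := by group
        _ = 1 := by rw [Invol.mul_self_eq_one ht, mul_one, mul_inv_cancel])
    obtain ⟨y, hy, hyb⟩ := hall b
    refine ⟨d⁻¹ * c, y, hy, ?_⟩
    rw [show d⁻¹ * c * y * (d⁻¹ * c)⁻¹ = d⁻¹ * (c * y * c⁻¹) * d by group, hyb, ← hb]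
    group
  have hxodd : Odd (orderOf x) := hx ▸ hr.odd_of_ne_two hr2
  have hx1 : x ≠ 1 := fun e => hr.ne_one (by rw [← hx, e, orderOf_one])
  -- an involution normalizing an odd self-centralizing abelian subgroup inverts it
  have hinverts : ∀ A : Subgroup (SzG F m), (∀ a ∈ A, a ≠ 1 → centralizer ({a} : Set _) = A) →
      Odd (Nat.card A) → 2 ∣ Nat.card (normalizer (A : Set (SzG F m))) → ∀ a ∈ A,
      ∃ t, orderOf t = 2 ∧ t * a * t⁻¹ = a⁻¹ := by
    intro A hA hAodd hN a ha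
    obtain ⟨⟨t, htN⟩, ht⟩ := exists_prime_orderOf_dvd_card' 2 hN
    have hto : orderOf t = 2 := by rw [← Subgroup.orderOf_coe] at ht; exact ht
    refine ⟨t, hto, ?_⟩
    set b := t * a * t⁻¹ with hb
    have hbA : b ∈ A := (mem_normalizer_iff.mp htN a).mp ha
    have hcomm : a * b = b * a := by
      by_cases h1 : a = 1
      · simp [hb, h1]
      · exact (mem_centralizer_singleton_iff.mp ((hA a ha h1).symm ▸ hbA : b ∈ centralizer {a})).symm
    have hfix : t * (a * b) * t⁻¹ = a * b := by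
      rw [hb, ← conj_mul, show t * (t * a * t⁻¹) * t⁻¹ = (t * t) * a * (t * t)⁻¹ by group,
        Invol.mul_self_eq_one hto, one_mul, inv_one, mul_one, ← hb, hcomm]
    by_contra hne
    have hab : a * b ≠ 1 := fun e => hne (eq_inv_of_mul_eq_one_right e)
    have htA : t ∈ A := by
      rw [← hA _ (mul_mem ha hbA) hab]
      exact mem_centralizer_singleton_iff.mpr (mul_inv_eq_iff_eq_mul.mp hfix)
    exact absurd (hto ▸ A.orderOf_dvd_natCard htA) (Nat.two_dvd_ne_zero.mpr (Nat.odd_iff.mp hAodd))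
  obtain ⟨t, hto, htx⟩ : ∃ t, orderOf t = 2 ∧ t * x * t⁻¹ = x⁻¹ := by
    rcases trichotomy h x with ⟨d, hd⟩ | ⟨d, hd⟩ | hf
    · refine absurd ?_ hx1
      have h1 := orderOf_dvd_of_mem_unip h hd
      rw [Invol.orderOf_conj_eq] at h1
      exact orderOf_eq_one_iff.mp (Nat.eq_one_of_dvd_coprimes
        ((Nat.coprime_two_right.mpr hxodd).pow_right _) dvd_rfl h1)
    · have hodd : Odd (Nat.card (torus h)) := by
        rw [card_torus, h.card]
        exact Nat.Even.sub_odd (Nat.one_le_two_pow) (Even.pow_of_ne_zero even_two (by omega)) odd_one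
      obtain ⟨t, ht, hta⟩ := hinverts _ (fun a ha h1 => centralizer_torus h ha h1) hodd
        (by rw [card_normalizer_torus]; exact dvd_mul_right 2 _) _ hd
      refine ⟨d⁻¹ * t * d, by
        rw [show d⁻¹ * t * d = d⁻¹ * t * d⁻¹⁻¹ by group, Invol.orderOf_conj_eq, ht], ?_⟩
      calc d⁻¹ * t * d * x * (d⁻¹ * t * d)⁻¹ = d⁻¹ * (t * (d * x * d⁻¹) * t⁻¹) * d := by group
        _ = x⁻¹ := by rw [hta]; group
    · obtain ⟨A, B, hA, hB, cA, cB, nA, nB, hcov⟩ := exists_fpf_tori h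
      have hodd : ∀ k ∈ ({2 ^ (2 * m + 1) + 2 ^ (m + 1) + 1,
          2 ^ (2 * m + 1) - 2 ^ (m + 1) + 1} : Set ℕ), Odd k := by
        have e1 : Even (2 ^ (2 * m + 1)) := Even.pow_of_ne_zero even_two (by omega)
        have e2 : Even (2 ^ (m + 1)) := Even.pow_of_ne_zero even_two (by omega)
        have hle : 2 ^ (m + 1) ≤ 2 ^ (2 * m + 1) := Nat.pow_le_pow_right (by norm_num) (by omega)
        rintro k (rfl | rfl)
        · exact (e1.add e2).add_one
        · exact ((Nat.even_sub hle).mpr ⟨fun _ => e2, fun _ => e1⟩).add_one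
      have fin : ∀ T : Subgroup (SzG F m), IsFpfTorus T → Odd (Nat.card T) →
          Nat.card (normalizer (T : Set (SzG F m))) = 4 * Nat.card T → ∀ d, d * x * d⁻¹ ∈ T →
          ∃ t, orderOf t = 2 ∧ t * x * t⁻¹ = x⁻¹ := by
        intro T hT hTo hTn d hd
        obtain ⟨t, ht, hta⟩ := hinverts T (fun a ha h1 => hT.centralizer_eq h ha h1) hTo
          (by rw [hTn]; exact dvd_mul_of_dvd_left (by norm_num) _) _ hd
        refine ⟨d⁻¹ * t * d, by
          rw [show d⁻¹ * t * d = d⁻¹ * t * d⁻¹⁻¹ by group, Invol.orderOf_conj_eq, ht], ?_⟩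
        calc d⁻¹ * t * d * x * (d⁻¹ * t * d)⁻¹ = d⁻¹ * (t * (d * x * d⁻¹) * t⁻¹) * d := by group
          _ = x⁻¹ := by rw [hta]; group
      rcases hcov x hf with ⟨d, hd⟩ | ⟨d, hd⟩
      · exact fin A hA (cA ▸ hodd _ (Set.mem_insert _ _)) nA d hd
      · exact fin B hB (cB ▸ hodd _ (Set.mem_insert_of_mem _ rfl)) nB d hd
  have htt := Invol.mul_self_eq_one hto
  have hxt : orderOf (x * t) = 2 := by
    refine Invol.orderOf_eq_two ?_ fun e => ?_
    · calc x * t * (x * t) = x * (t * x * t⁻¹) * (t * t) := by group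
        _ = 1 := by rw [htx, htt, mul_inv_cancel, mul_one]
    · rw [eq_inv_of_mul_eq_one_left e, orderOf_inv, hto] at hx
      exact hr2 hx.symm
  obtain ⟨g₁, y₁, hy₁, e₁⟩ := hinvol _ hxt
  obtain ⟨g₂, y₂, hy₂, e₂⟩ := hinvol _ hto
  exact ⟨g₁, g₂, y₁, hy₁, y₂, hy₂, by rw [e₁, e₂, mul_assoc, htt, mul_one]⟩

end Suzuki

end CfsgLib.MinFpf
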