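import Cfsg.Agent.ZJ.SL2Basic
import Cfsg.Agent.CharP.YMinimal
import Cfsg.Prelude.Def_LocalEven
import Cfsg.Prelude.Def_Transfer

/-!
The natural module of `SL₂(F)`.
-/

set_option autoImplicit false
set_option linter.style.haveILetI false
set_option linter.unusedSimpArgs false

namespace CfsgLib.NatSL2

open Subgroup Cfsg CfsgLib.YMinimal
open scoped commutatorElement

variable {F : Type*} [Field F]

/-- Upper unitriangular matrices. -/
def uniF (F : Type*) [Field F] : Subgroup (ZJ.SL2 F) where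
  carrier := {A | A 0 0 = 1 ∧ A 1 0 = 0}
  one_mem' := by simp
  mul_mem' := fun {A B} ha hb => by
    refine ⟨?_, ?_⟩
    · rw [ZJ.sl2_mul, ha.1, hb.1, hb.2]; ring
    · rw [ZJ.sl2_mul, ha.2, hb.1, hb.2]; ring
  inv_mem' := fun {A} ha => by
    obtain ⟨i00, -, i10, -⟩ := ZJ.sl2_inv A
    have hd := ZJ.sl2_det A
    rw [ha.1, ha.2] at hd
    refine ⟨?_, ?_⟩
    · rw [i00]; linear_combination hd
    · rw [i10, ha.2, neg_zero]

theorem uniF_eq_upper {A : ZJ.SL2 F} (hA : A ∈ uniF F) : A = ZJ.upper (A 0 1) := by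
  have hd := ZJ.sl2_det A
  rw [hA.1, hA.2] at hd
  refine ZJ.sl2_ext hA.1 rfl hA.2 ?_
  simp only [ZJ.upper_11]
  linear_combination hd

theorem upper_mem (a : F) : ZJ.upper a ∈ uniF F := ⟨rfl, rfl⟩

theorem upper_mulVec (t : F) (v : Fin 2 → F) :
    (ZJ.upper t : Matrix (Fin 2) (Fin 2) F).mulVec v = ![v 0 + t * v 1, v 1] := by
  funext i
  fin_cases i <;> simp [ZJ.upper, Matrix.mulVec, dotProduct, Fin.sum_univ_two]

theorem exists_first_column {v : Fin 2 → F} (hv : v ≠ 0) :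
    ∃ B : ZJ.SL2 F, (B : Matrix (Fin 2) (Fin 2) F).mulVec ![1, 0] = v := by
  by_cases h0 : v 0 = 0
  · have h1 : v 1 ≠ 0 := fun h1 => hv (funext fun i => by fin_cases i <;> simp [h0, h1])
    refine ⟨⟨!![v 0, -(v 1)⁻¹; v 1, 0], by simp [Matrix.det_fin_two, h1]⟩, ?_⟩
    funext i
    fin_cases i <;> simp [Matrix.mulVec, dotProduct, Fin.sum_univ_two]
  · refine ⟨⟨!![v 0, 0; v 1, (v 0)⁻¹], by simp [Matrix.det_fin_two, h0]⟩, ?_⟩
    funext i
    fin_cases i <;> simp [Matrix.mulVec, dotProduct, Fin.sum_univ_two]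

variable [Fintype F] {p : ℕ} [Fact p.Prime] [CharP F p]

theorem isPGroup_uniF : IsPGroup p (uniF F) := by
  intro A
  refine ⟨1, Subtype.ext ?_⟩
  rw [pow_one, Subgroup.coe_pow, uniF_eq_upper A.2, ZJ.upper_pow, CharP.cast_eq_zero, zero_mul,
    ZJ.upper_zero]
  rfl

theorem not_dvd_index_uniF : ¬ p ∣ (uniF F).index := by
  let f : ZJ.SL2 F ⧸ uniF F → {v : Fin 2 → F // v ≠ 0} :=
    Quotient.lift (fun A => ⟨![A 0 0, A 1 0], fun h => by
      have e0 : A 0 0 = 0 := congrFun h 0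
      have e1 : A 1 0 = 0 := congrFun h 1
      have hd := ZJ.sl2_det A
      rw [e0, e1] at hd
      simp at hd⟩) (by
      intro A B hAB
      obtain ⟨h0, h1⟩ := (QuotientGroup.leftRel_apply.1 hAB : A⁻¹ * B ∈ uniF F)
      have hA : ∀ i, (A * (A⁻¹ * B)) i 0 = A i 0 * (A⁻¹ * B) 0 0 + A i 1 * (A⁻¹ * B) 1 0 :=
        fun i => ZJ.sl2_mul _ _ _ _
      rw [mul_inv_cancel_left] at hA
      refine Subtype.ext (funext fun i => ?_)
      fin_cases i <;> simp [hA, h0, h1])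
  have hf : Function.Bijective f := by
    refine ⟨?_, ?_⟩
    · intro a b
      induction a using QuotientGroup.induction_on with
      | H A =>
        induction b using QuotientGroup.induction_on with
        | H B =>
          intro h
          have h' := congrArg Subtype.val h
          have e0 : A 0 0 = B 0 0 := congrFun h' 0
          have e1 : A 1 0 = B 1 0 := congrFun h' 1
          refine QuotientGroup.eq.2 ?_
          obtain ⟨i00, i01, i10, i11⟩ := ZJ.sl2_inv A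
          have hd := ZJ.sl2_det A
          refine ⟨?_, ?_⟩
          · rw [ZJ.sl2_mul, i00, i01, ← e0, ← e1]; linear_combination hd
          · rw [ZJ.sl2_mul, i10, i11, ← e0, ← e1]; ring
    · rintro ⟨v, hv⟩
      obtain ⟨B, hB⟩ := exists_first_column hv
      refine ⟨QuotientGroup.mk B, Subtype.ext (funext fun i => ?_)⟩
      show _ = v i
      rw [← hB]
      fin_cases i <;> simp [f, Matrix.mulVec, dotProduct, Fin.sum_univ_two]
  obtain ⟨k, -, hk⟩ := FiniteField.card F p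
  classical
  rw [index_eq_card, Nat.card_congr (Equiv.ofBijective f hf), Nat.card_eq_fintype_card]
  rw [Fintype.card_subtype_compl, Fintype.card_fun, Fintype.card_fin, hk, Fintype.card_subtype_eq]
  intro hd
  have hp := (Fact.out : p.Prime)
  have h2 : p ∣ (p ^ (k : ℕ)) ^ 2 :=
    dvd_pow (dvd_pow_self p k.pos.ne') two_ne_zero
  have h3 := Nat.dvd_sub h2 hd
  rw [Nat.sub_sub_self (Nat.one_le_pow _ _ (Nat.pow_pos hp.pos))] at h3
  exact hp.not_dvd_one h3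

variable {G : Type*} [Group G] [Finite G]

/-- Coordinates adapted to a Sylow subgroup. -/
structure Coord (p : ℕ) (F : Type*) [Field F] (V L T : Subgroup G) where
  /-- The matrices. -/
  e : L ≃* ZJ.SL2 F
  /-- The vectors. -/
  ψ : Additive V ≃+ (Fin 2 → F)
  act : ∀ (l : L) (v : V), ∃ w : V, (w : G) = (l : G) * (v : G) * (l : G)⁻¹ ∧
    ψ (Additive.ofMul w) = ((e l : ZJ.SL2 F) : Matrix (Fin 2) (Fin 2) F).mulVec
      (ψ (Additive.ofMul v))
  le : T ≤ L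
  mem_T : ∀ l : L, (l : G) ∈ T ↔ e l ∈ uniF F

theorem exists_coord (V L : Subgroup G) (hnat : IsNaturalSL2Module F V L)
    (hf : L ⊓ centralizer (V : Set G) = ⊥) (S : Sylow p L) :
    Nonempty (Coord p F V L ((S : Subgroup L).map L.subtype)) := by
  obtain ⟨-, ρ, ψ, hsurj, hker, hact⟩ := hnat
  have hinj : Function.Injective ρ := by
    rw [← MonoidHom.ker_eq_bot_iff, hker, eq_bot_iff]
    intro x hx
    have hx' : (x : G) ∈ L ⊓ centralizer (V : Set G) := Subgroup.mem_inf.2 ⟨x.2, hx⟩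
    rw [hf] at hx'
    exact mem_bot.2 (Subtype.ext hx')
  set e₀ : L ≃* ZJ.SL2 F := MulEquiv.ofBijective ρ ⟨hinj, hsurj⟩
  haveI : Finite (ZJ.SL2 F) := Finite.of_equiv L e₀.toEquiv
  set U : Sylow p (ZJ.SL2 F) := isPGroup_uniF.toSylow not_dvd_index_uniF
  obtain ⟨A, hA⟩ := MulAction.exists_smul_eq (ZJ.SL2 F) U
    (S.mapSurjective (f := e₀.toMonoidHom) e₀.surjective)
  have hA' : (S : Subgroup L).map e₀.toMonoidHom = (uniF F).map (MulAut.conj A).toMonoidHom := by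
    have := congrArg (fun P : Sylow p (ZJ.SL2 F) => (P : Subgroup (ZJ.SL2 F))) hA
    simp only [Sylow.coe_subgroup_smul, Sylow.coe_mapSurjective] at this
    exact this.symm
  let M : (Fin 2 → F) ≃+ (Fin 2 → F) :=
    { toFun := fun v => ((A⁻¹ : ZJ.SL2 F) : Matrix (Fin 2) (Fin 2) F).mulVec v
      invFun := fun v => (A : Matrix (Fin 2) (Fin 2) F).mulVec v
      left_inv := fun v => by
        simp only [Matrix.mulVec_mulVec, ← Matrix.SpecialLinearGroup.coe_mul, mul_inv_cancel,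
          Matrix.SpecialLinearGroup.coe_one, Matrix.one_mulVec]
      right_inv := fun v => by
        simp only [Matrix.mulVec_mulVec, ← Matrix.SpecialLinearGroup.coe_mul, inv_mul_cancel,
          Matrix.SpecialLinearGroup.coe_one, Matrix.one_mulVec]
      map_add' := fun v w => Matrix.mulVec_add _ v w }
  refine ⟨{
    e := e₀.trans (MulAut.conj A⁻¹)
    ψ := ψ.trans M
    act := fun l v => ?_
    le := map_subtype_le _
    mem_T := fun l => ?_ }⟩
  · obtain ⟨w, hw, hwe⟩ := hact l v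
    refine ⟨w, hw, ?_⟩
    show ((A⁻¹ : ZJ.SL2 F) : Matrix (Fin 2) (Fin 2) F).mulVec (ψ (Additive.ofMul w)) =
      ((A⁻¹ * ρ l * A⁻¹⁻¹ : ZJ.SL2 F) : Matrix (Fin 2) (Fin 2) F).mulVec
        (((A⁻¹ : ZJ.SL2 F) : Matrix (Fin 2) (Fin 2) F).mulVec (ψ (Additive.ofMul v)))
    rw [hwe, Matrix.mulVec_mulVec, Matrix.mulVec_mulVec, ← Matrix.SpecialLinearGroup.coe_mul,
      ← Matrix.SpecialLinearGroup.coe_mul, inv_inv, mul_inv_cancel_right]
  · rw [show ((l : G) ∈ (S : Subgroup L).map L.subtype ↔ l ∈ (S : Subgroup L)) from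
      mem_map_iff_mem L.subtype_injective]
    show _ ↔ A⁻¹ * ρ l * A⁻¹⁻¹ ∈ uniF F
    rw [inv_inv, ← mem_conj (A := uniF F), ← hA']
    exact (mem_map_iff_mem e₀.injective).symm

namespace Coord

variable {V L T : Subgroup G} (C : Coord p F V L T)

include C

/-- Coordinates of an element of `V`. -/
noncomputable def co (v : V) : Fin 2 → F := C.ψ (Additive.ofMul v)

theorem co_inj {v w : V} (h : C.co v = C.co w) : v = w :=
  Additive.ofMul.injective (C.ψ.injective h)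

theorem co_mul (v w : V) : C.co (v * w) = C.co v + C.co w := map_add C.ψ _ _

theorem co_inv (v : V) : C.co v⁻¹ = -C.co v := map_neg C.ψ _

theorem co_one : C.co 1 = 0 := map_zero C.ψ

theorem co_surj (x : Fin 2 → F) : ∃ v : V, C.co v = x :=
  ⟨Additive.toMul (C.ψ.symm x), C.ψ.apply_symm_apply x⟩

theorem conj_mem {l : G} (hl : l ∈ L) {v : G} (hv : v ∈ V) : l * v * l⁻¹ ∈ V := by
  obtain ⟨w, hw, -⟩ := C.act ⟨l, hl⟩ ⟨v, hv⟩
  rw [← show (w : G) = l * v * l⁻¹ from hw]; exact w.2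

theorem co_conj {l : G} (hl : l ∈ L) (v : V) :
    C.co ⟨l * v * l⁻¹, C.conj_mem hl v.2⟩ =
      ((C.e ⟨l, hl⟩ : ZJ.SL2 F) : Matrix (Fin 2) (Fin 2) F).mulVec (C.co v) := by
  obtain ⟨w, hw, hwe⟩ := C.act ⟨l, hl⟩ v
  rw [show (⟨l * v * l⁻¹, C.conj_mem hl v.2⟩ : V) = w from Subtype.ext hw.symm]
  exact hwe

theorem commute_iff {l : G} (hl : l ∈ L) (v : V) :
    (v : G) * l = l * v ↔
      ((C.e ⟨l, hl⟩ : ZJ.SL2 F) : Matrix (Fin 2) (Fin 2) F).mulVec (C.co v) = C.co v := by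
  rw [← C.co_conj hl v]
  constructor
  · intro h
    congr 1
    refine Subtype.ext (show l * (v : G) * l⁻¹ = v from ?_)
    rw [← h, mul_inv_cancel_right]
  · intro h
    have h1 : l * (v : G) * l⁻¹ = v := congrArg Subtype.val (C.co_inj h)
    exact ((mul_inv_eq_iff_eq_mul.1 h1)).symm

theorem exists_elem (A : ZJ.SL2 F) : ∃ (l : G) (hl : l ∈ L), C.e ⟨l, hl⟩ = A :=
  ⟨_, (C.e.symm A).2, C.e.apply_symm_apply A⟩

theorem upper_elem (t : F) : ∃ l ∈ T, ∃ hl : l ∈ L, C.e ⟨l, hl⟩ = ZJ.upper t := by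
  obtain ⟨l, hl, he⟩ := C.exists_elem (ZJ.upper t)
  exact ⟨l, (C.mem_T ⟨l, hl⟩).2 (he ▸ upper_mem t), hl, he⟩

/-- Fixed points of one nontrivial unipotent element. -/
theorem fix_iff {s : G} (hs : s ∈ T) (hs1 : s ≠ 1) (v : V) :
    (v : G) * s = s * v ↔ C.co v 1 = 0 := by
  have hu := uniF_eq_upper ((C.mem_T ⟨s, C.le hs⟩).1 hs)
  set t := (C.e ⟨s, C.le hs⟩) 0 1
  have ht : t ≠ 0 := fun h => hs1 (by
    rw [h, ZJ.upper_zero] at hu
    exact congrArg Subtype.val (C.e.map_eq_one_iff.1 hu))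
  rw [C.commute_iff (C.le hs), hu, upper_mulVec]
  constructor
  · intro h
    have h0 : C.co v 0 + t * C.co v 1 = C.co v 0 := congrFun h 0
    rw [add_eq_left, mul_eq_zero] at h0
    exact h0.resolve_left ht
  · intro h
    funext i
    fin_cases i <;> simp [h]

theorem fixed_T (v : V) : (v : G) ∈ centralizer (T : Set G) ↔ C.co v 1 = 0 := by
  constructor
  · intro h
    obtain ⟨l, hlT, hl, he⟩ := C.upper_elem 1
    refine (C.fix_iff hlT ?_ v).1 (mem_centralizer_iff.1 h l hlT).symm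
    intro h1
    subst h1
    have h2 : (1 : ZJ.SL2 F) = ZJ.upper 1 := by rw [← he]; exact (map_one C.e).symm
    have h3 : ((1 : ZJ.SL2 F) : Matrix (Fin 2) (Fin 2) F) 0 1 = ZJ.upper (1 : F) 0 1 := by rw [h2]
    simp at h3
  · intro h
    refine mem_centralizer_iff.2 fun s hs => ?_
    by_cases hs1 : s = 1
    · simp [hs1]
    · exact ((C.fix_iff hs hs1 v).2 h).symm

theorem mem_Z {x : G} : x ∈ V ⊓ centralizer (T : Set G) ↔ ∃ v : V, (v : G) = x ∧ C.co v 1 = 0 := by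
  constructor
  · rintro ⟨hx, hc⟩; exact ⟨⟨x, hx⟩, rfl, (C.fixed_T ⟨x, hx⟩).1 hc⟩
  · rintro ⟨v, rfl, hv⟩; exact ⟨v.2, (C.fixed_T v).2 hv⟩

theorem co_comm (hV : IsMulCommutative V) {t : G} (ht : t ∈ T) (v : V) :
    ∃ w : V, (w : G) = v * t * (v : G)⁻¹ * t⁻¹ ∧
      C.co w = ![-((C.e ⟨t, C.le ht⟩) 0 1 * C.co v 1), 0] := by
  refine ⟨v * ⟨t * (v : G) * t⁻¹, C.conj_mem (C.le ht) v.2⟩⁻¹, by simp [mul_assoc], ?_⟩
  rw [co_mul, co_inv, C.co_conj (C.le ht), uniF_eq_upper ((C.mem_T ⟨t, C.le ht⟩).1 ht),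
    upper_mulVec]
  funext i
  fin_cases i <;> simp

theorem card_V : Nat.card V = Nat.card F ^ 2 := by
  rw [← Nat.card_congr (Additive.ofMul.symm : Additive V ≃ V), Nat.card_congr C.ψ.toEquiv,
    Nat.card_fun, Nat.card_fin]

theorem card_Z : Nat.card (V ⊓ centralizer (T : Set G) : Subgroup G) = Nat.card F := by
  refine (Nat.card_eq_of_bijective (fun x : F => (⟨(C.co_surj ![x, 0]).choose,
    C.mem_Z.2 ⟨_, rfl, by rw [(C.co_surj ![x, 0]).choose_spec]; rfl⟩⟩ :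
      (V ⊓ centralizer (T : Set G) : Subgroup G))) ⟨?_, ?_⟩).symm
  · intro x y h
    have h1 := congrArg C.co (Subtype.ext (congrArg (fun z : (V ⊓ centralizer (T : Set G) : Subgroup G) => (z : G)) h) :
      (C.co_surj ![x, 0]).choose = (C.co_surj ![y, 0]).choose)
    rw [(C.co_surj ![x, 0]).choose_spec, (C.co_surj ![y, 0]).choose_spec] at h1
    exact congrFun h1 0
  · rintro ⟨z, hz⟩
    obtain ⟨v, hv, hv1⟩ := C.mem_Z.1 hz
    refine ⟨C.co v 0, Subtype.ext ?_⟩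
    show (((C.co_surj ![C.co v 0, 0]).choose : V) : G) = z
    rw [← hv]
    refine congrArg Subtype.val (C.co_inj ((C.co_surj ![C.co v 0, 0]).choose_spec.trans ?_))
    funext i
    fin_cases i <;> simp [hv1]

theorem commutator_facts (hV : IsMulCommutative V) :
    ⁅⁅V, T⁆, T⁆ = ⊥ ∧ ∀ s ∈ T, s ≠ 1 →
      (V ⊓ centralizer ({s} : Set G)) = (V ⊓ centralizer (T : Set G)) ∧
      ⁅V, T⁆ = (V ⊓ centralizer (T : Set G)) ∧
      ⁅V, zpowers s⁆ = (V ⊓ centralizer (T : Set G)) ∧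
      ∀ v ∈ V, v ∉ centralizer (T : Set G) →
        closure {x : G | ∃ t ∈ T, x = v * t * v⁻¹ * t⁻¹} = (V ⊓ centralizer (T : Set G)) := by
  have hle : ⁅V, T⁆ ≤ V ⊓ centralizer (T : Set G) := commutator_le.2 fun v hv t ht => by
    obtain ⟨w, hw, hwc⟩ := C.co_comm hV ht ⟨v, hv⟩
    exact C.mem_Z.2 ⟨w, hw, by rw [hwc]; rfl⟩
  refine ⟨?_, fun s hs hs1 => ?_⟩
  · rw [commutator_eq_bot_iff_le_centralizer]
    exact hle.trans inf_le_right
  refine ⟨?_, ?_, ?_, fun v hv hvc => ?_⟩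
  · refine le_antisymm (fun x hx => C.mem_Z.2 ⟨⟨x, hx.1⟩, rfl, ?_⟩)
      (inf_le_inf_left _ (centralizer_le (Set.singleton_subset_iff.2 hs)))
    exact (C.fix_iff hs hs1 _).1 (mem_centralizer_singleton_iff.1 hx.2)
  · refine le_antisymm hle fun x hx => ?_
    obtain ⟨w, rfl, hw⟩ := C.mem_Z.1 hx
    obtain ⟨v, hv⟩ := C.co_surj ![0, 1]
    obtain ⟨l, hlT, hl, he⟩ := C.upper_elem (-(C.co w 0))
    obtain ⟨w', hw', hwc⟩ := C.co_comm hV hlT v
    have : w = w' := C.co_inj (by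
      rw [hwc, he, hv]
      funext i
      fin_cases i <;> simp [hw])
    rw [this, hw']
    exact commutator_mem_commutator v.2 hlT
  · refine le_antisymm ((commutator_mono le_rfl (zpowers_le.2 hs)).trans hle) fun x hx => ?_
    obtain ⟨w, rfl, hw⟩ := C.mem_Z.1 hx
    set t := (C.e ⟨s, C.le hs⟩) 0 1 with ht
    have ht0 : t ≠ 0 := fun h => hs1 (by
      have hu := uniF_eq_upper ((C.mem_T ⟨s, C.le hs⟩).1 hs)
      rw [← ht, h, ZJ.upper_zero] at hu
      exact congrArg Subtype.val (C.e.map_eq_one_iff.1 hu))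
    obtain ⟨v, hv⟩ := C.co_surj ![0, -(C.co w 0) / t]
    obtain ⟨w', hw', hwc⟩ := C.co_comm hV hs v
    have : w = w' := C.co_inj (by
      rw [hwc, hv, ← ht]
      funext i
      fin_cases i <;> simp [hw]
      field_simp)
    rw [this, hw']
    exact commutator_mem_commutator v.2 (mem_zpowers s)
  · have hb : C.co ⟨v, hv⟩ 1 ≠ 0 := fun h => hvc ((C.fixed_T ⟨v, hv⟩).2 h)
    refine le_antisymm ((closure_le _).2 ?_) fun x hx => ?_
    · rintro _ ⟨t, ht, rfl⟩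
      exact hle (commutator_mem_commutator hv ht)
    · obtain ⟨w, rfl, hw⟩ := C.mem_Z.1 hx
      obtain ⟨l, hlT, hl, he⟩ := C.upper_elem (-(C.co w 0) / C.co ⟨v, hv⟩ 1)
      obtain ⟨w', hw', hwc⟩ := C.co_comm hV hlT ⟨v, hv⟩
      have : w = w' := C.co_inj (by
        rw [hwc, he]
        funext i
        fin_cases i <;> simp [hw]
        field_simp)
      rw [this, hw']
      exact subset_closure ⟨l, hlT, rfl⟩

theorem tri_normalizer {g : G} (hg : g ∈ L) (hc : (C.e ⟨g, hg⟩) 1 0 = 0) :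
    g ∈ normalizer (T : Set G) := by
  refine mem_normalizer_of_conj_le ?_
  rintro _ ⟨t, ht, rfl⟩
  show g * t * g⁻¹ ∈ T
  refine (C.mem_T ⟨g * t * g⁻¹, mul_mem (mul_mem hg (C.le ht)) (inv_mem hg)⟩).2 ?_
  rw [show (⟨g * t * g⁻¹, _⟩ : L) = ⟨g, hg⟩ * ⟨t, C.le ht⟩ * ⟨g, hg⟩⁻¹ from rfl, map_mul, map_mul,
    map_inv, uniF_eq_upper ((C.mem_T ⟨t, C.le ht⟩).1 ht)]
  obtain ⟨i00, i01, i10, i11⟩ := ZJ.sl2_inv (C.e ⟨g, hg⟩)
  have hd := ZJ.sl2_det (C.e ⟨g, hg⟩)
  refine ⟨?_, ?_⟩ <;>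
    simp only [ZJ.sl2_mul, i00, i10, ZJ.upper_00, ZJ.upper_01, ZJ.upper_10, ZJ.upper_11, hc]
  · rw [hc] at hd; linear_combination hd
  · ring

theorem conj_fixed (hV : IsMulCommutative V) {g : G} (hg : g ∈ L)
    (hgn : g ∉ normalizer (T : Set G)) :
    IsInternalDirectProduct (V ⊓ centralizer (T : Set G))
      (V ⊓ centralizer ((T.map (MulAut.conj g).toMonoidHom : Subgroup G) : Set G)) V := by
  set A := C.e ⟨g, hg⟩ with hA
  have hc : A 1 0 ≠ 0 := fun h => hgn (C.tri_normalizer hg h)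
  have hmem : ∀ x : G, x ∈ V ⊓ centralizer ((T.map (MulAut.conj g).toMonoidHom : Subgroup G) : Set G)
      ↔ ∃ z : V, C.co z 1 = 0 ∧ x = g * z * g⁻¹ := by
    intro x
    constructor
    · rintro ⟨hx, hc⟩
      have h1 : g⁻¹ * x * g ∈ V := by simpa using C.conj_mem (inv_mem hg) hx
      refine ⟨⟨_, h1⟩, (C.fixed_T ⟨_, h1⟩).1 (mem_centralizer_iff.2 fun t ht => ?_),
        by simp [mul_assoc]⟩
      have h2 := mem_centralizer_iff.1 hc _ (mem_map_of_mem (MulAut.conj g).toMonoidHom ht)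
      simp only [MulEquiv.coe_toMonoidHom, MulAut.conj_apply] at h2
      calc t * (g⁻¹ * x * g) = g⁻¹ * (g * t * g⁻¹ * x) * g := by simp [mul_assoc]
        _ = g⁻¹ * x * g * t := by rw [h2]; simp [mul_assoc]
    · rintro ⟨z, hz, rfl⟩
      refine Subgroup.mem_inf.2 ⟨C.conj_mem hg z.2, mem_centralizer_iff.2 ?_⟩
      rintro _ ⟨t, ht, rfl⟩
      have h2 := mem_centralizer_iff.1 ((C.fixed_T z).2 hz) t ht
      show g * t * g⁻¹ * (g * (z : G) * g⁻¹) = g * z * g⁻¹ * (g * t * g⁻¹)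
      calc g * t * g⁻¹ * (g * (z : G) * g⁻¹) = g * (t * z) * g⁻¹ := by simp [mul_assoc]
        _ = g * z * g⁻¹ * (g * t * g⁻¹) := by rw [h2]; simp [mul_assoc]
  have hco : ∀ z : V, C.co z 1 = 0 →
      C.co ⟨g * z * g⁻¹, C.conj_mem hg z.2⟩ = ![A 0 0 * C.co z 0, A 1 0 * C.co z 0] := by
    intro z hz
    rw [C.co_conj hg]
    funext i
    fin_cases i <;> simp [← hA, Matrix.mulVec, dotProduct, Fin.sum_univ_two, hz]
  refine ⟨inf_le_left, inf_le_left,
    fun a ha b hb => setLike_mul_comm (s := V) (Subgroup.mem_inf.1 ha).1 (Subgroup.mem_inf.1 hb).1,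
    eq_bot_iff.2 ?_, le_antisymm (sup_le inf_le_left inf_le_left) ?_⟩
  · rintro x ⟨h1, h2⟩
    obtain ⟨z, hz, rfl⟩ := (hmem x).1 h2
    obtain ⟨v, hv, hv1⟩ := C.mem_Z.1 h1
    have he : v = ⟨g * z * g⁻¹, C.conj_mem hg z.2⟩ := Subtype.ext hv
    rw [he, hco z hz] at hv1
    have hz0 : C.co z 0 = 0 := (mul_eq_zero.1 (by simpa using hv1)).resolve_left hc
    have : z = 1 := C.co_inj (by
      rw [co_one]; funext i; fin_cases i <;> simp [hz, hz0])
    simp [this]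
  · intro x hx
    set v : V := ⟨x, hx⟩
    obtain ⟨z, hz⟩ := C.co_surj ![C.co v 1 / A 1 0, 0]
    have hz1 : C.co z 1 = 0 := by rw [hz]; rfl
    set b : V := ⟨g * z * g⁻¹, C.conj_mem hg z.2⟩ with hb
    have hab : C.co (v * b⁻¹) 1 = 0 := by
      rw [co_mul, co_inv, hb, hco z hz1, hz]
      simp
      field_simp
      ring
    have h := mul_mem (mem_sup_left
      (T := V ⊓ centralizer ((T.map (MulAut.conj g).toMonoidHom : Subgroup G) : Set G))
      (C.mem_Z.2 ⟨v * b⁻¹, rfl, hab⟩)) (mem_sup_right (S := V ⊓ centralizer (T : Set G))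
      ((hmem (b : G)).2 ⟨z, hz1, rfl⟩))
    simpa [v] using h

theorem fpf {x : G} (hx : x ∈ L) (hx1 : x ≠ 1) (hxc : (orderOf x).Coprime p) :
    V ⊓ centralizer ({x} : Set G) = ⊥ := by
  rw [eq_bot_iff]
  intro v hv
  by_contra hv1
  set w : V := ⟨v, (Subgroup.mem_inf.1 hv).1⟩
  have hw : C.co w ≠ 0 := fun h => hv1 (mem_bot.2
    (congrArg Subtype.val (C.co_inj (h.trans C.co_one.symm))))
  have hfix := (C.commute_iff hx w).1 (mem_centralizer_singleton_iff.1 (Subgroup.mem_inf.1 hv).2)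
  set X := C.e ⟨x, hx⟩
  obtain ⟨B, hB⟩ := exists_first_column hw
  have h1 : ((B⁻¹ * X * B : ZJ.SL2 F) : Matrix (Fin 2) (Fin 2) F).mulVec ![1, 0] = ![1, 0] := by
    rw [Matrix.SpecialLinearGroup.coe_mul, Matrix.SpecialLinearGroup.coe_mul, ← Matrix.mulVec_mulVec,
      ← Matrix.mulVec_mulVec, hB, hfix, ← hB, Matrix.mulVec_mulVec,
      ← Matrix.SpecialLinearGroup.coe_mul, inv_mul_cancel, Matrix.SpecialLinearGroup.coe_one,
      Matrix.one_mulVec]
  have hmem : B⁻¹ * X * B ∈ uniF F := by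
    have e0 := congrFun h1 0
    have e1 := congrFun h1 1
    simp only [Matrix.mulVec, dotProduct, Fin.sum_univ_two, Matrix.cons_val_zero,
      Matrix.cons_val_one, mul_one, mul_zero, add_zero] at e0 e1
    exact ⟨e0, e1⟩
  have hp : (B⁻¹ * X * B) ^ p = 1 := by
    rw [uniF_eq_upper hmem, ZJ.upper_pow, CharP.cast_eq_zero, zero_mul, ZJ.upper_zero]
  have hp' : X ^ p = 1 := by
    have h2 := congrArg (fun Y => B * Y * B⁻¹) hp
    simp only [mul_one, mul_inv_cancel] at h2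
    rwa [← conj_pow, show B * (B⁻¹ * X * B) * B⁻¹ = X by simp [mul_assoc]] at h2
  have hd : orderOf x ∣ p := by
    refine orderOf_dvd_of_pow_eq_one ?_
    have h3 : (⟨x, hx⟩ : L) ^ p = 1 := C.e.injective (by rw [map_pow, map_one]; exact hp')
    exact congrArg Subtype.val h3
  exact hx1 (orderOf_eq_one_iff.1 (Nat.eq_one_of_dvd_coprimes hxc dvd_rfl hd))

theorem diag_elem {a : F} (ha : a ≠ 0) : ∃ (l : G) (hl : l ∈ L),
    l ∈ normalizer (T : Set G) ∧ ∀ v : V,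
      C.co ⟨l * v * l⁻¹, C.conj_mem hl v.2⟩ = ![a * C.co v 0, a⁻¹ * C.co v 1] := by
  obtain ⟨l, hl, he⟩ := C.exists_elem ⟨!![a, 0; 0, a⁻¹], by simp [Matrix.det_fin_two, ha]⟩
  refine ⟨l, hl, C.tri_normalizer hl (by rw [he]; rfl), fun v => ?_⟩
  rw [C.co_conj hl, he]
  funext i
  fin_cases i <;> simp [Matrix.mulVec, dotProduct, Fin.sum_univ_two]

theorem irreducible :
    (∀ U : Subgroup G, U ≤ V ⊓ centralizer (T : Set G) →
      L ⊓ normalizer (T : Set G) ≤ normalizer (U : Set G) →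
      U = ⊥ ∨ U = V ⊓ centralizer (T : Set G)) ∧
    (∀ U : Subgroup G, V ⊓ centralizer (T : Set G) ≤ U → U ≤ V →
      L ⊓ normalizer (T : Set G) ≤ normalizer (U : Set G) →
      U = V ⊓ centralizer (T : Set G) ∨ U = V) := by
  refine ⟨fun U hU hn => ?_, fun U hZ hU hn => ?_⟩
  · refine or_iff_not_imp_left.2 fun hne => le_antisymm hU fun x hx => ?_
    obtain ⟨u, hu, hu1⟩ := (bot_or_exists_ne_one U).resolve_left hne
    obtain ⟨v, rfl, hv⟩ := C.mem_Z.1 (hU hu)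
    obtain ⟨w, rfl, hw⟩ := C.mem_Z.1 hx
    have hv0 : C.co v 0 ≠ 0 := fun h => hu1 (by
      rw [show v = 1 from C.co_inj (by rw [co_one]; funext i; fin_cases i <;> simp [h, hv])]; rfl)
    by_cases hw0 : C.co w 0 = 0
    · rw [show w = 1 from C.co_inj (by rw [co_one]; funext i; fin_cases i <;> simp [hw0, hw])]
      exact one_mem U
    obtain ⟨l, hl, hln, hlc⟩ := C.diag_elem (div_ne_zero hw0 hv0)
    rw [show w = ⟨l * v * l⁻¹, C.conj_mem hl v.2⟩ from C.co_inj (by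
      rw [hlc]
      funext i
      fin_cases i
      · simp [hv0]
      · simp [hv, hw])]
    exact (mem_normalizer_iff.1 (hn ⟨hl, hln⟩) _).1 hu
  · refine or_iff_not_imp_left.2 fun hne => le_antisymm hU fun x hx => ?_
    obtain ⟨u, hu, huZ⟩ := SetLike.exists_of_lt (lt_of_le_of_ne hZ (Ne.symm hne))
    set v : V := ⟨u, hU hu⟩
    have hv1 : C.co v 1 ≠ 0 := fun h => huZ (C.mem_Z.2 ⟨v, rfl, h⟩)
    set w : V := ⟨x, hx⟩
    by_cases hw1 : C.co w 1 = 0
    · exact hZ (C.mem_Z.2 ⟨w, rfl, hw1⟩)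
    obtain ⟨l, hl, hln, hlc⟩ := C.diag_elem (div_ne_zero hv1 hw1)
    set b : V := ⟨l * v * l⁻¹, C.conj_mem hl v.2⟩ with hb
    have hab : C.co (w * b⁻¹) 1 = 0 := by
      rw [co_mul, co_inv, hb, hlc]
      simp
      field_simp
      ring
    have h := mul_mem (hZ (C.mem_Z.2 ⟨w * b⁻¹, rfl, hab⟩))
      ((mem_normalizer_iff.1 (hn ⟨hl, hln⟩) u).1 hu)
    simpa [b, w, v, mul_assoc] using h

end Coord

end CfsgLib.NatSL2
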