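import Cfsg.Prelude.Def_LocalEven
import Cfsg.Agent.CharP.PIrreducible
import Cfsg.Agent.CharP.Subnormal
import Cfsg.Agent.PLocal.SubnormalJoin
import Cfsg.Agent.Comp.ExtTwoLayer
import Cfsg.Agent.Solvable.CoprimeAct

/-!
`p`-minimal groups: subnormal subgroups below the maximal overgroup, and normal `p'`-subgroups.
-/

set_option autoImplicit false
set_option linter.style.haveILetI false
set_option linter.unusedSectionVars false

namespace CfsgLib.PMin

open Subgroup

variable {G : Type*} [Group G] [Finite G] {p : ℕ} [Fact p.Prime]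

/-- `M` is the unique maximal subgroup over `A`. -/
def Over (A M : Subgroup G) : Prop :=
  A ≤ M ∧ M ≠ ⊤ ∧ ∀ Y : Subgroup G, A ≤ Y → Y = ⊤ ∨ Y ≤ M

theorem over_of_isPMinimal (hP : Cfsg.IsPMinimal p G) (S : Sylow p G) {M : Subgroup G}
    (hM : IsCoatom M) (hSM : (S : Subgroup G) ≤ M) : Over (S : Subgroup G) M := by
  obtain ⟨-, M', -, huniq⟩ := hP S
  refine ⟨hSM, hM.1, fun Y hY => ?_⟩
  rcases eq_top_or_exists_le_coatom Y with h | ⟨M'', hM'', hYM⟩
  · exact Or.inl h
  · exact Or.inr ((huniq M'' ⟨hM'', hY.trans hYM⟩).trans (huniq M ⟨hM, hSM⟩).symm ▸ hYM)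

theorem isMinimalOver_of_isPMinimal (hP : Cfsg.IsPMinimal p G) (S : Sylow p G) :
    Cfsg.IsMinimalOver (S : Subgroup G) := by
  obtain ⟨hn, hex⟩ := hP S
  refine ⟨?_, hex⟩
  obtain ⟨M, ⟨hM, hSM⟩, -⟩ := hex
  obtain ⟨-, hne, hover⟩ := over_of_isPMinimal hP S hM hSM
  set N := normalClosure ((S : Subgroup G) : Set G) with hN
  have hSN : (S : Subgroup G) ≤ N := subset_normalClosure
  refine (hover N hSN).resolve_right fun hNM => ?_
  rcases hover _ (le_normalizer (H := (S : Subgroup G))) with h | h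
  · exact hn (normalizer_eq_top_iff.1 h)
  · exact hne (top_le_iff.1 ((Sylow.normalizer_sup_eq_top' S hSN).ge.trans (sup_le h hNM)))

theorem exists_conj_moved {N : Subgroup G} (hN : N.IsSubnormal) (hn : ¬ N.Normal) :
    ∃ g : G, ¬ N.map (MulAut.conj g).toMonoidHom ≤ N ∧
      N.map (MulAut.conj g).toMonoidHom ≤ normalizer (N : Set G) := by
  obtain ⟨n, hcard⟩ : ∃ n, Nat.card G = n := ⟨_, rfl⟩
  induction n using Nat.strong_induction_on generalizing G with
  | _ n ih =>
    subst hcard
    rcases hN.lt_normal with rfl | ⟨K, hKn, hNK, hKlt⟩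
    · exact absurd (inferInstanceAs (⊤ : Subgroup G).Normal) hn
    haveI := hKn
    by_cases hsub : (N.subgroupOf K).Normal
    · have hKN : K ≤ normalizer (N : Set G) := (normal_subgroupOf_iff_le_normalizer hNK).1 hsub
      have hconj : ∀ g : G, N.map (MulAut.conj g).toMonoidHom ≤ K := by
        intro g
        rw [map_le_iff_le_comap]
        exact fun x hx => hKn.conj_mem x (hNK hx) g
      by_contra hcon
      push Not at hcon
      refine hn ⟨fun x hx g => ?_⟩
      by_contra hgx
      exact hcon g (fun hle => hgx (hle ⟨x, hx, rfl⟩)) ((hconj g).trans hKN)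
    · have hlt : Nat.card K < Nat.card G :=
        lt_of_le_of_ne (card_le_card_group K) fun h => hKlt.ne (eq_top_of_card_eq K h)
      obtain ⟨g, hg1, hg2⟩ := ih _ hlt (hN.subgroupOf (K := K)) hsub rfl
      have hmap : ((N.subgroupOf K).map (MulAut.conj g).toMonoidHom).map K.subtype =
          N.map (MulAut.conj (g : G)).toMonoidHom := by
        conv_rhs => rw [← map_subgroupOf_eq_of_le hNK]
        rw [Subgroup.map_map, Subgroup.map_map]
        rfl
      refine ⟨g, fun hle => hg1 ?_, ?_⟩
      · rw [← Subgroup.map_le_map_iff_of_injective K.subtype_injective, hmap,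
          map_subgroupOf_eq_of_le hNK]
        exact hle
      · rw [← hmap]
        refine (map_mono hg2).trans ?_
        refine le_trans (le_normalizer_map K.subtype) ?_
        rw [map_subgroupOf_eq_of_le hNK]

/-- A subnormal subgroup inside the maximal overgroup lies in its core. -/
theorem subnormal_le_normalCore {A M : Subgroup G} (hO : Over A M) {N : Subgroup G}
    (hN : N.IsSubnormal) (hNM : N ≤ M) : N ≤ M.normalCore := by
  obtain ⟨N', hNN', hmax⟩ := Finite.exists_le_maximal
    (p := fun K : Subgroup G => K.IsSubnormal ∧ K ≤ M) (a := N) ⟨hN, hNM⟩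
  obtain ⟨⟨hsn, hle⟩, hmax⟩ := hmax
  have key : ∀ g : G, N'.map (MulAut.conj g).toMonoidHom ≤ M →
      N'.map (MulAut.conj g).toMonoidHom ≤ N' := by
    intro g hg
    have hs : (N'.map (MulAut.conj g).toMonoidHom).IsSubnormal :=
      hsn.map (MulAut.conj g).surjective
    exact le_sup_right.trans
      (hmax ⟨SubnormalJoin.isSubnormal_sup hsn hs, sup_le hle hg⟩ le_sup_left)
  by_cases hn : N'.Normal
  · haveI := hn
    exact hNN'.trans (normal_le_normalCore.2 hle)
  exfalso
  have hA : A ≤ normalizer (N' : Set G) := by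
    intro a ha
    refine mem_normalizer_fintype fun x hx => key a ?_ ⟨x, hx, rfl⟩
    rw [map_le_iff_le_comap]
    exact fun y hy => mul_mem (mul_mem (hO.1 ha) (hle hy)) (inv_mem (hO.1 ha))
  obtain ⟨g, hg1, hg2⟩ := exists_conj_moved hsn hn
  rcases hO.2.2 _ hA with h | h
  · exact hn (normalizer_eq_top_iff.1 h)
  · exact hg1 (key g (hg2.trans h))

theorem normal_inf_le_pCore {S : Sylow p G} {M : Subgroup G} (hO : Over (S : Subgroup G) M)
    (N : Subgroup G) [hN : N.Normal] (hNM : N ≤ M) :
    N ⊓ (S : Subgroup G) ≤ Cfsg.pCore p G := by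
  have hdvd : ¬ p ∣ (((S : Subgroup G)).subgroupOf N).index :=
    (Fact.out : p.Prime).coprime_iff_not_dvd.1
      (ExtTwoLayer.coprime_relIndex_inf_of_subnormal hN.isSubnormal S).symm
  let P : Sylow p N := (S.2.comap_subtype).toSylow hdvd
  have hP : (P : Subgroup N).map N.subtype = (S : Subgroup G) ⊓ N := subgroupOf_map_subtype _ _
  have hfrat := P.normalizer_sup_eq_top
  rw [hP] at hfrat
  have hSn : (S : Subgroup G) ≤ normalizer (((S : Subgroup G) ⊓ N : Subgroup G) : Set G) := by
    intro t ht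
    refine mem_normalizer_fintype fun c hc => ?_
    exact ⟨(S : Subgroup G).mul_mem ((S : Subgroup G).mul_mem ht hc.1) ((S : Subgroup G).inv_mem ht),
      hN.conj_mem c hc.2 t⟩
  rcases hO.2.2 _ hSn with h | h
  · haveI := normalizer_eq_top_iff.1 h
    rw [inf_comm]
    exact Solvable.le_pCore p inferInstance (S.2.to_le inf_le_left)
  · exact absurd (top_le_iff.1 (hfrat.ge.trans (sup_le h hNM))) hO.2.1

/-- Normal `p'`-subgroups inside `M` are nilpotent. -/
theorem isNilpotent_of_le {A M : Subgroup G} (hA : IsPGroup p A) (hO : Over A M) (N : Subgroup G)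
    [hN : N.Normal] (hNM : N ≤ M) (hp : ¬ p ∣ Nat.card N) : Group.IsNilpotent N := by
  haveI : Group.IsNilpotent A := hA.isNilpotent
  have hcop : (Nat.card A).Coprime (Nat.card N) := by
    obtain ⟨k, hk⟩ := IsPGroup.iff_card.1 hA
    rw [hk]
    exact Nat.Coprime.pow_left k ((Fact.out : p.Prime).coprime_iff_not_dvd.mpr hp)
  have hAN : A ≤ normalizer (N : Set G) := by
    rw [normalizer_eq_top]; exact le_top
  refine ((Group.isNilpotent_of_finite_tfae (G := N)).out 0 3).2 ?_
  intro t ht W
  haveI := ht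
  obtain ⟨W', hW'⟩ := CoprimeAct.exists_invariant_sylow hAN hcop (Or.inl inferInstance) t
  have hW'n : (W' : Subgroup N).Normal := by
    rcases hO.2.2 _ hW' with h | h
    · have := normalizer_eq_top_iff.1 h
      have := this.subgroupOf N
      rwa [subgroupOf, comap_map_eq_self_of_injective N.subtype_injective] at this
    · exact absurd (top_le_iff.1 (W'.normalizer_sup_eq_top.ge.trans (sup_le h hNM))) hO.2.1
  haveI := Sylow.unique_of_normal W' hW'n
  rwa [Subsingleton.elim W W']

/-- A normal `p'`-subgroup generating the group together with `A` is a `t`-group. -/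
theorem card_dvd_prime_pow {A M : Subgroup G} (hA : IsPGroup p A) (hO : Over A M) (R : Subgroup G)
    [hR : R.Normal] (hp : ¬ p ∣ Nat.card R) (htop : R ⊔ A = ⊤) :
    ∃ t e : ℕ, t.Prime ∧ Nat.card R ∣ t ^ e := by
  haveI : Group.IsNilpotent A := hA.isNilpotent
  have hcop : (Nat.card A).Coprime (Nat.card R) := by
    obtain ⟨k, hk⟩ := IsPGroup.iff_card.1 hA
    rw [hk]
    exact Nat.Coprime.pow_left k ((Fact.out : p.Prime).coprime_iff_not_dvd.mpr hp)
  have hAR : A ≤ normalizer (R : Set G) := by
    rw [normalizer_eq_top]; exact le_top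
  by_contra hcon
  push Not at hcon
  have hsub : ∀ (t : ℕ) [Fact t.Prime], ∃ W : Sylow t R,
      (W : Subgroup R).map R.subtype ≤ M := by
    intro t ht
    obtain ⟨W, hW⟩ := CoprimeAct.exists_invariant_sylow hAR hcop (Or.inl inferInstance) t
    refine ⟨W, ((hO.2.2 _ le_sup_right).resolve_left fun h => ?_ :
      (W : Subgroup R).map R.subtype ⊔ A ≤ M) |>.trans' le_sup_left⟩
    have hAW : A ≤ normalizer (((W : Subgroup R).map R.subtype : Subgroup G) : Set G) := hW
    have h1 : Nat.card R ∣ Nat.card A * Nat.card ((W : Subgroup R).map R.subtype) :=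
      (card_subgroup_dvd_card R).trans (by
        rw [← Subgroup.card_top (G := G), ← h, sup_comm]
        exact Solvable.card_sup_dvd hAW)
    obtain ⟨e, he⟩ := IsPGroup.iff_card.1 (W.2.map R.subtype)
    exact hcon t e ht.out (he ▸ hcop.symm.dvd_of_dvd_mul_left h1)
  have hRM : R ≤ M := by
    have key : (M.subgroupOf R) = ⊤ := by
      apply eq_top_of_card_eq
      refine Nat.dvd_antisymm (card_subgroup_dvd_card _)
        ((Nat.dvd_iff_prime_pow_dvd_dvd _ _).mpr fun t k ht hdvd => ?_)
      haveI : Fact t.Prime := ⟨ht⟩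
      obtain ⟨W, hW⟩ := hsub t
      have hle : (W : Subgroup R) ≤ M.subgroupOf R := map_le_iff_le_comap.1 hW
      refine dvd_trans ?_ (card_dvd_of_le hle)
      rw [Sylow.card_eq_multiplicity]
      exact pow_dvd_pow t ((ht.pow_dvd_iff_le_factorization Nat.card_pos.ne').1 hdvd)
    exact subgroupOf_eq_top.1 key
  exact hO.2.1 (top_le_iff.1 (htop.ge.trans (sup_le hRM hO.1)))

theorem pResidual_le_or_le_core {S : Sylow p G} {M : Subgroup G} (hO : Over (S : Subgroup G) M)
    (N : Subgroup G) [N.Normal] : Cfsg.pResidual p G ≤ N ∨ N ≤ M.normalCore := by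
  rcases hO.2.2 (N ⊔ (S : Subgroup G)) le_sup_right with h | h
  · exact Or.inl (CharP.pResidual_le_of_sup_pGroup S.2 (h.symm ▸ le_top))
  · exact Or.inr (normal_le_normalCore.2 (le_sup_left.trans h))

theorem not_pResidual_le {S : Sylow p G} {M : Subgroup G} (hO : Over (S : Subgroup G) M) :
    ¬ Cfsg.pResidual p G ≤ M := fun h =>
  hO.2.1 (top_le_iff.1 ((CharP.pResidual_sup_sylow S).ge.trans (sup_le h hO.1)))

/-- If `O^p(G)` is `p`-closed, `G` is a `{p, t}`-group. -/
theorem primeFactors_le_two {S : Sylow p G} {M : Subgroup G} (hO : Over (S : Subgroup G) M)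
    (hcl : ∀ T : Sylow p ↥(Cfsg.pResidual p G), (T : Subgroup ↥(Cfsg.pResidual p G)).Normal) :
    (Nat.card G).primeFactors.card ≤ 2 := by
  haveI := Solvable.pCore_normal p (G := G)
  haveI := PResidual.pResidual_normal p (G := G)
  set R := Cfsg.pResidual p G with hR
  set O := Cfsg.pCore p G with hOdef
  set f := QuotientGroup.mk' O with hf
  have hOS : O ≤ (S : Subgroup G) := by
    obtain ⟨P, hP⟩ := (Solvable.isPGroup_pCore p (G := G)).exists_le_sylow
    obtain ⟨g, rfl⟩ := MulAction.exists_smul_eq G P S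
    intro x hx
    rw [Sylow.coe_subgroup_smul]
    exact ⟨g⁻¹ * x * g, hP (by
      simpa using (inferInstance : O.Normal).conj_mem x hx g⁻¹), by simp [mul_assoc]⟩
  have hsurj := QuotientGroup.mk'_surjective O
  have hker : f.ker = O := QuotientGroup.ker_mk' O
  haveI : (R.map f).Normal := Normal.map inferInstance f hsurj
  obtain ⟨T⟩ := (inferInstance : Nonempty (Sylow p R))
  have hTO : (T : Subgroup R) ≤ O.subgroupOf R := by
    intro x hx
    obtain ⟨k, hk⟩ := CharP.exists_pow_eq_one_of_mem T.2 hx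
    exact (CharP.isPClosed_normal_iff R).1 hcl x x.2 k (by simpa using congrArg Subtype.val hk)
  have hp : ¬ p ∣ Nat.card (R.map f) := by
    intro h
    apply T.not_dvd_index
    have h2 : Nat.card (R.map f) = (O.subgroupOf R).index := by
      rw [← Subgroup.relIndex_ker, hker]
      rfl
    exact h.trans (h2 ▸ index_dvd_of_le hTO)
  have hSf : IsPGroup p ((S : Subgroup G).map f) := S.2.map f
  have htop : R.map f ⊔ (S : Subgroup G).map f = ⊤ := by
    rw [← Subgroup.map_sup, CharP.pResidual_sup_sylow S, map_top_of_surjective f hsurj]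
  have hover : Over ((S : Subgroup G).map f) (M.map f) := by
    refine ⟨map_mono hO.1, fun h => hO.2.1 ?_, fun Y hY => ?_⟩
    · rw [← comap_map_eq_self (f := f) (H := M) (hker.le.trans (hOS.trans hO.1)), h, comap_top]
    · rcases hO.2.2 (Y.comap f) (map_le_iff_le_comap.1 hY) with h | h
      · left
        rw [← map_comap_eq_self_of_surjective hsurj Y, h, map_top_of_surjective f hsurj]
      · right
        rw [← map_comap_eq_self_of_surjective hsurj Y]
        exact map_mono h
  obtain ⟨t, e, ht, hdvd⟩ := card_dvd_prime_pow hSf hover (R.map f) hp htop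
  obtain ⟨a, ha⟩ := IsPGroup.iff_card.1 (Solvable.isPGroup_pCore p (G := G))
  obtain ⟨b, hb⟩ := IsPGroup.iff_card.1 hSf
  have hq : Nat.card (G ⧸ O) ∣ t ^ e * p ^ b := by
    rw [← Subgroup.card_top (G := G ⧸ O), ← htop, sup_comm]
    refine (Solvable.card_sup_dvd (by rw [normalizer_eq_top]; exact le_top)).trans ?_
    rw [hb, mul_comm]
    exact mul_dvd_mul_right hdvd _
  have hG : Nat.card G ∣ t ^ e * p ^ b * p ^ a := by
    rw [card_eq_card_quotient_mul_card_subgroup O, ha]
    exact mul_dvd_mul_right hq _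
  calc (Nat.card G).primeFactors.card ≤ ({t, p} : Finset ℕ).card := by
        refine Finset.card_le_card fun q hq => ?_
        obtain ⟨hq1, hq2, -⟩ := Nat.mem_primeFactors.1 hq
        rcases hq1.dvd_mul.1 (hq2.trans hG) with h | h
        · rcases hq1.dvd_mul.1 h with h | h
          · simp [(Nat.prime_dvd_prime_iff_eq hq1 ht).1 (hq1.dvd_of_dvd_pow h)]
          · simp [(Nat.prime_dvd_prime_iff_eq hq1 Fact.out).1 (hq1.dvd_of_dvd_pow h)]
        · simp [(Nat.prime_dvd_prime_iff_eq hq1 Fact.out).1 (hq1.dvd_of_dvd_pow h)]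
    _ ≤ 2 := Finset.card_le_two

end CfsgLib.PMin
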