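import Cfsg.Agent.CharP.PMinimal
import Cfsg.Agent.CharP.FStarAction
import Cfsg.Agent.Comp.PComponent

/-!
Components of `p`-minimal groups with trivial `O_p`.
-/

set_option autoImplicit false
set_option linter.style.haveILetI false
set_option linter.unusedSectionVars false

namespace CfsgLib.PMin

open Subgroup
open scoped commutatorElement

variable {G : Type*} [Group G] [Finite G] {p : ℕ} [Fact p.Prime]

theorem normalCore_prime_to {S : Sylow p G} {M : Subgroup G} (hO : Over (S : Subgroup G) M)
    (hOp : Cfsg.pCore p G = ⊥) : ¬ p ∣ Nat.card M.normalCore := by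
  have h := ExtTwoLayer.coprime_relIndex_inf_of_subnormal
    (Normal.isSubnormal (H := M.normalCore) inferInstance) S
  have hbot : (S : Subgroup G) ⊓ M.normalCore = ⊥ := by
    rw [inf_comm, eq_bot_iff, ← hOp]
    exact normal_inf_le_pCore hO _ M.normalCore_le
  rw [← inf_relIndex_right, hbot, relIndex_bot_left] at h
  exact (Fact.out : p.Prime).coprime_iff_not_dvd.1 h.symm

theorem component_not_le {S : Sylow p G} {M : Subgroup G} (hO : Over (S : Subgroup G) M)
    (hOp : Cfsg.pCore p G = ⊥) {K : Subgroup G} (hK : Cfsg.IsComponent K) : ¬ K ≤ M := by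
  intro hKM
  haveI := isNilpotent_of_le S.2 hO M.normalCore M.normalCore_le (normalCore_prime_to hO hOp)
  exact Comp.component_not_le_solvable hK inferInstance (subnormal_le_normalCore hO hK.1 hKM)

theorem component_le_pResidual {K : Subgroup G} (hK : Cfsg.IsComponent K) :
    K ≤ Cfsg.pResidual p G := by
  haveI := PResidual.pResidual_normal p (G := G)
  haveI : Group.IsNilpotent (G ⧸ Cfsg.pResidual p G) :=
    (PResidual.isPGroup_quotient_pResidual (p := p) (G := G)).isNilpotent
  have h : K.map (QuotientGroup.mk' (Cfsg.pResidual p G)) = ⊥ := by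
    by_contra hne
    refine (Group.IsSolvable.commutator_lt_of_ne_bot hne).ne ?_
    rw [← map_commutator, Comp.component_perfect hK]
  rwa [Subgroup.map_eq_bot_iff, QuotientGroup.ker_mk'] at h

/-- The join of the `S`-conjugates of a component. -/
theorem pResidual_eq_iSup {S : Sylow p G} {M : Subgroup G} (hO : Over (S : Subgroup G) M)
    (hOp : Cfsg.pCore p G = ⊥) {K : Subgroup G} (hK : Cfsg.IsComponent K) :
    Cfsg.pResidual p G = ⨆ s : ↥(S : Subgroup G), K.map (MulAut.conj (s : G)).toMonoidHom := by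
  set E := ⨆ s : ↥(S : Subgroup G), K.map (MulAut.conj (s : G)).toMonoidHom with hE
  have hKE : K ≤ E := by
    refine le_trans ?_ (le_iSup _ (1 : ↥(S : Subgroup G)))
    intro x hx
    exact ⟨x, hx, by simp⟩
  have hSE : (S : Subgroup G) ≤ normalizer (E : Set G) := by
    intro g hg
    refine mem_normalizer_fintype fun x hx => ?_
    have h : E.map (MulAut.conj g).toMonoidHom ≤ E := by
      rw [hE, Subgroup.map_iSup]
      refine iSup_le fun s => le_trans ?_ (le_iSup _ (⟨g, hg⟩ * s))
      rw [Subgroup.map_map]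
      refine le_of_eq (congrArg (fun f => K.map f) (MonoidHom.ext fun y => ?_))
      simp [mul_assoc]
    exact h ⟨x, hx, rfl⟩
  have htop : E ⊔ (S : Subgroup G) = ⊤ := (hO.2.2 _ le_sup_right).resolve_right fun h =>
    component_not_le hO hOp hK (hKE.trans (le_sup_left.trans h))
  haveI : E.Normal := normalizer_eq_top_iff.1
    (top_le_iff.1 (htop.ge.trans (sup_le le_normalizer hSE)))
  exact le_antisymm (CharP.pResidual_le_of_sup_pGroup S.2 (htop.symm ▸ le_top))
    (iSup_le fun s => component_le_pResidual (Comp.component_conj _ hK))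

theorem structure_eq {S : Sylow p G} {M : Subgroup G} (hO : Over (S : Subgroup G) M)
    (hOp : Cfsg.pCore p G = ⊥) {K : Subgroup G} (hK : Cfsg.IsComponent K) :
    Cfsg.pResidual p G = Cfsg.generalizedFittingSubgroup G ∧
      Cfsg.generalizedFittingSubgroup G = Cfsg.layer G ∧
      Cfsg.layer G = ⨆ s : ↥(S : Subgroup G), K.map (MulAut.conj (s : G)).toMonoidHom := by
  have h1 := pResidual_eq_iSup hO hOp hK
  have h2 : Cfsg.layer G = Cfsg.pResidual p G := by
    refine le_antisymm (Comp.layer_le fun L hL => component_le_pResidual hL) ?_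
    rw [h1]
    exact iSup_le fun s => Comp.component_le_layer (Comp.component_conj _ hK)
  have h3 : Cfsg.generalizedFittingSubgroup G = Cfsg.layer G := by
    refine le_antisymm (sup_le le_rfl ?_) le_sup_left
    rw [h2]
    intro x hx
    refine PResidual.mem_pResidual p (Nat.Coprime.coprime_dvd_left
      ((Cfsg.fittingSubgroup G).orderOf_dvd_natCard hx) ?_)
    exact ((Fact.out : p.Prime).coprime_iff_not_dvd.2 (FStarAct.fitting_prime_to hOp)).symm
  exact ⟨(h3.trans h2).symm, h3, h2.trans h1⟩

theorem dvd_card_component {S : Sylow p G} {M : Subgroup G} (hO : Over (S : Subgroup G) M)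
    (hOp : Cfsg.pCore p G = ⊥) {K : Subgroup G} (hK : Cfsg.IsComponent K) :
    p ∣ Nat.card K := by
  by_contra hp
  haveI := PResidual.pResidual_normal p (G := G)
  have hle : Cfsg.pResidual p G ≤ Cfsg.pPrimeCore p G := by
    rw [pResidual_eq_iSup hO hOp hK]
    refine iSup_le fun s => PComp.subnormal_le_pPrimeCore (Comp.component_conj _ hK).1 ?_
    rw [card_map_of_injective (f := (MulAut.conj (s : G)).toMonoidHom) (MulAut.conj (s : G)).injective]
    exact ((Fact.out : p.Prime).coprime_iff_not_dvd.2 hp).symm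
  have hpR : ¬ p ∣ Nat.card (Cfsg.pResidual p G) := fun h =>
    (Fact.out : p.Prime).coprime_iff_not_dvd.1 (Solvable.coprime_card_pPrimeCore (G := G) p).symm
      (h.trans (card_dvd_of_le hle))
  obtain ⟨t, e, ht, hdvd⟩ :=
    card_dvd_prime_pow S.2 hO (Cfsg.pResidual p G) hpR (CharP.pResidual_sup_sylow S)
  haveI : Fact t.Prime := ⟨ht⟩
  obtain ⟨j, -, hj⟩ := (Nat.dvd_prime_pow ht).1 hdvd
  haveI : Group.IsNilpotent (Cfsg.pResidual p G) := (IsPGroup.of_card hj).isNilpotent
  exact Comp.component_not_le_solvable (H := Cfsg.pResidual p G) hK inferInstance (component_le_pResidual hK)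

theorem isPMinimal_component {S : Sylow p G} {M : Subgroup G} (hO : Over (S : Subgroup G) M)
    (hOp : Cfsg.pCore p G = ⊥) {K : Subgroup G} (hK : Cfsg.IsComponent K) :
    Cfsg.IsPMinimal p ↥(K ⊔ ((S : Subgroup G) ⊓ normalizer (K : Set G))) := by
  set S0 := (S : Subgroup G) ⊓ normalizer (K : Set G) with hS0
  set X := K ⊔ S0 with hX
  have hS0X : S0 ≤ X := le_sup_right
  have hinf : S0 ⊓ K = (S : Subgroup G) ⊓ K := by
    rw [hS0, inf_assoc, inf_eq_right.2 (le_normalizer (H := K))]
  have hidx : ¬ p ∣ (S0.subgroupOf X).index := by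
    have h := Solvable.card_sup_mul_card_inf (A := S0) (K := K) inf_le_right
    rw [sup_comm, ← hX, hinf] at h
    have h2 : (S0.subgroupOf X).index * Nat.card S0 = Nat.card X := by
      rw [← Nat.card_congr (subgroupOfEquivOfLe hS0X).toEquiv, index_mul_card]
    have h3 : (S : Subgroup G).relIndex K * Nat.card ↥((S : Subgroup G) ⊓ K) = Nat.card K := by
      rw [← inf_relIndex_right, ← relIndex_bot_left, ← relIndex_bot_left, mul_comm]
      exact relIndex_mul_relIndex _ _ _ bot_le inf_le_right
    have h4 : (S0.subgroupOf X).index = (S : Subgroup G).relIndex K := by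
      rw [← h2, ← h3] at h
      refine Nat.eq_of_mul_eq_mul_right
        (mul_pos (Nat.card_pos (α := S0)) (Nat.card_pos (α := ↥((S : Subgroup G) ⊓ K)))) ?_
      rw [← mul_assoc, h]
      ring
    rw [h4]
    exact (Fact.out : p.Prime).coprime_iff_not_dvd.1
      (ExtTwoLayer.coprime_relIndex_inf_of_subnormal hK.1 S).symm
  let T₀ : Sylow p X := ((S.2.to_le inf_le_left).comap_subtype (K := X)).toSylow hidx
  have hT₀ : (T₀ : Subgroup X) = S0.subgroupOf X := rfl
  have hnn : ¬ (T₀ : Subgroup X).Normal := by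
    intro hn
    have hXS : X ≤ normalizer (S0 : Set G) := (normal_subgroupOf_iff_le_normalizer hS0X).1 hn
    have hn2 : (((S : Subgroup G) ⊓ K).subgroupOf K).Normal := by
      rw [← hinf]
      refine normal_subgroupOf_of_le_normalizer (fun g hg => ?_)
      have h1 := hXS (mem_sup_left hg)
      rw [mem_normalizer_iff]
      intro x
      simp only [mem_inf, mem_normalizer_iff.1 h1 x, mem_normalizer_iff.1 (le_normalizer hg) x]
    have hsn := Comp.isSubnormal_map_subtype hK.1 hn2
    rw [map_subgroupOf_eq_of_le inf_le_right] at hsn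
    have hbot : (S : Subgroup G) ⊓ K = ⊥ := by
      rw [eq_bot_iff, ← hOp]
      exact CharP.subnormal_pGroup_le_pCore hsn (S.2.to_le inf_le_left)
    have h := ExtTwoLayer.coprime_relIndex_inf_of_subnormal hK.1 S
    rw [← inf_relIndex_right, hbot, relIndex_bot_left] at h
    exact (Fact.out : p.Prime).coprime_iff_not_dvd.1 h.symm (dvd_card_component hO hOp hK)
  -- every proper overgroup of `S0` in `X` lies in `M`
  have key : ∀ Y : Subgroup G, S0 ≤ Y → Y ≤ X → ¬ K ≤ Y → Y ≤ M := by
    intro Y hSY hYX hKY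
    set U := Y ⊓ K with hU
    have hS0U : S0 ≤ normalizer (U : Set G) := fun g hg => by
      have h1 : g ∈ normalizer (Y : Set G) := le_normalizer (hSY hg)
      have h2 : g ∈ normalizer (K : Set G) := hg.2
      rw [mem_normalizer_iff]
      intro x
      simp only [hU, mem_inf, mem_normalizer_iff.1 h1 x, mem_normalizer_iff.1 h2 x]
    have hYeq : Y ≤ S0 ⊔ U := fun y hy => by
      have h := hYX hy
      rw [hX, sup_comm, ← SetLike.mem_coe, coe_mul_of_left_le_normalizer_right _ _ inf_le_right] at h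
      obtain ⟨s, hs, k, hk, rfl⟩ := Set.mem_mul.1 h
      exact mul_mem (mem_sup_left hs) (mem_sup_right ⟨(Y.mul_mem_cancel_left (hSY hs)).1 hy, hk⟩)
    set C := sSup {L : Subgroup G | Cfsg.IsComponent L ∧ L ≠ K} with hC
    have hCK : C ≤ centralizer (K : Set G) := sSup_le fun L hL =>
      commutator_eq_bot_iff_le_centralizer.1
        ((Comp.component_eq_or_commute hL.1 hK).resolve_left hL.2)
    set V := ⨆ s : ↥(S : Subgroup G), U.map (MulAut.conj (s : G)).toMonoidHom with hV
    have hUV : U ≤ V := fun x hx =>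
      le_iSup (fun s : ↥(S : Subgroup G) => U.map (MulAut.conj (s : G)).toMonoidHom) 1 ⟨x, hx, by simp⟩
    have hSV : (S : Subgroup G) ≤ normalizer (V : Set G) := by
      intro g hg
      refine mem_normalizer_fintype fun x hx => ?_
      have h : V.map (MulAut.conj g).toMonoidHom ≤ V := by
        rw [hV, Subgroup.map_iSup]
        refine iSup_le fun s => le_trans ?_ (le_iSup _ (⟨g, hg⟩ * s))
        rw [Subgroup.map_map]
        refine le_of_eq (congrArg (fun f => U.map f) (MonoidHom.ext fun y => ?_))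
        simp [mul_assoc]
      exact h ⟨x, hx, rfl⟩
    rcases hO.2.2 (V ⊔ (S : Subgroup G)) le_sup_right with h | h
    swap
    · exact hYeq.trans (sup_le (inf_le_left.trans hO.1) (hUV.trans (le_sup_left.trans h)))
    exfalso
    haveI : V.Normal := normalizer_eq_top_iff.1
      (top_le_iff.1 (h.ge.trans (sup_le le_normalizer hSV)))
    have hVUC : V ≤ U ⊔ C := iSup_le fun s => by
      by_cases hs : K.map (MulAut.conj (s : G)).toMonoidHom = K
      · have hsK : (s : G) ∈ normalizer (K : Set G) := mem_normalizer_iff_map_conj_eq.2 hs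
        have h2 := hS0U ⟨s.2, hsK⟩
        refine le_trans ?_ le_sup_left
        rintro _ ⟨x, hx, rfl⟩
        exact (mem_normalizer_iff.1 h2 x).1 hx
      · exact (map_mono inf_le_right).trans
          (le_trans (le_sSup (s := {L : Subgroup G | Cfsg.IsComponent L ∧ L ≠ K})
            ⟨Comp.component_conj _ hK, hs⟩) le_sup_right)
    have hKUC : K ≤ U ⊔ C :=
      ((component_le_pResidual hK).trans (CharP.pResidual_le_of_sup_pGroup S.2 (h.symm ▸ le_top))).trans
        hVUC
    have hCU : U ≤ normalizer (C : Set G) := by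
      refine le_trans ?_ (centralizer_le_normalizer _)
      exact inf_le_right.trans (le_centralizer_iff.1 hCK)
    have hdec : ∀ k ∈ K, ∃ u ∈ U, ∃ z ∈ K ⊓ centralizer (K : Set G), k = u * z := by
      intro k hk
      have h2 := hKUC hk
      rw [← SetLike.mem_coe, coe_mul_of_left_le_normalizer_right _ _ hCU] at h2
      obtain ⟨u, hu, c, hc, rfl⟩ := Set.mem_mul.1 h2
      exact ⟨u, hu, c, ⟨(K.mul_mem_cancel_left hu.2).1 hk, hCK hc⟩, rfl⟩
    refine hKY (le_trans ?_ (inf_le_left : U ≤ Y))
    refine (Comp.component_perfect hK).ge.trans ?_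
    rw [commutator_le]
    intro a ha b hb
    obtain ⟨u, hu, z, hz, rfl⟩ := hdec a ha
    obtain ⟨v, hv, w, hw, rfl⟩ := hdec b hb
    have hzv : z * v = v * z := (mem_centralizer_iff.1 hz.2 v hv.2).symm
    have hzw : z * w = w * z := (mem_centralizer_iff.1 hz.2 w hw.1).symm
    have hwu : w * u⁻¹ = u⁻¹ * w := (mem_centralizer_iff.1 hw.2 u⁻¹ (inv_mem hu.2)).symm
    have e : ⁅u * z, v * w⁆ = ⁅u, v⁆ := by
      simp only [commutatorElement_def, _root_.mul_inv_rev]
      calc u * z * (v * w) * (z⁻¹ * u⁻¹) * (w⁻¹ * v⁻¹)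
          = u * (z * v) * w * z⁻¹ * u⁻¹ * w⁻¹ * v⁻¹ := by group
        _ = u * v * (z * w) * z⁻¹ * u⁻¹ * w⁻¹ * v⁻¹ := by rw [hzv]; group
        _ = u * v * (w * u⁻¹) * w⁻¹ * v⁻¹ := by rw [hzw]; group
        _ = u * v * u⁻¹ * v⁻¹ := by rw [hwu]; group
    rw [e]
    exact mul_mem (mul_mem (mul_mem hu hv) (inv_mem hu)) (inv_mem hv)
  have hex : ∃! Mx : Subgroup X, IsCoatom Mx ∧ (T₀ : Subgroup X) ≤ Mx := by
    have hne : M.subgroupOf X ≠ ⊤ := fun h =>
      component_not_le hO hOp hK (le_sup_left.trans (subgroupOf_eq_top.1 h))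
    have hall : ∀ Z : Subgroup X, S0.subgroupOf X ≤ Z → Z ≠ ⊤ → Z ≤ M.subgroupOf X := by
      intro Z hZ hZne
      rw [subgroupOf, ← map_le_iff_le_comap]
      refine key _ ?_ (map_subtype_le _) fun hK' => hZne ?_
      · rw [← map_subgroupOf_eq_of_le hS0X]
        exact map_mono hZ
      · have hX' : X ≤ Z.map X.subtype := sup_le hK' (by
          rw [← map_subgroupOf_eq_of_le hS0X]
          exact map_mono hZ)
        apply Subgroup.map_injective X.subtype_injective
        rw [← MonoidHom.range_eq_map, range_subtype]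
        exact le_antisymm (map_subtype_le _) hX'
    have hSM : S0.subgroupOf X ≤ M.subgroupOf X := comap_mono (inf_le_left.trans hO.1)
    refine ⟨M.subgroupOf X, ⟨⟨hne, fun Z hZ => ?_⟩, hSM⟩, fun Z hZ => ?_⟩
    · by_contra hZne
      exact hZ.not_ge (hall Z (hSM.trans hZ.le) hZne)
    · have hle := hall Z hZ.2 hZ.1.1
      by_contra hne'
      exact hne (hZ.1.2 _ (lt_of_le_of_ne hle hne'))
  intro T
  obtain ⟨g, rfl⟩ := MulAction.exists_smul_eq X T₀ T
  refine ⟨fun hn => hnn ?_, ?_⟩
  · haveI := Sylow.unique_of_normal (g • T₀) hn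
    rwa [Subsingleton.elim (g • T₀) T₀] at hn
  · obtain ⟨Mx, ⟨hMx, hTMx⟩, huniq⟩ := hex
    set e := (MulAut.conj g).mapSubgroup with he
    have hT : ((g • T₀ : Sylow p X) : Subgroup X) = e (T₀ : Subgroup X) := by
      rw [Sylow.coe_subgroup_smul]
      rfl
    refine ⟨e Mx, ⟨(OrderIso.isCoatom_iff e Mx).2 hMx, hT ▸ e.monotone hTMx⟩, fun Z hZ => ?_⟩
    have := huniq (e.symm Z) ⟨(OrderIso.isCoatom_iff e.symm Z).2 hZ.1, by
      rw [← e.symm_apply_apply (T₀ : Subgroup X), ← hT]
      exact e.symm.monotone hZ.2⟩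
    rw [← this, e.apply_symm_apply]

end CfsgLib.PMin
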