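import Cfsg.Agent.CharP.LargestPReduced
import Cfsg.Agent.CharP.Subnormal
import Cfsg.Agent.LocalB.CharP
import Cfsg.Agent.Solvable.PGroupBasic

/-!
p-reduced normal subgroups and subnormal subgroups.
-/

set_option autoImplicit false
set_option linter.style.haveILetI false

namespace CfsgLib.CharP

open Subgroup Cfsg
open scoped commutatorElement

universe u

variable {H : Type u} [Group H] [Finite H] {p : ℕ} [Fact p.Prime]

/-- A subnormal subgroup whose elements of order prime to `p` centralize a `p`-reduced normal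
subgroup centralizes it. -/
theorem le_centralizer_of_pPrime {V : Subgroup H} (hV : IsPReducedNormal p V) {D : Subgroup H}
    (hD : D.IsSubnormal) (h : ∀ x ∈ D, (orderOf x).Coprime p → x ∈ centralizer (V : Set H)) :
    D ≤ centralizer (V : Set H) := by
  obtain ⟨hVn, -, hCn, hbot⟩ := hV
  haveI := hCn
  set π := QuotientGroup.mk' (centralizer (V : Set H))
  have h1 : D.map π ≤ ⊥ := hbot ▸ subnormal_pGroup_le_pCore
    (hD.map (QuotientGroup.mk'_surjective _)) (by
      rintro ⟨_, x, hx, rfl⟩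
      obtain ⟨k, m, hm, hkm⟩ :=
        Nat.exists_eq_pow_mul_and_not_dvd (orderOf_pos x).ne' p (Fact.out : p.Prime).ne_one
      refine ⟨k, Subtype.ext ((map_pow π x _).symm.trans ((QuotientGroup.eq_one_iff _).mpr
        (h _ (pow_mem hx _) ?_)))⟩
      rw [orderOf_pow' _ (pow_ne_zero k (Fact.out : p.Prime).ne_zero), hkm,
        Nat.gcd_eq_right (dvd_mul_right _ _),
        Nat.mul_div_cancel_left _ (pow_pos (Fact.out : p.Prime).pos k)]
      exact ((Fact.out : p.Prime).coprime_iff_not_dvd.2 hm).symm)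
  intro x hx
  exact (QuotientGroup.eq_one_iff _).mp (mem_bot.mp (h1 (mem_map_of_mem π hx)))

/-- An element of order prime to `p` of a subnormal subgroup stays inside it under conjugation by
`O_p`. -/
theorem conj_pPrime_mem {K : Subgroup H} (hK : K.IsSubnormal) {x v : H} (hx : x ∈ K)
    (hxc : (orderOf x).Coprime p) (hv : v ∈ pCore p H) : v * x * v⁻¹ ∈ K := by
  set P := pCore p H
  haveI : P.Normal := Solvable.pCore_normal p
  set X := P ⊔ K
  obtain ⟨j, hj⟩ := IsPGroup.iff_card.mp (Solvable.isPGroup_pCore p (G := H))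
  have hc := Solvable.card_sup_mul_card_inf (A := K) (K := P)
    (normalizer_eq_top_iff.mpr (inferInstance : P.Normal) ▸ le_top)
  rw [sup_comm K P, hj] at hc
  have hB' : Nat.card K * (K.subgroupOf X).index = Nat.card X := by
    rw [← Nat.card_congr (subgroupOfEquivOfLe (le_sup_right : K ≤ X)).toEquiv, card_mul_index]
  rw [← hB', mul_assoc] at hc
  obtain ⟨k, -, hk⟩ := (Nat.dvd_prime_pow Fact.out).mp
    (Dvd.intro _ (Nat.eq_of_mul_eq_mul_left Nat.card_pos hc))
  have hmem : v * x * v⁻¹ ∈ X :=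
    mul_mem (mul_mem (mem_sup_left hv) (mem_sup_right hx)) (inv_mem (mem_sup_left hv))
  exact mem_subgroupOf.mp (mem_of_subnormal_pPower_index (hK.subgroupOf (K := X)) hk
    (x := ⟨v * x * v⁻¹, hmem⟩) (by
      rw [← Subgroup.orderOf_coe]
      exact (MulEquiv.orderOf_eq (MulAut.conj v) x).symm ▸ hxc))

theorem centralizer_mem_of_commutator {V W : Subgroup H} (hV : IsPGroup p V)
    (hWV : W ≤ V) {x : H} (hxc : (orderOf x).Coprime p) (hxW : x ∈ centralizer (W : Set H))
    (h : ∀ v ∈ V, x * v * x⁻¹ * v⁻¹ ∈ W) : x ∈ centralizer (V : Set H) :=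
  mem_centralizer_iff.2 fun v hv => (LocalB.commute_of_stab hV hxc (hWV (h v hv))
    (mem_centralizer_iff.1 hxW _ (h v hv)).symm).symm.eq

/-- The commutator subgroup `[V, O^p(K)]`. -/
theorem commutator_pResidual_pReduced {V : Subgroup H} (hV : IsPReducedNormal p V)
    {K : Subgroup H} (hK : K.IsSubnormal) :
    ⁅V, (pResidual p ↥K).map K.subtype⁆ ≤ K ∧
      IsPReducedNormal p ((⁅V, (pResidual p ↥K).map K.subtype⁆).subgroupOf K) := by
  haveI := hV.1
  set R := (pResidual p ↥K).map K.subtype with hR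
  set W := ⁅V, R⁆
  have hRK : R ≤ K := map_subtype_le _
  have hgen : R = closure {x : H | x ∈ K ∧ (orderOf x).Coprime p} := by
    rw [hR, pResidual, MonoidHom.map_closure]
    congr 1
    ext x
    constructor
    · rintro ⟨y, hy, rfl⟩; exact ⟨y.2, by rwa [Subgroup.coe_subtype, Subgroup.orderOf_coe]⟩
    · rintro ⟨hx, hxc⟩; exact ⟨⟨x, hx⟩, by rwa [Set.mem_setOf_eq, Subgroup.orderOf_mk], rfl⟩
  have hnormR : ∀ g : H, (∀ x ∈ K, (orderOf x).Coprime p → g * x * g⁻¹ ∈ K) →
      ∀ r ∈ R, g * r * g⁻¹ ∈ R := by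
    intro g hg r hr
    have hle : R.map (MulAut.conj g).toMonoidHom ≤ R := by
      rw [hgen, MonoidHom.map_closure]
      refine closure_mono ?_
      rintro _ ⟨x, ⟨hx, hxc⟩, rfl⟩
      exact ⟨hg x hx hxc, (MulEquiv.orderOf_eq (MulAut.conj g) x).symm ▸ hxc⟩
    exact hle (mem_map_of_mem _ hr)
  have hWR : W ≤ R := by
    rw [commutator_le]
    intro v hv r hr
    rw [commutatorElement_def]
    exact mul_mem (hnormR v (fun x hx hxc => conj_pPrime_mem hK hx hxc
      (IsPReducedNormal.le_pCore hV hv)) r hr) (inv_mem hr)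
  have hWV : W ≤ V := commutator_le_left V R
  have hWK : W ≤ K := hWR.trans hRK
  have hWnorm : ∀ g ∈ K, ∀ w ∈ W, g * w * g⁻¹ ∈ W := by
    intro g hg w hw
    have hle : W.map (MulAut.conj g).toMonoidHom ≤ W := by
      rw [map_le_iff_le_comap, commutator_le]
      intro v hv r hr
      show MulAut.conj g ⁅v, r⁆ ∈ W
      rw [map_commutatorElement]
      exact commutator_mem_commutator (hV.1.conj_mem v hv g)
        (hnormR g (fun x hx _ => mul_mem (mul_mem hg hx) (inv_mem hg)) r hr)
    exact hle (mem_map_of_mem _ hw)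
  refine ⟨hWK, isPReducedNormal_of ⟨fun w hw g => hWnorm g g.2 w hw⟩
    ⟨⟨⟨fun a b => Subtype.ext (Subtype.ext
      (by haveI := hV.2.1.1
          exact setLike_mul_comm (s := V) (hWV (mem_subgroupOf.1 a.2)) (hWV (mem_subgroupOf.1 b.2)) :
        ((a : K) : H) * ((b : K) : H) = (b : K) * (a : K)))⟩⟩,
      fun a ha => Subtype.ext (hV.2.1.2 _ (hWV ha))⟩ fun N hN hp => ?_⟩
  have hNsub : (N.map K.subtype).IsSubnormal :=
    IsSubnormal.step _ K (map_subtype_le _) hK
      (by rw [subgroupOf, comap_map_eq_self_of_injective K.subtype_injective]; exact hN)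
  have hN' : N.map K.subtype ≤ centralizer (V : Set H) := by
    refine le_centralizer_of_pPrime hV hNsub ?_
    rintro _ ⟨x, hx, rfl⟩ hxc
    obtain ⟨k, hk⟩ := hp x hx
    have hxW : (x : H) ∈ centralizer (W : Set H) := by
      refine mem_of_pow_prime hxc (k := k) (mem_centralizer_iff.2 fun w hw => ?_)
      exact congrArg Subtype.val (mem_centralizer_iff.1 hk ⟨w, hWK hw⟩ hw)
    refine centralizer_mem_of_commutator (IsPReducedNormal.isPGroup hV) hWV hxc hxW fun v hv => ?_
    have h1 : (x : H) ∈ R := hgen ▸ subset_closure ⟨x.2, hxc⟩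
    have h2 := inv_mem (commutator_mem_commutator hv h1 : ⁅v, (x : H)⁆ ∈ W)
    rw [commutatorElement_inv, commutatorElement_def] at h2
    exact h2
  intro x hx
  exact mem_centralizer_iff.2 fun w hw => Subtype.ext
    (mem_centralizer_iff.1 (hN' (mem_map_of_mem _ hx)) (w : H) (hWV hw))

/-! ### Subnormal subgroups and largest p-reduced normal subgroups -/

theorem inf_pReduced {V : Subgroup H} (hV : IsPReducedNormal p V) {L : Subgroup H}
    (hL : L.IsSubnormal) :
    IsPReducedNormal p ((V ⊓ L).subgroupOf L) ∧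
      L ⊓ centralizer ((V ⊓ L : Subgroup H) : Set H) ≤ centralizer (V : Set H) := by
  haveI := hV.1
  have key : ∀ x ∈ L, (orderOf x).Coprime p → x ∈ centralizer ((V ⊓ L : Subgroup H) : Set H) →
      x ∈ centralizer (V : Set H) := by
    intro x hx hxc hxW
    refine centralizer_mem_of_commutator (IsPReducedNormal.isPGroup hV) inf_le_left hxc hxW
      fun v hv => Subgroup.mem_inf.2 ⟨mul_mem (hV.1.conj_mem v hv x) (inv_mem hv), ?_⟩
    have h1 := conj_pPrime_mem hL (inv_mem hx) (by rwa [orderOf_inv])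
      (IsPReducedNormal.le_pCore hV hv)
    have := mul_mem hx h1
    simpa [mul_assoc] using this
  refine ⟨isPReducedNormal_of ⟨fun w hw g => Subgroup.mem_inf.2
    ⟨hV.1.conj_mem _ hw.1 _, (g * w * g⁻¹ : L).2⟩⟩
    ⟨⟨⟨fun a b => Subtype.ext (Subtype.ext
      (by haveI := hV.2.1.1
          exact setLike_mul_comm (s := V) (mem_subgroupOf.1 a.2).1 (mem_subgroupOf.1 b.2).1 :
        ((a : L) : H) * ((b : L) : H) = (b : L) * (a : L)))⟩⟩,
      fun a ha => Subtype.ext (hV.2.1.2 _ (mem_subgroupOf.1 ha).1)⟩ fun N hN hp => ?_, ?_⟩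
  · have hNsub : (N.map L.subtype).IsSubnormal :=
      IsSubnormal.step _ L (map_subtype_le _) hL
        (by rw [subgroupOf, comap_map_eq_self_of_injective L.subtype_injective]; exact hN)
    have hN' : N.map L.subtype ≤ centralizer (V : Set H) := by
      refine le_centralizer_of_pPrime hV hNsub ?_
      rintro _ ⟨x, hx, rfl⟩ hxc
      obtain ⟨k, hk⟩ := hp x hx
      refine key x x.2 hxc (mem_of_pow_prime hxc (k := k) (mem_centralizer_iff.2 fun w hw => ?_))
      exact congrArg Subtype.val (mem_centralizer_iff.1 hk ⟨w, hw.2⟩ hw)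
    intro x hx
    exact mem_centralizer_iff.2 fun w hw => Subtype.ext
      (mem_centralizer_iff.1 (hN' (mem_map_of_mem _ hx)) (w : H) (mem_subgroupOf.1 hw).1)
  · refine le_centralizer_of_pPrime hV ?_ fun x hx hxc => key x hx.1 hxc hx.2
    refine IsSubnormal.step _ L inf_le_left hL ⟨fun c hc g => ?_⟩
    refine Subgroup.mem_inf.2 ⟨(g * c * g⁻¹ : L).2, mem_centralizer_iff.2 fun w hw => ?_⟩
    have h1 : (g : H)⁻¹ * w * g ∈ V ⊓ L :=
      Subgroup.mem_inf.2 ⟨by simpa using hV.1.conj_mem w hw.1 (g : H)⁻¹,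
        mul_mem (mul_mem (inv_mem g.2) hw.2) g.2⟩
    have h2 := mem_centralizer_iff.1 (Subgroup.mem_inf.1 (mem_subgroupOf.1 hc)).2 _ h1
    show w * ((g : H) * c * (g : H)⁻¹) = (g : H) * c * (g : H)⁻¹ * w
    calc w * ((g : H) * c * (g : H)⁻¹) = g * (((g : H)⁻¹ * w * g) * c) * (g : H)⁻¹ := by
          simp [mul_assoc]
      _ = (g : H) * c * (g : H)⁻¹ * w := by rw [h2]; simp [mul_assoc]

/-- `C_L(Y_H)` centralizes `Y_L` for a normal subgroup `L`. -/
theorem centralizer_largest_le_normal (L : Subgroup H) [hL : L.Normal] :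
    L ⊓ centralizer (largestPReduced p H : Set H) ≤
      centralizer (largestPReducedOf p L : Set H) := by
  set Y := largestPReducedOf p L
  haveI hYn : Y.Normal := by
    refine ⟨fun y hy g => ?_⟩
    obtain ⟨y, hy, rfl⟩ := hy
    -- conjugation by `g` induces an automorphism of `L`
    set φ : L ≃* L := MulAut.conjNormal g
    have hY : IsPReducedNormal p ((largestPReduced p L).map φ.toMonoidHom) := by
      have h0 := (largestPReduced_spec (L := L) (p := p)).1
      refine isPReducedNormal_of (h0.1.map _ φ.surjective) ⟨⟨⟨?_⟩⟩, ?_⟩ fun N hN hp => ?_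
      · rintro ⟨_, a, ha, rfl⟩ ⟨_, b, hb, rfl⟩
        haveI := h0.2.1.1
        exact Subtype.ext (show φ a * φ b = φ b * φ a by
          rw [← map_mul, ← map_mul, setLike_mul_comm (s := largestPReduced p L) ha hb])
      · rintro _ ⟨a, ha, rfl⟩
        show (φ a) ^ p = 1
        rw [← map_pow, h0.2.1.2 a ha, map_one]
      · have h1 := IsPReducedNormal.le_centralizer h0 (N.comap φ.toMonoidHom)
          (hN.comap _) fun x hx => by
            obtain ⟨k, hk⟩ := hp (φ x) hx
            refine ⟨k, mem_centralizer_iff.2 fun w hw => φ.injective ?_⟩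
            rw [map_mul, map_mul, map_pow]
            exact mem_centralizer_iff.1 hk (φ w) (mem_map_of_mem _ hw)
        intro x hx
        refine mem_centralizer_iff.2 ?_
        rintro _ ⟨w, hw, rfl⟩
        have h2 := congrArg φ (mem_centralizer_iff.1
          (h1 (show φ.symm x ∈ N.comap φ.toMonoidHom by simpa using hx)) w hw)
        simpa using h2
    exact ⟨φ y, le_largestPReduced hY (mem_map_of_mem _ hy), MulAut.conjNormal_apply g y⟩
  have hYL : Y ≤ L := map_subtype_le _
  -- the property to be minimised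
  obtain ⟨U, hUY, ⟨hUn, -, hUc⟩, hmin⟩ := exists_minimal_le_of_wellFoundedLT
    (fun U : Subgroup H => U.Normal ∧ U ≤ Y ∧ L ⊓ centralizer (U : Set H) ≤ centralizer (Y : Set H))
    Y ⟨hYn, le_rfl, inf_le_right⟩
  haveI := hUn
  have hYe : IsElementaryAbelian p Y := by
    obtain ⟨h1, h2⟩ := (largestPReduced_spec (L := L) (p := p)).1.2.1
    refine ⟨⟨⟨?_⟩⟩, ?_⟩
    · rintro ⟨_, a, ha, rfl⟩ ⟨_, b, hb, rfl⟩
      exact Subtype.ext (congrArg (fun z : L => (z : H))
        (setLike_mul_comm (s := largestPReduced p L) ha hb))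
    · rintro _ ⟨a, ha, rfl⟩
      exact congrArg Subtype.val (h2 a ha)
  have hUe : IsElementaryAbelian p U := isElementaryAbelian_mono hUY hYe
  have hUp : IsPGroup p U := fun u => ⟨1, Subtype.ext (by simpa using hUe.2 u u.2)⟩
  suffices hred : IsPReducedNormal p U by
    exact (inf_le_inf_left L (centralizer_le (le_largestPReduced hred))).trans hUc
  refine isPReducedNormal_of hUn hUe fun Q hQ hp => ?_
  haveI := hQ
  set C := centralizer (U : Set H)
  obtain ⟨P⟩ : Nonempty (Sylow p ↥(Q ⊔ C)) := inferInstance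
  set P' := (P : Subgroup ↥(Q ⊔ C)).map (Q ⊔ C).subtype
  have hQP : Q ≤ C ⊔ P' := by
    obtain ⟨T, hT⟩ := (P.isPGroup'.map (Q ⊔ C).subtype).exists_le_sylow
    refine (le_sup_sylow_of_pow hp T).trans (sup_le le_sup_left (le_trans ?_ le_sup_right))
    have hTQ : (((T : Subgroup H) ⊓ (Q ⊔ C)).subgroupOf (Q ⊔ C)) = (P : Subgroup ↥(Q ⊔ C)) := by
      refine P.3 (((T.isPGroup'.to_le inf_le_left)).comap_subtype) fun x hx => ?_
      exact ⟨hT (mem_map_of_mem _ hx), x.2⟩
    intro x hx
    exact ⟨⟨x, hx.2⟩, hTQ ▸ hx, rfl⟩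
  have hP'le : P' ≤ Q ⊔ C := map_subtype_le _
  have hP'p : IsPGroup p P' := P.isPGroup'.map _
  -- `L` commutes with `Q` modulo `C`
  have hcomm : ∀ x ∈ L, ∀ q ∈ Q ⊔ C, x * q * x⁻¹ * q⁻¹ ∈ centralizer (Y : Set H) := by
    intro x hx q hq
    have hD : (Q ⊔ C).subgroupOf L ≤ centralizer (largestPReduced p L : Set L) := by
      refine IsPReducedNormal.le_centralizer largestPReduced_spec.1 _ inferInstance fun y hy => ?_
      obtain ⟨a, ha, c, hc, hac⟩ := mem_sup_of_normal_right.1 (mem_subgroupOf.1 hy)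
      obtain ⟨k, hk⟩ := hp a ha
      refine ⟨k, mem_centralizer_iff.2 fun w hw => Subtype.ext ?_⟩
      have hyk : (y : H) ^ p ^ k ∈ C := by
        rw [← QuotientGroup.eq_one_iff, QuotientGroup.mk_pow, ← hac, QuotientGroup.mk_mul,
          (QuotientGroup.eq_one_iff c).2 hc, mul_one, ← QuotientGroup.mk_pow,
          (QuotientGroup.eq_one_iff (a ^ p ^ k)).2 hk]
      exact mem_centralizer_iff.1 (hUc ⟨pow_mem y.2 _, hyk⟩) (w : H) (mem_map_of_mem _ hw)
    have h1 : x * q * x⁻¹ * q⁻¹ ∈ L := by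
      have := mul_mem hx (hL.conj_mem x⁻¹ (inv_mem hx) q)
      simpa [mul_assoc] using this
    have h2 : x * q * x⁻¹ * q⁻¹ ∈ Q ⊔ C :=
      mul_mem ((inferInstance : (Q ⊔ C).Normal).conj_mem q hq x) (inv_mem hq)
    refine mem_centralizer_iff.2 ?_
    rintro _ ⟨w, hw, rfl⟩
    exact congrArg Subtype.val
      (mem_centralizer_iff.1 (hD (show (⟨_, h1⟩ : L) ∈ (Q ⊔ C).subgroupOf L from h2)) w hw)
  -- the fixed points of `Q` form a smaller candidate
  by_contra hne
  set U₁ := U ⊓ centralizer ((Q ⊔ C : Subgroup H) : Set H) with hU₁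
  have hU₁n : U₁.Normal := inferInstance
  have hU₁c : L ⊓ centralizer (U₁ : Set H) ≤ centralizer (Y : Set H) := by
    have hmain : ∀ x ∈ L, (orderOf x).Coprime p → x ∈ centralizer (U₁ : Set H) → x ∈ C := by
      intro x hx hxc hxU
      set A := U ⊓ centralizer ({x} : Set H) with hA
      by_contra hxC
      have hAU : A ≠ U := fun e => hxC (mem_centralizer_iff.2 fun u hu =>
        mem_centralizer_singleton_iff.1 (inf_eq_left.1 e hu))
      set X := P' ⊔ U with hX
      have hXp : IsPGroup p X := hP'p.to_sup_of_normal_right hUp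
      have hxq : ∀ q ∈ Q ⊔ C, ∀ u ∈ U, x * (q * u * q⁻¹) * x⁻¹ = q * (x * u * x⁻¹) * q⁻¹ := by
        intro q hq u hu
        set c := x * q * x⁻¹ * q⁻¹ with hc
        have hcu := mem_centralizer_iff.1
          (centralizer_le (SetLike.coe_subset_coe.2 hUY) (hcomm x hx q hq))
          (q * (x * u * x⁻¹) * q⁻¹) (hUn.conj_mem _ (hUn.conj_mem u hu x) q)
        have he : x * (q * u * q⁻¹) * x⁻¹ = c * (q * (x * u * x⁻¹) * q⁻¹) * c⁻¹ := by
          simp [hc, mul_assoc]
        rw [he, ← hcu, mul_inv_cancel_right]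
      have hAn : ∀ g ∈ X, ∀ a ∈ A, g * a * g⁻¹ ∈ A := by
        intro g hg a ha
        obtain ⟨q, hq, v, hv, rfl⟩ := mem_sup_of_normal_right.1 hg
        have h1 : v * a * v⁻¹ = a := by
          haveI := hUe.1
          rw [setLike_mul_comm (s := U) hv ha.1, mul_inv_cancel_right]
        have h2 : q * v * a * (q * v)⁻¹ = q * a * q⁻¹ := by
          calc q * v * a * (q * v)⁻¹ = q * (v * a * v⁻¹) * q⁻¹ := by simp [mul_assoc]
            _ = q * a * q⁻¹ := by rw [h1]
        rw [h2]
        refine Subgroup.mem_inf.2 ⟨hUn.conj_mem a ha.1 q, mem_centralizer_singleton_iff.2 ?_⟩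
        have h3 := hxq q (hP'le hq) a ha.1
        rw [(mem_centralizer_singleton_iff.1 ha.2).symm, mul_inv_cancel_right] at h3
        exact (mul_inv_eq_iff_eq_mul.1 h3).symm
      haveI hAX : (A.subgroupOf X).Normal := ⟨fun a ha g => hAn g g.2 a ha⟩
      haveI : Group.IsNilpotent (X ⧸ A.subgroupOf X) :=
        (hXp.of_surjective (QuotientGroup.mk' _) (QuotientGroup.mk'_surjective _)).isNilpotent
      haveI hUb : ((U.subgroupOf X).map (QuotientGroup.mk' (A.subgroupOf X))).Normal :=
        Normal.map inferInstance _ (QuotientGroup.mk'_surjective _)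
      have hUne : (U.subgroupOf X).map (QuotientGroup.mk' (A.subgroupOf X)) ≠ ⊥ := by
        rw [Ne, Subgroup.map_eq_bot_iff, QuotientGroup.ker_mk']
        exact fun h => hAU (le_antisymm inf_le_left fun u hu =>
          h (show (⟨u, mem_sup_right hu⟩ : X) ∈ U.subgroupOf X from hu))
      obtain ⟨z, ⟨⟨u, hu, huz⟩, hzc⟩, hz1⟩ := (bot_or_exists_ne_one _).resolve_left
        (PGroupBasic.inf_center_ne_bot _ hUne)
      have huA : (u : H) ∉ A := fun h => hz1 (huz ▸ (QuotientGroup.eq_one_iff u).2 h)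
      refine huA (Subgroup.mem_inf.2 ⟨hu, mem_centralizer_singleton_iff.2 ?_⟩)
      set c := x * (u : H) * x⁻¹ * (u : H)⁻¹ with hc
      have hcU : c ∈ U := mul_mem (hUn.conj_mem _ hu x) (inv_mem hu)
      -- the commutator is fixed by `P'`
      have hcP : ∀ q ∈ P', q * c * q⁻¹ = c := by
        intro q hq
        have h1 := mem_center_iff.1 hzc ((⟨q, mem_sup_left hq⟩ : X) : X ⧸ A.subgroupOf X)
        rw [← huz] at h1
        have h2 : (q * (u : H) * q⁻¹) * (u : H)⁻¹ ∈ A := by
          have h3 : ((⟨q, mem_sup_left hq⟩ * u * ⟨q, mem_sup_left hq⟩⁻¹ * u⁻¹ : X) :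
              X ⧸ A.subgroupOf X) = 1 := by
            simp only [QuotientGroup.mk_mul, QuotientGroup.mk_inv]
            erw [h1]
            simp
          exact mem_subgroupOf.1 ((QuotientGroup.eq_one_iff _).1 h3)
        set a := (q * (u : H) * q⁻¹) * (u : H)⁻¹ with ha
        have hqu : q * (u : H) * q⁻¹ = a * u := by simp [ha]
        have hax : x * a * x⁻¹ = a := by
          rw [(mem_centralizer_singleton_iff.1 h2.2).symm, mul_inv_cancel_right]
        calc q * c * q⁻¹ = (q * (x * u * x⁻¹) * q⁻¹) * (q * (u : H) * q⁻¹)⁻¹ := by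
              simp [hc, mul_assoc]
          _ = (x * (a * u) * x⁻¹) * (a * u)⁻¹ := by rw [← hxq q (hP'le hq) u hu, hqu]
          _ = (x * a * x⁻¹) * c * a⁻¹ := by simp [hc, mul_assoc]
          _ = c := by
            haveI := hUe.1
            rw [hax, setLike_mul_comm (s := U) h2.1 hcU, mul_inv_cancel_right]
      have hcQ : c ∈ U₁ := by
        refine Subgroup.mem_inf.2 ⟨hcU, mem_centralizer_iff.2 fun g hg => ?_⟩
        have hgc : g ∈ centralizer ({c} : Set H) := by
          refine (sup_le (hQP.trans (sup_le ?_ ?_)) ?_ : Q ⊔ C ≤ centralizer ({c} : Set H)) hg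
          · exact centralizer_le (Set.singleton_subset_iff.2 hcU)
          · exact fun q hq => mem_centralizer_singleton_iff.2 (mul_inv_eq_iff_eq_mul.1 (hcP q hq))
          · exact centralizer_le (Set.singleton_subset_iff.2 hcU)
        exact mem_centralizer_singleton_iff.1 hgc
      exact (LocalB.commute_of_stab hUp hxc hcU
        (mem_centralizer_iff.1 hxU c hcQ).symm).symm.eq
    intro x hx
    have hsub : (L ⊓ centralizer (U₁ : Set H)).subgroupOf L ≤
        centralizer (largestPReduced p L : Set L) := by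
      refine le_centralizer_of_pPrime largestPReduced_spec.1 ?_ fun y hy hyc => ?_
      · exact ((inferInstance : (L ⊓ centralizer (U₁ : Set H)).Normal).isSubnormal).subgroupOf
      · refine mem_centralizer_iff.2 fun w hw => Subtype.ext ?_
        exact mem_centralizer_iff.1 (hUc ⟨y.2, hmain y y.2 (by rwa [Subgroup.orderOf_coe]) hy.2⟩)
          (w : H) (mem_map_of_mem _ hw)
    refine mem_centralizer_iff.2 ?_
    rintro _ ⟨w, hw, rfl⟩
    exact congrArg Subtype.val (mem_centralizer_iff.1
      (hsub (show (⟨x, hx.1⟩ : L) ∈ (L ⊓ centralizer (U₁ : Set H)).subgroupOf L from hx)) w hw)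
  have h1 : U ≤ U₁ := hmin ⟨hU₁n, inf_le_left.trans hUY, hU₁c⟩ inf_le_left
  exact hne ((le_sup_left : Q ≤ Q ⊔ C).trans
    (le_centralizer_iff.1 (h1.trans inf_le_right)))

/-- `C_L(Y_H)` centralizes `Y_L` for a subnormal subgroup `L`. -/
theorem centralizer_largest_le {L : Subgroup H} (hL : L.IsSubnormal) :
    L ⊓ centralizer (largestPReduced p H : Set H) ≤
      centralizer (largestPReducedOf p L : Set H) := by
  induction hL with
  | top =>
    rintro x ⟨-, hx⟩
    refine mem_centralizer_iff.2 ?_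
    rintro _ ⟨w, hw, rfl⟩
    have h0 := (largestPReduced_spec (L := (⊤ : Subgroup H)) (p := p)).1
    have hY : IsPReducedNormal p ((largestPReduced p ↥(⊤ : Subgroup H)).map (⊤ : Subgroup H).subtype) := by
      have hsurj : Function.Surjective (⊤ : Subgroup H).subtype := fun y => ⟨⟨y, mem_top y⟩, rfl⟩
      refine isPReducedNormal_of (h0.1.map _ hsurj) ⟨⟨⟨?_⟩⟩, ?_⟩ fun N hN hp => ?_
      · rintro ⟨_, a, ha, rfl⟩ ⟨_, b, hb, rfl⟩
        haveI := h0.2.1.1
        exact Subtype.ext (congrArg (fun z : ↥(⊤ : Subgroup H) => (z : H))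
          (setLike_mul_comm (s := largestPReduced p ↥(⊤ : Subgroup H)) ha hb))
      · rintro _ ⟨a, ha, rfl⟩
        exact congrArg Subtype.val (h0.2.1.2 a ha)
      · have h1 := IsPReducedNormal.le_centralizer h0 (N.subgroupOf ⊤) (hN.comap _)
          fun y hy => (hp y hy).imp fun k hk => mem_centralizer_iff.2 fun v hv =>
            Subtype.ext (mem_centralizer_iff.1 hk (v : H) (mem_map_of_mem _ hv))
        intro y hy
        refine mem_centralizer_iff.2 ?_
        rintro _ ⟨v, hv, rfl⟩
        exact congrArg Subtype.val (mem_centralizer_iff.1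
          (h1 (show (⟨y, mem_top y⟩ : ↥(⊤ : Subgroup H)) ∈ N.subgroupOf ⊤ from hy)) v hv)
    exact mem_centralizer_iff.1 hx _ (le_largestPReduced hY (mem_map_of_mem _ hw))
  | step A K hle hK hn ih =>
    haveI := hn
    have h := centralizer_largest_le_normal (p := p) (A.subgroupOf K)
    rintro x ⟨hxA, hxc⟩
    have hxK := ih ⟨hle hxA, hxc⟩
    have h1 : (⟨x, hle hxA⟩ : K) ∈ centralizer (largestPReducedOf p (A.subgroupOf K) : Set K) :=
      h ⟨hxA, mem_centralizer_iff.2 fun w hw =>
        Subtype.ext (mem_centralizer_iff.1 hxK (w : H) (mem_map_of_mem _ hw))⟩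
    -- transport along `A.subgroupOf K ≃* A`
    set e := subgroupOfEquivOfLe hle
    have h0 := (largestPReduced_spec (L := A) (p := p)).1
    have hY : IsPReducedNormal p ((largestPReduced p A).comap e.toMonoidHom) := by
      refine isPReducedNormal_of (h0.1.comap _) ⟨⟨⟨fun a b => Subtype.ext (e.injective ?_)⟩⟩,
        fun a ha => e.injective ?_⟩ fun N hN hp => ?_
      · haveI := h0.2.1.1
        rw [Subgroup.coe_mul, Subgroup.coe_mul, map_mul, map_mul]
        exact setLike_mul_comm (s := largestPReduced p A) a.2 b.2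
      · rw [map_pow, map_one]; exact h0.2.1.2 _ ha
      · have h2 := IsPReducedNormal.le_centralizer h0 (N.map e.toMonoidHom)
          (hN.map _ e.surjective) ?_
        · intro y hy
          refine mem_centralizer_iff.2 fun v hv => e.injective ?_
          rw [map_mul, map_mul]
          exact mem_centralizer_iff.1 (h2 (mem_map_of_mem _ hy)) (e v) hv
        · rintro _ ⟨y, hy, rfl⟩
          obtain ⟨k, hk⟩ := hp y hy
          refine ⟨k, mem_centralizer_iff.2 fun v hv => ?_⟩
          obtain ⟨v', rfl⟩ := e.surjective v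
          show e v' * (e y) ^ p ^ k = (e y) ^ p ^ k * e v'
          rw [← map_pow, ← map_mul, ← map_mul, mem_centralizer_iff.1 hk v' hv]
    refine mem_centralizer_iff.2 ?_
    rintro _ ⟨w, hw, rfl⟩
    have h3 : e.symm w ∈ largestPReduced p (A.subgroupOf K) :=
      le_largestPReduced hY (show e (e.symm w) ∈ largestPReduced p A by simpa using hw)
    exact congrArg (fun z : K => (z : H))
      (mem_centralizer_iff.1 h1 _ (mem_map_of_mem (A.subgroupOf K).subtype h3))

end CfsgLib.CharP
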