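import Cfsg.Agent.CharP.KielerSubnormal
import Cfsg.Agent.PLocal.SubnormalJoin

/-!
Generation of point stabilizers of joins of subnormal subgroups.
-/

set_option autoImplicit false
set_option linter.style.haveILetI false

namespace CfsgLib.Kieler

open Subgroup Cfsg

universe u

variable {H : Type u} [Group H] [Finite H] {p : ℕ} [Fact p.Prime]

theorem mem_of_subnormal_coprime_index {G : Type u} [Group G] [Finite G] {B : Subgroup G}
    (hB : B.IsSubnormal) (hidx : ¬ p ∣ B.index) {x : G} {k : ℕ} (hx : orderOf x = p ^ k) :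
    x ∈ B := by
  induction hB with
  | top => exact mem_top x
  | step A K hle hK hn ih =>
    have hmul := relIndex_mul_index hle
    have hxK : x ∈ K := ih fun h => hidx (hmul ▸ h.mul_left _)
    haveI := hn
    have hA : ¬ p ∣ (A.subgroupOf K).index := fun h => hidx (hmul ▸ h.mul_right _)
    have h1 : ((⟨x, hxK⟩ : K) : K ⧸ A.subgroupOf K) = 1 := by
      refine orderOf_eq_one_iff.mp (Nat.eq_one_of_dvd_coprimes
        (((Fact.out : p.Prime).coprime_iff_not_dvd.2 hA).pow_left k) ?_
        (index_eq_card (A.subgroupOf K) ▸ _root_.orderOf_dvd_natCard _))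
      refine (orderOf_map_dvd (QuotientGroup.mk' (A.subgroupOf K)) ⟨x, hxK⟩).trans ?_
      rw [← Subgroup.orderOf_coe, hx]
    exact mem_subgroupOf.mp ((QuotientGroup.eq_one_iff (N := A.subgroupOf K) _).mp h1)

theorem not_dvd_relIndex_subnormal (T : Sylow p H) {X : Subgroup H} (hX : X.IsSubnormal) :
    ¬ p ∣ ((T : Subgroup H) ⊓ X).relIndex X := by
  obtain ⟨Q, hQ⟩ := exists_sylow_subnormal T hX
  rw [← hQ, relIndex, subgroupOf, comap_map_eq_self_of_injective X.subtype_injective]
  exact Q.not_dvd_index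

/-- The `p`-elements of `X` centralizing `Ω₁(Z(T))`. -/
def fixPart (p : ℕ) (T X : Subgroup H) : Subgroup H :=
  Subgroup.closure {x : H | x ∈ X ⊓ centralizer (omegaZ p T : Set H) ∧ ∃ k : ℕ, orderOf x = p ^ k}

theorem pointStabilizer_eq (hH : LocalChar p H) (T : Sylow p H) {X : Subgroup H}
    (hX : X.IsSubnormal) :
    pointStabilizer p X ((T : Subgroup H) ⊓ X) = fixPart p (T : Subgroup H) X := by
  by_cases hS : (T : Subgroup H) ⊓ X = ⊥
  · have hp : ∀ x ∈ X, ∀ k : ℕ, orderOf x = p ^ k → x = 1 := by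
      intro x hx k hk
      have h1 := not_dvd_relIndex_subnormal (p := p) T hX
      rw [hS, relIndex_bot_left] at h1
      by_contra hne
      have hk0 : k ≠ 0 := fun h0 => hne (orderOf_eq_one_iff.1 (by rw [hk, h0, pow_zero]))
      exact h1 ((dvd_pow_self p hk0).trans (hk ▸ orderOf_dvd_natCard X hx))
    refine le_antisymm ?_ ?_ <;> refine (closure_le _).2 ?_ <;> rintro x ⟨⟨hx, -⟩, k, hk⟩ <;>
      rw [hp x hx k hk] <;> exact one_mem _
  · rw [fixPart, kieler_local hH T hX hS]
    rfl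

theorem fixPart_sup (T : Sylow p H) {L₁ L₂ : Subgroup H} (h₁ : L₁.IsSubnormal)
    (h₂ : L₂.IsSubnormal) :
    fixPart p (T : Subgroup H) (L₁ ⊔ L₂) =
      fixPart p (T : Subgroup H) L₁ ⊔ fixPart p (T : Subgroup H) L₂ := by
  have hmono : ∀ {X Y : Subgroup H}, X ≤ Y →
      fixPart p (T : Subgroup H) X ≤ fixPart p (T : Subgroup H) Y := fun h =>
    closure_mono fun x hx => ⟨⟨h hx.1.1, hx.1.2⟩, hx.2⟩
  refine le_antisymm ?_ (sup_le (hmono le_sup_left) (hmono le_sup_right))
  set L := L₁ ⊔ L₂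
  set C := centralizer (omegaZ p (T : Subgroup H) : Set H) with hC
  have hTC : (T : Subgroup H) ≤ C := le_centralizer_omegaZ _
  set A := L ⊓ C with hA
  set J := fixPart p (T : Subgroup H) L₁ ⊔ fixPart p (T : Subgroup H) L₂ with hJ
  have hsub : ∀ X : Subgroup H, X.IsSubnormal → X ≤ L →
      ((fixPart p (T : Subgroup H) X).subgroupOf A).IsSubnormal := by
    intro X hX hXL
    have hle : fixPart p (T : Subgroup H) X ≤ X ⊓ C := (closure_le _).2 fun x hx => hx.1
    refine IsSubnormal.step _ ((X ⊓ C).subgroupOf A)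
      (fun y hy => hle hy) ?_ ?_
    · have : (X ⊓ C).subgroupOf A = X.subgroupOf A := by
        ext y; exact ⟨fun h => h.1, fun h => ⟨h, y.2.2⟩⟩
      rw [this]; exact hX.subgroupOf
    · refine normal_subgroupOf_of_le_normalizer fun g hg => ?_
      have key : ∀ g : H, g ∈ X ⊓ C → ∀ y ∈ fixPart p (T : Subgroup H) X,
          g * y * g⁻¹ ∈ fixPart p (T : Subgroup H) X := by
        intro g hg y hy
        have hle' : (fixPart p (T : Subgroup H) X).map (MulAut.conj g).toMonoidHom ≤
            fixPart p (T : Subgroup H) X := by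
          rw [fixPart, MonoidHom.map_closure]
          refine closure_mono ?_
          rintro _ ⟨z, ⟨hz, k, hk⟩, rfl⟩
          exact ⟨mul_mem (mul_mem hg hz) (inv_mem hg), k,
            (MulEquiv.orderOf_eq (MulAut.conj g) z).trans hk⟩
        exact hle' (mem_map_of_mem _ hy)
      refine mem_normalizer_iff.2 fun y => ⟨key _ hg y, fun hy => ?_⟩
      have := key (g : H)⁻¹ (inv_mem hg) _ hy
      show (y : H) ∈ fixPart p (T : Subgroup H) X
      simpa [mul_assoc] using this
  have hJA : J ≤ A := sup_le ((hmono le_sup_left).trans ((closure_le _).2 fun x hx => hx.1))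
    ((hmono le_sup_right).trans ((closure_le _).2 fun x hx => hx.1))
  have hJsub : (J.subgroupOf A).IsSubnormal := by
    have h := CfsgLib.SubnormalJoin.isSubnormal_sup (hsub L₁ h₁ le_sup_left) (hsub L₂ h₂ le_sup_right)
    rwa [← subgroupOf_sup ((le_sup_left : _ ≤ J).trans hJA) ((le_sup_right : _ ≤ J).trans hJA)] at h
  have hSJ : (T : Subgroup H) ⊓ L ≤ J := by
    rw [inf_comm, Cfsg.Agent.S3028.result T L₁ L₂ h₁ h₂]
    refine sup_le (le_trans ?_ le_sup_left) (le_trans ?_ le_sup_right) <;>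
    · rintro x ⟨hx1, hx2⟩
      obtain ⟨k, hk⟩ := (IsPGroup.iff_orderOf.1 T.isPGroup') ⟨x, hx2⟩
      exact subset_closure ⟨⟨hx1, hTC hx2⟩, k, by rw [← Subgroup.orderOf_mk x hx2]; exact hk⟩
  have hidx : ¬ p ∣ (J.subgroupOf A).index := by
    intro h
    have h1 : J.relIndex A ∣ ((T : Subgroup H) ⊓ L).relIndex A := relIndex_dvd_of_le_left A hSJ
    have h2 : ((T : Subgroup H) ⊓ L).relIndex A ∣ ((T : Subgroup H) ⊓ L).relIndex L :=
      Dvd.intro _ (relIndex_mul_relIndex _ A L
        (le_inf inf_le_right (inf_le_left.trans hTC)) inf_le_left)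
    exact not_dvd_relIndex_subnormal (p := p) T (CfsgLib.SubnormalJoin.isSubnormal_sup h₁ h₂)
      ((h.trans h1).trans h2)
  refine (closure_le _).2 ?_
  rintro x ⟨hx, k, hk⟩
  exact mem_subgroupOf.1 (mem_of_subnormal_coprime_index hJsub hidx
    (x := (⟨x, hx⟩ : A)) (by rw [Subgroup.orderOf_mk]; exact hk))

end CfsgLib.Kieler
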