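import Cfsg.Agent.Solvable.Basics
import Cfsg.Prelude.Def_LocalEven

/-!
The affine group `Qd(F)`.
-/

set_option autoImplicit false
set_option linter.style.haveILetI false

namespace CfsgLib.QdF

open Subgroup

variable {F : Type*} [Field F]

/-- An affine matrix. -/
def mat (A : Matrix.SpecialLinearGroup (Fin 2) F) (c d : F) :
    Matrix.SpecialLinearGroup (Fin 3) F :=
  ⟨!![A 0 0, A 0 1, c; A 1 0, A 1 1, d; 0, 0, 1], by
    have hd := A.det_coe
    rw [Matrix.det_fin_two] at hd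
    simp [Matrix.det_fin_three]
    linear_combination hd⟩

theorem mat_mul (A A' : Matrix.SpecialLinearGroup (Fin 2) F) (c d c' d' : F) :
    mat A c d * mat A' c' d' =
      mat (A * A') (c + (A 0 0 * c' + A 0 1 * d')) (d + (A 1 0 * c' + A 1 1 * d')) := by
  apply Matrix.SpecialLinearGroup.ext
  intro i j
  rw [Matrix.SpecialLinearGroup.coe_mul, Matrix.mul_apply, Fin.sum_univ_three]
  fin_cases i <;> fin_cases j <;> simp [mat, Matrix.mul_apply, Fin.sum_univ_two] <;> ring

theorem mat_one : mat (1 : Matrix.SpecialLinearGroup (Fin 2) F) 0 0 = 1 := by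
  apply Matrix.SpecialLinearGroup.ext
  intro i j
  fin_cases i <;> fin_cases j <;> simp [mat]

theorem mat_mem (A : Matrix.SpecialLinearGroup (Fin 2) F) (c d : F) :
    mat A c d ∈ Cfsg.qdOver F :=
  subset_closure ⟨rfl, rfl, rfl⟩

theorem mat_inj {A A' : Matrix.SpecialLinearGroup (Fin 2) F} {c d c' d' : F}
    (h : mat A c d = mat A' c' d') : A = A' ∧ c = c' ∧ d = d' := by
  have e : ∀ i j, (mat A c d).1 i j = (mat A' c' d').1 i j := fun i j => by rw [h]
  refine ⟨?_, by simpa [mat] using e 0 2, by simpa [mat] using e 1 2⟩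
  apply Matrix.SpecialLinearGroup.ext
  intro i j
  fin_cases i <;> fin_cases j
  · simpa [mat] using e 0 0
  · simpa [mat] using e 0 1
  · simpa [mat] using e 1 0
  · simpa [mat] using e 1 1

theorem exists_mat {M : Matrix.SpecialLinearGroup (Fin 3) F} (hM : M ∈ Cfsg.qdOver F) :
    ∃ A c d, M = mat A c d := by
  induction hM using closure_induction with
  | mem M h =>
    have hd := M.det_coe
    rw [Matrix.det_fin_three, h.1, h.2.1, h.2.2] at hd
    refine ⟨⟨!![M 0 0, M 0 1; M 1 0, M 1 1], ?_⟩, M 0 2, M 1 2, ?_⟩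
    · rw [Matrix.det_fin_two]
      simp
      linear_combination hd
    · apply Matrix.SpecialLinearGroup.ext
      intro i j
      fin_cases i <;> fin_cases j <;> simp [mat, h.1, h.2.1, h.2.2]
  | one => exact ⟨1, 0, 0, mat_one.symm⟩
  | mul M N _ _ ihM ihN =>
    obtain ⟨A, c, d, rfl⟩ := ihM
    obtain ⟨A', c', d', rfl⟩ := ihN
    exact ⟨_, _, _, mat_mul _ _ _ _ _ _⟩
  | inv M _ ihM =>
    obtain ⟨A, c, d, rfl⟩ := ihM
    refine ⟨A⁻¹, -(A⁻¹ 0 0 * c + A⁻¹ 0 1 * d), -(A⁻¹ 1 0 * c + A⁻¹ 1 1 * d), ?_⟩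
    refine inv_eq_of_mul_eq_one_left ?_
    rw [mat_mul, inv_mul_cancel, neg_add_cancel, neg_add_cancel, mat_one]

/-- The linear part. -/
noncomputable def lp (x : Cfsg.qdOver F) : Matrix.SpecialLinearGroup (Fin 2) F :=
  (exists_mat x.2).choose

/-- The translation part. -/
noncomputable def tr (x : Cfsg.qdOver F) : Fin 2 → F :=
  ![(exists_mat x.2).choose_spec.choose, (exists_mat x.2).choose_spec.choose_spec.choose]

theorem eq_mat (x : Cfsg.qdOver F) : (x : Matrix.SpecialLinearGroup (Fin 3) F) =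
    mat (lp x) (tr x 0) (tr x 1) :=
  (exists_mat x.2).choose_spec.choose_spec.choose_spec

theorem ext_parts {x y : Cfsg.qdOver F} (h1 : lp x = lp y) (h2 : tr x = tr y) : x = y :=
  Subtype.ext (by rw [eq_mat x, eq_mat y, h1, h2])

theorem lp_mk (A : Matrix.SpecialLinearGroup (Fin 2) F) (c d : F) :
    lp ⟨mat A c d, mat_mem A c d⟩ = A ∧ tr ⟨mat A c d, mat_mem A c d⟩ = ![c, d] := by
  obtain ⟨h1, h2, h3⟩ := mat_inj (eq_mat ⟨mat A c d, mat_mem A c d⟩)
  refine ⟨h1.symm, funext fun i => ?_⟩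
  fin_cases i
  · exact h2.symm
  · exact h3.symm

theorem parts_mul (x y : Cfsg.qdOver F) : lp (x * y) = lp x * lp y ∧
    tr (x * y) = tr x + (lp x : Matrix (Fin 2) (Fin 2) F).mulVec (tr y) := by
  have h := eq_mat (x * y)
  rw [Subgroup.coe_mul, eq_mat x, eq_mat y, mat_mul] at h
  obtain ⟨h1, h2, h3⟩ := mat_inj h
  refine ⟨h1.symm, funext fun i => ?_⟩
  rw [Pi.add_apply, Matrix.mulVec, dotProduct, Fin.sum_univ_two]
  fin_cases i
  · exact h2.symm
  · exact h3.symm

/-- The linear part as a homomorphism. -/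
noncomputable def lin : Cfsg.qdOver F →* Matrix.SpecialLinearGroup (Fin 2) F :=
  MonoidHom.mk' lp fun x y => (parts_mul x y).1

/-- The block embedding of `SL₂(F)`. -/
def emb : Matrix.SpecialLinearGroup (Fin 2) F →* Cfsg.qdOver F :=
  MonoidHom.mk' (fun A => ⟨mat A 0 0, mat_mem A 0 0⟩) fun A B => Subtype.ext (by
    show mat (A * B) 0 0 = mat A 0 0 * mat B 0 0
    rw [mat_mul]
    simp)

theorem lin_emb (A : Matrix.SpecialLinearGroup (Fin 2) F) : lin (emb A) = A := (lp_mk A 0 0).1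

theorem tr_emb (A : Matrix.SpecialLinearGroup (Fin 2) F) : tr (emb A) = 0 := by
  rw [show emb A = ⟨mat A 0 0, mat_mem A 0 0⟩ from rfl, (lp_mk A 0 0).2]
  funext i
  fin_cases i <;> rfl

theorem lp_of_mem {x : Cfsg.qdOver F} (hx : x ∈ (lin (F := F)).ker) : lp x = 1 := hx

theorem tr_mul_of_mem {x : Cfsg.qdOver F} (hx : x ∈ (lin (F := F)).ker) (y : Cfsg.qdOver F) :
    tr (x * y) = tr x + tr y := by
  rw [(parts_mul x y).2, lp_of_mem hx, Matrix.SpecialLinearGroup.coe_one, Matrix.one_mulVec]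

/-- The translations, written additively, are the vectors. -/
noncomputable def trEquiv : Additive (lin (F := F)).ker ≃+ (Fin 2 → F) where
  toFun x := tr (Additive.toMul x).1
  invFun v := Additive.ofMul ⟨⟨mat 1 (v 0) (v 1), mat_mem _ _ _⟩, (lp_mk _ _ _).1⟩
  left_inv x := by
    refine congrArg Additive.ofMul (Subtype.ext (ext_parts ?_ ?_))
    · exact (lp_mk _ _ _).1.trans (lp_of_mem (Additive.toMul x).2).symm
    · rw [(lp_mk _ _ _).2]
      funext i
      fin_cases i <;> rfl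
  right_inv v := by
    show tr (⟨mat 1 (v 0) (v 1), mat_mem _ _ _⟩ : Cfsg.qdOver F) = v
    rw [(lp_mk _ _ _).2]
    funext i
    fin_cases i <;> rfl
  map_add' x y := tr_mul_of_mem (Additive.toMul x).2 _

/-- The only element of `SL₂(F)` fixing two independent vectors is the identity. -/
theorem eq_one_of_normal_fix (Q : Subgroup (Matrix.SpecialLinearGroup (Fin 2) F)) [Q.Normal]
    {v : Fin 2 → F} (hv : v ≠ 0)
    (hfix : ∀ A ∈ Q, (A : Matrix (Fin 2) (Fin 2) F).mulVec v = v) : Q = ⊥ := by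
  rw [eq_bot_iff]
  intro A hA
  rw [mem_bot]
  have hgv : ∀ g : Matrix.SpecialLinearGroup (Fin 2) F,
      (A : Matrix (Fin 2) (Fin 2) F).mulVec ((g : Matrix (Fin 2) (Fin 2) F).mulVec v) =
        (g : Matrix (Fin 2) (Fin 2) F).mulVec v := by
    intro g
    have hB : g⁻¹ * A * g ∈ Q := by simpa using Normal.conj_mem inferInstance A hA g⁻¹
    have h2 := congrArg (Matrix.mulVec (g : Matrix (Fin 2) (Fin 2) F)) (hfix _ hB)
    rw [Matrix.mulVec_mulVec, ← Matrix.SpecialLinearGroup.coe_mul, mul_assoc, mul_inv_cancel_left,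
      Matrix.SpecialLinearGroup.coe_mul, ← Matrix.mulVec_mulVec] at h2
    exact h2
  let U : Matrix.SpecialLinearGroup (Fin 2) F := ⟨!![1, 1; 0, 1], by simp [Matrix.det_fin_two]⟩
  let L : Matrix.SpecialLinearGroup (Fin 2) F := ⟨!![1, 0; 1, 1], by simp [Matrix.det_fin_two]⟩
  have e0 := congrFun (hgv 1) 0
  have e1 := congrFun (hgv 1) 1
  have u0 := congrFun (hgv U) 0
  have u1 := congrFun (hgv U) 1
  have l0 := congrFun (hgv L) 0
  have l1 := congrFun (hgv L) 1
  simp [U, L, Matrix.mulVec, dotProduct, Fin.sum_univ_two] at e0 e1 u0 u1 l0 l1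
  have hvne : v 0 ≠ 0 ∨ v 1 ≠ 0 := by
    by_contra hc
    push Not at hc
    exact hv (funext fun i => by fin_cases i <;> simp [hc.1, hc.2])
  have key : A.1 0 0 = 1 ∧ A.1 0 1 = 0 ∧ A.1 1 0 = 0 ∧ A.1 1 1 = 1 := by
    rcases hvne with h | h
    · have a01 : A.1 0 1 = 0 := mul_right_cancel₀ h (by linear_combination l0 - e0)
      have a11 : A.1 1 1 = 1 := mul_right_cancel₀ h (by linear_combination l1 - e1)
      have a00 : A.1 0 0 = 1 := mul_right_cancel₀ h (by linear_combination e0 - v 1 * a01)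
      have a10 : A.1 1 0 = 0 := mul_right_cancel₀ h (by linear_combination e1 - v 1 * a11)
      exact ⟨a00, a01, a10, a11⟩
    · have a00 : A.1 0 0 = 1 := mul_right_cancel₀ h (by linear_combination u0 - e0)
      have a10 : A.1 1 0 = 0 := mul_right_cancel₀ h (by linear_combination u1 - e1)
      have a01 : A.1 0 1 = 0 := mul_right_cancel₀ h (by linear_combination e0 - v 0 * a00)
      have a11 : A.1 1 1 = 1 := mul_right_cancel₀ h (by linear_combination e1 - v 0 * a10)
      exact ⟨a00, a01, a10, a11⟩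
  apply Matrix.SpecialLinearGroup.ext
  intro i j
  fin_cases i <;> fin_cases j <;> simp [key.1, key.2.1, key.2.2.1, key.2.2.2]

theorem isPGroup_ker {p : ℕ} [Fact p.Prime] [CharP F p] : IsPGroup p (lin (F := F)).ker := by
  intro x
  refine ⟨1, ?_⟩
  rw [pow_one]
  refine Additive.ofMul.injective ((trEquiv (F := F)).injective ?_)
  rw [ofMul_pow, map_nsmul, ofMul_one, map_zero]
  funext i
  simp [CharP.cast_eq_zero]

theorem pCore_eq {p : ℕ} [Fact p.Prime] [CharP F p] [Fintype F] :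
    Cfsg.pCore p ↥(Cfsg.qdOver F) = (lin (F := F)).ker := by
  refine le_antisymm ?_ (Solvable.le_pCore p inferInstance isPGroup_ker)
  haveI := Solvable.pCore_normal p (G := ↥(Cfsg.qdOver F))
  set Q := (Cfsg.pCore p ↥(Cfsg.qdOver F)).map lin with hQ
  haveI : Q.Normal := Normal.map inferInstance lin fun A => ⟨emb A, lin_emb A⟩
  suffices hQ1 : Q = ⊥ from (Subgroup.map_eq_bot_iff _).mp hQ1
  have hQp : IsPGroup p Q := (Solvable.isPGroup_pCore p).map _
  letI : MulAction Q (Fin 2 → F) :=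
    { smul := fun A v => (A.1 : Matrix (Fin 2) (Fin 2) F).mulVec v
      one_smul := fun v => Matrix.one_mulVec v
      mul_smul := fun A B v => (Matrix.mulVec_mulVec v A.1.1 B.1.1).symm }
  obtain ⟨n, -, hn⟩ := FiniteField.card F p
  have hcard : p ∣ Nat.card (Fin 2 → F) := by
    rw [Nat.card_fun, Nat.card_eq_fintype_card, hn, Nat.card_fin, ← pow_mul]
    exact dvd_pow_self p (mul_ne_zero n.pos.ne' two_ne_zero)
  have h0 : (0 : Fin 2 → F) ∈ MulAction.fixedPoints Q (Fin 2 → F) := fun A => Matrix.mulVec_zero _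
  obtain ⟨v, hv, hv0⟩ := hQp.exists_fixed_point_of_prime_dvd_card_of_fixed_point _ hcard h0
  exact eq_one_of_normal_fix Q hv0.symm fun A hA => hv ⟨A, hA⟩

theorem isNatural [Fintype F] :
    Cfsg.IsNaturalSL2Module F (lin (F := F)).ker (emb (F := F)).range := by
  refine ⟨?_, lin.comp (emb (F := F)).range.subtype, trEquiv, fun A => ⟨⟨emb A, A, rfl⟩, lin_emb A⟩,
    ?_, ?_⟩
  · rw [normalizer_eq_top_iff.mpr (inferInstance : (lin (F := F)).ker.Normal)]
    exact le_top
  · ext l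
    obtain ⟨_, A, rfl⟩ := l
    rw [MonoidHom.mem_ker, mem_subgroupOf, mem_centralizer_iff]
    show lin (emb A) = 1 ↔ _
    rw [lin_emb]
    refine ⟨fun h => by subst h; intro y _; simp, fun h => ?_⟩
    have key : ∀ c d : F, (A : Matrix (Fin 2) (Fin 2) F).mulVec ![c, d] = ![c, d] := by
      intro c d
      have h1 := congrArg tr (h ⟨mat 1 c d, mat_mem _ _ _⟩ (lp_mk _ _ _).1)
      rw [tr_mul_of_mem (show (⟨mat 1 c d, mat_mem _ _ _⟩ : Cfsg.qdOver F) ∈ lin.ker from
        (lp_mk _ _ _).1), (parts_mul _ _).2, show lp (emb A) = A from lin_emb A, tr_emb,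
        (lp_mk _ _ _).2, add_zero, zero_add] at h1
      exact h1.symm
    have k00 := congrFun (key 1 0) 0
    have k10 := congrFun (key 1 0) 1
    have k01 := congrFun (key 0 1) 0
    have k11 := congrFun (key 0 1) 1
    simp [Matrix.mulVec, dotProduct, Fin.sum_univ_two] at k00 k10 k01 k11
    apply Matrix.SpecialLinearGroup.ext
    intro i j
    fin_cases i <;> fin_cases j <;> simp [k00, k10, k01, k11]
  · rintro ⟨_, A, rfl⟩ v
    have hw : emb A * (v : Cfsg.qdOver F) * (emb A)⁻¹ ∈ (lin (F := F)).ker :=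
      Normal.conj_mem inferInstance _ v.2 (emb A)
    refine ⟨⟨_, hw⟩, rfl, ?_⟩
    show tr (emb A * (v : Cfsg.qdOver F) * (emb A)⁻¹) =
      (lin (emb A) : Matrix (Fin 2) (Fin 2) F).mulVec (tr (v : Cfsg.qdOver F))
    rw [lin_emb]
    have h1 := tr_mul_of_mem hw (emb A)
    rw [inv_mul_cancel_right, (parts_mul _ _).2, show lp (emb A) = A from lin_emb A, tr_emb,
      add_zero, zero_add] at h1
    exact h1.symm

end CfsgLib.QdF
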