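import Cfsg.Agent.CharP.QdOver
import Cfsg.Agent.CharP.YMinimal
import Cfsg.Agent.ZJ.QdSection

/-!
Characteristic subgroups of a Sylow subgroup of `Qd(p)`.
-/

set_option autoImplicit false
set_option linter.style.haveILetI false

namespace CfsgLib.QdF

open Subgroup CfsgLib.YMinimal

variable {p : ℕ} [Fact p.Prime]

/-- Upper unitriangular matrices. -/
def uni (p : ℕ) [Fact p.Prime] : Subgroup (Matrix.SpecialLinearGroup (Fin 2) (ZMod p)) where
  carrier := {A | A 0 0 = 1 ∧ A 1 0 = 0}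
  one_mem' := by simp
  mul_mem' := fun {A B} ha hb => by
    simp [Matrix.mul_apply, Fin.sum_univ_two, ha.1, ha.2, hb.1, hb.2]
  inv_mem' := fun {A} ha => by
    have hd := A.det_coe
    rw [Matrix.det_fin_two, ha.1, ha.2] at hd
    simp [Matrix.adjugate_fin_two, ha.2]
    linear_combination hd

theorem uni_11 {A : Matrix.SpecialLinearGroup (Fin 2) (ZMod p)} (hA : A ∈ uni p) : A 1 1 = 1 := by
  have hd := A.det_coe
  rw [Matrix.det_fin_two, hA.1, hA.2] at hd
  linear_combination hd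

theorem uni_eq_upper {A : Matrix.SpecialLinearGroup (Fin 2) (ZMod p)} (hA : A ∈ uni p) :
    A = ZJ.upper (A 0 1) := by
  ext i j
  fin_cases i <;> fin_cases j <;> simp [ZJ.upper, hA.1, hA.2, uni_11 hA]

theorem upper_mem_uni (a : ZMod p) : ZJ.upper a ∈ uni p := ⟨rfl, rfl⟩

/-- The standard Sylow subgroup. -/
noncomputable def uSyl (p : ℕ) [Fact p.Prime] : Subgroup ↥(Cfsg.qdOver (ZMod p)) :=
  (uni p).comap lin

theorem lin_surjective : Function.Surjective (lin (F := ZMod p)) := fun A => ⟨emb A, lin_emb A⟩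

theorem isPGroup_uSyl : IsPGroup p (uSyl p) := by
  intro x
  have h1 : lin ((x : ↥(Cfsg.qdOver (ZMod p))) ^ p) = 1 := by
    rw [map_pow, uni_eq_upper (x.2 : lin (x : ↥(Cfsg.qdOver (ZMod p))) ∈ uni p), ZJ.upper_pow]
    ext i j
    fin_cases i <;> fin_cases j <;> simp [ZJ.upper]
  obtain ⟨k, hk⟩ := isPGroup_ker (F := ZMod p) (p := p) ⟨_, h1⟩
  refine ⟨k + 1, Subtype.ext ?_⟩
  have h2 := congrArg Subtype.val hk
  rw [Subgroup.coe_pow, OneMemClass.coe_one] at h2 ⊢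
  rw [pow_succ', pow_mul]
  exact h2

theorem not_dvd_index_uSyl : ¬ p ∣ (uSyl p).index := by
  rw [uSyl, index_comap_of_surjective _ lin_surjective]
  have h : (uni p).index = p ^ 2 - 1 := by
    let f : Matrix.SpecialLinearGroup (Fin 2) (ZMod p) ⧸ uni p → {v : Fin 2 → ZMod p // v ≠ 0} :=
      Quotient.lift (fun A => ⟨![A 0 0, A 1 0], fun h => by
        have hd := A.det_coe
        have e0 := congrFun h 0
        have e1 := congrFun h 1
        simp at e0 e1
        rw [Matrix.det_fin_two, e0, e1] at hd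
        simp at hd⟩) (by
        intro A B hAB
        obtain ⟨h0, h1⟩ := (QuotientGroup.leftRel_apply.1 hAB : A⁻¹ * B ∈ uni p)
        have hA : ∀ i, (A * (A⁻¹ * B)) i 0 = A i 0 * (A⁻¹ * B) 0 0 + A i 1 * (A⁻¹ * B) 1 0 :=
          fun i => by
            rw [Matrix.SpecialLinearGroup.coe_mul A (A⁻¹ * B), Matrix.mul_apply, Fin.sum_univ_two]
        rw [mul_inv_cancel_left] at hA
        refine Subtype.ext (funext fun i => ?_)
        fin_cases i <;> simp [hA, h0, h1])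
    have hf : Function.Bijective f := by
      refine ⟨?_, ?_⟩
      · intro a b
        induction a using QuotientGroup.induction_on with
        | H A =>
          induction b using QuotientGroup.induction_on with
          | H B =>
            intro h
            have h' := congrArg Subtype.val h
            have e0 : A 0 0 = B 0 0 := congrFun h' 0
            have e1 : A 1 0 = B 1 0 := congrFun h' 1
            refine QuotientGroup.eq.2 ?_
            have hd := A.det_coe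
            rw [Matrix.det_fin_two] at hd
            refine ⟨?_, ?_⟩ <;>
              simp [Matrix.adjugate_fin_two, Matrix.mul_apply, Fin.sum_univ_two, ← e0, ← e1]
            · linear_combination hd
            · ring
      · rintro ⟨v, hv⟩
        by_cases h0 : v 0 = 0
        · have h1 : v 1 ≠ 0 := fun h1 => hv (funext fun i => by fin_cases i <;> simp [h0, h1])
          refine ⟨QuotientGroup.mk (⟨!![v 0, -(v 1)⁻¹; v 1, 0], ?_⟩ :
            Matrix.SpecialLinearGroup (Fin 2) (ZMod p)), ?_⟩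
          · simp [Matrix.det_fin_two, h1]
          · exact Subtype.ext (funext fun i => by fin_cases i <;> rfl)
        · refine ⟨QuotientGroup.mk (⟨!![v 0, 0; v 1, (v 0)⁻¹], ?_⟩ :
            Matrix.SpecialLinearGroup (Fin 2) (ZMod p)), ?_⟩
          · simp [Matrix.det_fin_two, h0]
          · exact Subtype.ext (funext fun i => by fin_cases i <;> rfl)
    rw [index_eq_card, Nat.card_congr (Equiv.ofBijective f hf), Nat.card_eq_fintype_card]
    simp [Fintype.card_subtype_compl, ZMod.card]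
  rw [h]
  intro hd
  have hp := (Fact.out : p.Prime)
  have h2 : p ∣ p ^ 2 := dvd_pow_self p two_ne_zero
  have h3 := Nat.dvd_sub h2 hd
  rw [Nat.sub_sub_self (Nat.one_le_pow _ _ hp.pos)] at h3
  exact hp.not_dvd_one h3

/-- The standard Sylow subgroup, as a Sylow subgroup. -/
noncomputable def sylU (p : ℕ) [Fact p.Prime] : Sylow p ↥(Cfsg.qdOver (ZMod p)) :=
  isPGroup_uSyl.toSylow not_dvd_index_uSyl

/-- The flip on the standard Sylow subgroup. -/
noncomputable def flipFun (M : uSyl p) : uSyl p :=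
  ⟨⟨mat (ZJ.upper (-(tr (M : ↥(Cfsg.qdOver (ZMod p))) 1)))
    (lin (M : ↥(Cfsg.qdOver (ZMod p))) 0 1 * tr (M : ↥(Cfsg.qdOver (ZMod p))) 1 - tr (M : ↥(Cfsg.qdOver (ZMod p))) 0) (-(lin (M : ↥(Cfsg.qdOver (ZMod p))) 0 1)), mat_mem _ _ _⟩, by
    show lin _ ∈ uni p
    rw [show lin (_ : ↥(Cfsg.qdOver (ZMod p))) = lp _ from rfl, (lp_mk _ _ _).1]
    exact upper_mem_uni _⟩

theorem flip_parts (M : uSyl p) : lin (flipFun M : ↥(Cfsg.qdOver (ZMod p))) = ZJ.upper (-(tr (M : ↥(Cfsg.qdOver (ZMod p))) 1)) ∧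
    tr (flipFun M : ↥(Cfsg.qdOver (ZMod p))) =
      ![lin (M : ↥(Cfsg.qdOver (ZMod p))) 0 1 * tr (M : ↥(Cfsg.qdOver (ZMod p))) 1 - tr (M : ↥(Cfsg.qdOver (ZMod p))) 0, -(lin (M : ↥(Cfsg.qdOver (ZMod p))) 0 1)] :=
  ⟨(lp_mk _ _ _).1, (lp_mk _ _ _).2⟩

theorem flip_flip (M : uSyl p) : flipFun (flipFun M) = M := by
  obtain ⟨h1, h2⟩ := flip_parts (flipFun M)
  obtain ⟨k1, k2⟩ := flip_parts M
  rw [k2] at h1
  rw [k1, k2] at h2
  refine Subtype.ext (ext_parts ?_ ?_)
  · show lin (flipFun (flipFun M) : ↥(Cfsg.qdOver (ZMod p))) = lin (M : ↥(Cfsg.qdOver (ZMod p)))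
    rw [h1]
    conv_rhs => rw [uni_eq_upper (M.2 : lin (M : ↥(Cfsg.qdOver (ZMod p))) ∈ uni p)]
    simp
  · rw [h2]
    funext i
    fin_cases i <;> simp [ZJ.upper] <;> ring

theorem flip_mul (a b : uSyl p) : flipFun (a * b) = flipFun a * flipFun b := by
  obtain ⟨h1, h2⟩ := flip_parts (a * b)
  obtain ⟨a1, a2⟩ := flip_parts a
  obtain ⟨b1, b2⟩ := flip_parts b
  obtain ⟨p1, p2⟩ := parts_mul (a : ↥(Cfsg.qdOver (ZMod p))) (b : ↥(Cfsg.qdOver (ZMod p)))
  obtain ⟨q1, q2⟩ := parts_mul (flipFun a : ↥(Cfsg.qdOver (ZMod p))) (flipFun b : ↥(Cfsg.qdOver (ZMod p)))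
  have ua : lp (a : ↥(Cfsg.qdOver (ZMod p))) = ZJ.upper (lin (a : ↥(Cfsg.qdOver (ZMod p))) 0 1) := uni_eq_upper (a.2 : lin (a : ↥(Cfsg.qdOver (ZMod p))) ∈ uni p)
  have ub : lp (b : ↥(Cfsg.qdOver (ZMod p))) = ZJ.upper (lin (b : ↥(Cfsg.qdOver (ZMod p))) 0 1) := uni_eq_upper (b.2 : lin (b : ↥(Cfsg.qdOver (ZMod p))) ∈ uni p)
  have hab : lin ((a * b : uSyl p) : ↥(Cfsg.qdOver (ZMod p))) 0 1 = lin (a : ↥(Cfsg.qdOver (ZMod p))) 0 1 + lin (b : ↥(Cfsg.qdOver (ZMod p))) 0 1 := by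
    show lp ((a : ↥(Cfsg.qdOver (ZMod p))) * (b : ↥(Cfsg.qdOver (ZMod p)))) 0 1 = _
    rw [p1, ua, ub, ZJ.upper_mul, ZJ.upper_01]
  have htr : tr ((a * b : uSyl p) : ↥(Cfsg.qdOver (ZMod p))) = ![tr (a : ↥(Cfsg.qdOver (ZMod p))) 0 + tr (b : ↥(Cfsg.qdOver (ZMod p))) 0 +
      lin (a : ↥(Cfsg.qdOver (ZMod p))) 0 1 * tr (b : ↥(Cfsg.qdOver (ZMod p))) 1, tr (a : ↥(Cfsg.qdOver (ZMod p))) 1 + tr (b : ↥(Cfsg.qdOver (ZMod p))) 1] := by
    show tr ((a : ↥(Cfsg.qdOver (ZMod p))) * (b : ↥(Cfsg.qdOver (ZMod p)))) = _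
    rw [p2, ua]
    funext i
    fin_cases i <;> simp [ZJ.upper, Matrix.mulVec, dotProduct, Fin.sum_univ_two] <;> ring
  refine Subtype.ext (ext_parts ?_ ?_)
  · show lin (flipFun (a * b) : ↥(Cfsg.qdOver (ZMod p))) = lp ((flipFun a : ↥(Cfsg.qdOver (ZMod p))) * (flipFun b : ↥(Cfsg.qdOver (ZMod p))))
    rw [h1, q1, show lp (flipFun a : ↥(Cfsg.qdOver (ZMod p))) = _ from a1, show lp (flipFun b : ↥(Cfsg.qdOver (ZMod p))) = _ from b1, htr]
    rw [ZJ.upper_mul]
    congr 1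
    simp
    ring
  · show tr (flipFun (a * b) : ↥(Cfsg.qdOver (ZMod p))) = tr ((flipFun a : ↥(Cfsg.qdOver (ZMod p))) * (flipFun b : ↥(Cfsg.qdOver (ZMod p))))
    rw [h2, q2, show lp (flipFun a : ↥(Cfsg.qdOver (ZMod p))) = _ from a1, a2, b2, htr, hab]
    funext i
    fin_cases i <;> simp [ZJ.upper, Matrix.mulVec, dotProduct, Fin.sum_univ_two] <;> ring

/-- The flip automorphism. -/
noncomputable def flipEquiv (p : ℕ) [Fact p.Prime] : uSyl p ≃* uSyl p :=
  { toFun := flipFun, invFun := flipFun, left_inv := flip_flip, right_inv := flip_flip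
    map_mul' := flip_mul }

theorem kernel_not_characteristic :
    ¬ ((lin (F := ZMod p)).ker.subgroupOf (uSyl p)).Characteristic := by
  intro h
  set M : uSyl p := ⟨⟨mat 1 0 1, mat_mem _ _ _⟩, by
    show lin _ ∈ uni p
    rw [show lin (_ : ↥(Cfsg.qdOver (ZMod p))) = lp _ from rfl, (lp_mk _ _ _).1]
    exact one_mem _⟩ with hM
  have hMk : M ∈ (lin (F := ZMod p)).ker.subgroupOf (uSyl p) := (lp_mk _ _ _).1
  have h1 := characteristic_iff_le_comap.1 h (flipEquiv p) hMk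
  have h2 : lin (flipFun M : ↥(Cfsg.qdOver (ZMod p))) = 1 := h1
  rw [(flip_parts M).1] at h2
  have h3 : (ZJ.upper (-(tr (M : ↥(Cfsg.qdOver (ZMod p))) 1)) : Matrix.SpecialLinearGroup (Fin 2) (ZMod p)) 0 1 =
      (1 : Matrix.SpecialLinearGroup (Fin 2) (ZMod p)) 0 1 := by rw [h2]
  rw [show tr (M : ↥(Cfsg.qdOver (ZMod p))) = ![0, 1] from (lp_mk _ _ _).2] at h3
  simp [ZJ.upper] at h3

/-- The translations are a minimal normal subgroup. -/
theorem eq_ker_of_normal (N : Subgroup ↥(Cfsg.qdOver (ZMod p))) [N.Normal] (hN : N ≤ (lin (F := ZMod p)).ker)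
    (hne : N ≠ ⊥) : N = (lin (F := ZMod p)).ker := by
  obtain ⟨x, hx, hx1⟩ := (bot_or_exists_ne_one N).resolve_left hne
  have hv : tr x ≠ 0 := fun h => hx1 (ext_parts
    ((lp_of_mem (hN hx)).trans (lp_of_mem (one_mem _)).symm) (by
      have h1 : tr (1 : ↥(Cfsg.qdOver (ZMod p))) = 0 := by simpa using tr_mul_of_mem (one_mem (lin (F := ZMod p)).ker) 1
      rw [h, h1]))
  have hconj : ∀ A : Matrix.SpecialLinearGroup (Fin 2) (ZMod p), ∀ z ∈ N,
      ∃ y ∈ N, tr y = (A : Matrix (Fin 2) (Fin 2) (ZMod p)).mulVec (tr z) := by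
    intro A z hz
    refine ⟨_, (inferInstance : N.Normal).conj_mem z hz (emb A), ?_⟩
    have hker : emb A * z * (emb A)⁻¹ ∈ (lin (F := ZMod p)).ker :=
      hN ((inferInstance : N.Normal).conj_mem z hz (emb A))
    have h1 := tr_mul_of_mem hker (emb A)
    rw [inv_mul_cancel_right, (parts_mul _ _).2, tr_emb, zero_add, add_zero,
      show lp (emb A) = A from lin_emb A] at h1
    exact h1.symm
  have hcol : ∀ v : Fin 2 → ZMod p, v ≠ 0 →
      ∃ A : Matrix.SpecialLinearGroup (Fin 2) (ZMod p),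
        (A : Matrix (Fin 2) (Fin 2) (ZMod p)).mulVec ![1, 0] = v := by
    intro v hv
    by_cases h0 : v 0 = 0
    · have h1 : v 1 ≠ 0 := fun h1 => hv (funext fun i => by fin_cases i <;> simp [h0, h1])
      refine ⟨⟨!![v 0, -(v 1)⁻¹; v 1, 0], by simp [Matrix.det_fin_two, h1]⟩, ?_⟩
      funext i
      fin_cases i <;> simp [Matrix.mulVec, dotProduct, Fin.sum_univ_two]
    · refine ⟨⟨!![v 0, 0; v 1, (v 0)⁻¹], by simp [Matrix.det_fin_two, h0]⟩, ?_⟩
      funext i
      fin_cases i <;> simp [Matrix.mulVec, dotProduct, Fin.sum_univ_two]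
  refine le_antisymm hN fun z hz => ?_
  by_cases hz0 : tr z = 0
  · have h1 : tr (1 : ↥(Cfsg.qdOver (ZMod p))) = 0 := by simpa using tr_mul_of_mem (one_mem (lin (F := ZMod p)).ker) 1
    have : z = 1 := ext_parts ((lp_of_mem hz).trans (lp_of_mem (one_mem _)).symm) (hz0.trans h1.symm)
    rw [this]; exact one_mem _
  obtain ⟨A, hA⟩ := hcol _ hv
  obtain ⟨B, hB⟩ := hcol _ hz0
  obtain ⟨y, hy, hye⟩ := hconj (B * A⁻¹) x hx
  have hzy : z = y := by
    refine ext_parts ((lp_of_mem hz).trans (lp_of_mem (hN hy)).symm) ?_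
    rw [hye, ← hA, ← hB, Matrix.mulVec_mulVec, ← Matrix.SpecialLinearGroup.coe_mul,
      inv_mul_cancel_right]
  rw [hzy]; exact hy

theorem lower_notMem_normalizer : emb (ZJ.lower (1 : ZMod p)) ∉ normalizer (uSyl p : Set ↥(Cfsg.qdOver (ZMod p))) := by
  intro h
  have hu : emb (ZJ.upper (1 : ZMod p)) ∈ uSyl p := by
    show lin _ ∈ uni p
    rw [lin_emb]; exact upper_mem_uni 1
  have h1 : lin (emb (ZJ.lower (1 : ZMod p)) * emb (ZJ.upper 1) * (emb (ZJ.lower 1))⁻¹) ∈ uni p :=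
    (mem_normalizer_iff.1 h _).1 hu
  rw [← map_inv, ← map_mul, ← map_mul, lin_emb] at h1
  have h2 := h1.2
  obtain ⟨i00, i01, i10, i11⟩ := ZJ.sl2_inv (ZJ.lower (1 : ZMod p))
  simp only [ZJ.sl2_mul, i00, i10, ZJ.lower_00, ZJ.lower_01, ZJ.lower_10, ZJ.lower_11, ZJ.upper_00,
    ZJ.upper_01, ZJ.upper_10, ZJ.upper_11] at h2
  ring_nf at h2
  simp at h2

/-- The normalizer of the standard Sylow subgroup is maximal. -/
theorem normalizer_maximal {K : Subgroup ↥(Cfsg.qdOver (ZMod p))} (hK : normalizer (uSyl p : Set ↥(Cfsg.qdOver (ZMod p))) ≤ K)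
    (hne : ¬ K ≤ normalizer (uSyl p : Set ↥(Cfsg.qdOver (ZMod p)))) : K = ⊤ := by
  obtain ⟨g, hg, hgn⟩ := SetLike.not_le_iff_exists.1 hne
  have hUK : uSyl p ≤ K := le_normalizer.trans hK
  have hker : (lin (F := ZMod p)).ker ≤ K := fun x hx => hUK (show lin x ∈ uni p from
    (show lin x = 1 from hx) ▸ one_mem _)
  have hupK : ∀ a : ZMod p, ZJ.upper a ∈ K.map lin := fun a =>
    ⟨emb (ZJ.upper a), hUK (show lin _ ∈ uni p by rw [lin_emb]; exact upper_mem_uni a), lin_emb _⟩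
  set A := lin g with hA
  have hc : A 1 0 ≠ 0 := by
    intro hc
    refine hgn (mem_normalizer_of_conj_le ?_)
    rintro _ ⟨u, hu, rfl⟩
    show lin (g * u * g⁻¹) ∈ uni p
    rw [map_mul, map_mul, map_inv, ← hA, uni_eq_upper (show lin u ∈ uni p from hu)]
    have hd := A.det_coe
    rw [Matrix.det_fin_two, hc] at hd
    obtain ⟨i00, i01, i10, i11⟩ := ZJ.sl2_inv A
    refine ⟨?_, ?_⟩ <;>
      simp only [ZJ.sl2_mul, i00, i10, ZJ.upper_00, ZJ.upper_01, ZJ.upper_10, ZJ.upper_11, hc]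
    · linear_combination hd
    · ring
  set w := ZJ.upper (-(A 0 0) / A 1 0) * A * ZJ.upper (-(A 1 1) / A 1 0) with hw
  have hwK : w ∈ K.map lin :=
    mul_mem (mul_mem (hupK _) (mem_map_of_mem lin hg)) (hupK _)
  have hd := A.det_coe
  rw [Matrix.det_fin_two] at hd
  have hlow : ZJ.lower (1 : ZMod p) ∈ K.map lin := by
    have : ZJ.lower (1 : ZMod p) * w = w * ZJ.upper (-((A 1 0)⁻¹ * (A 1 0)⁻¹)) := by
      have w10 : w 1 0 = A 1 0 := by
        simp only [hw, ZJ.sl2_mul, ZJ.upper_00, ZJ.upper_01, ZJ.upper_10, ZJ.upper_11]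
        ring
      have w00 : w 0 0 = 0 := by
        simp only [hw, ZJ.sl2_mul, ZJ.upper_00, ZJ.upper_01, ZJ.upper_10, ZJ.upper_11]
        field_simp
        ring
      have w11 : w 1 1 = 0 := by
        simp only [hw, ZJ.sl2_mul, ZJ.upper_00, ZJ.upper_01, ZJ.upper_10, ZJ.upper_11]
        field_simp
        ring
      have w01 : w 0 1 = -(A 1 0)⁻¹ := by
        have hdw := ZJ.sl2_det w
        rw [w00, w11, w10, zero_mul, zero_sub, neg_eq_iff_eq_neg] at hdw
        field_simp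
        linear_combination hdw
      apply ZJ.sl2_ext <;>
        simp only [ZJ.sl2_mul, ZJ.upper_00, ZJ.upper_01, ZJ.upper_10, ZJ.upper_11, ZJ.lower_00,
          ZJ.lower_01, ZJ.lower_10, ZJ.lower_11, w00, w01, w10, w11] <;> field_simp <;> ring
    rw [← eq_mul_inv_iff_mul_eq] at this
    rw [this]
    exact mul_mem (mul_mem hwK (hupK _)) (inv_mem hwK)
  have htop := ZJ.sl2_zmod_generated (K.map lin) (hupK 1) hlow
  rw [← comap_map_eq_self hker, htop, comap_top]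

theorem characteristic_normalizer (S : Sylow p ↥(Cfsg.qdOver (ZMod p))) (T : Subgroup (S : Subgroup ↥(Cfsg.qdOver (ZMod p)))) (hT : T ≠ ⊥)
    (hTc : T.Characteristic) :
    normalizer ((T.map (S : Subgroup ↥(Cfsg.qdOver (ZMod p))).subtype : Subgroup ↥(Cfsg.qdOver (ZMod p))) : Set ↥(Cfsg.qdOver (ZMod p))) =
      normalizer ((S : Subgroup ↥(Cfsg.qdOver (ZMod p))) : Set ↥(Cfsg.qdOver (ZMod p))) ∧ normalizer ((S : Subgroup ↥(Cfsg.qdOver (ZMod p))) : Set ↥(Cfsg.qdOver (ZMod p))) ≠ ⊤ := by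
  obtain ⟨g, hg⟩ := MulAction.exists_smul_eq ↥(Cfsg.qdOver (ZMod p)) (sylU p) S
  have hS : (S : Subgroup ↥(Cfsg.qdOver (ZMod p))) = (uSyl p).map (MulAut.conj g).toMonoidHom := by
    rw [← hg, Sylow.coe_subgroup_smul]; rfl
  set T' := T.map (S : Subgroup ↥(Cfsg.qdOver (ZMod p))).subtype
  set N := normalizer (uSyl p : Set ↥(Cfsg.qdOver (ZMod p))) with hN
  have hNS : normalizer ((S : Subgroup ↥(Cfsg.qdOver (ZMod p))) : Set ↥(Cfsg.qdOver (ZMod p))) = N.map (MulAut.conj g).toMonoidHom := by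
    rw [hS, hN]; exact (map_equiv_normalizer_eq (uSyl p) (MulAut.conj g)).symm
  have htop : normalizer ((S : Subgroup ↥(Cfsg.qdOver (ZMod p))) : Set ↥(Cfsg.qdOver (ZMod p))) ≠ ⊤ := by
    intro h
    apply lower_notMem_normalizer (p := p)
    rw [hNS, ← map_top_of_surjective (MulAut.conj g).toMonoidHom (MulAut.conj g).surjective] at h
    rw [← hN, map_injective (MulAut.conj g).injective h]
    exact mem_top _
  refine ⟨le_antisymm ?_ ?_, htop⟩
  swap
  · intro x hx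
    refine mem_normalizer_of_conj_le ?_
    rintro _ ⟨_, ⟨t, ht, rfl⟩, rfl⟩
    exact ⟨(S : Subgroup ↥(Cfsg.qdOver (ZMod p))).normalizerMonoidHom ⟨x, hx⟩ t,
      characteristic_iff_le_comap.1 hTc _ ht, rfl⟩
  by_contra hne
  have hge : normalizer ((S : Subgroup ↥(Cfsg.qdOver (ZMod p))) : Set ↥(Cfsg.qdOver (ZMod p))) ≤ normalizer (T' : Set ↥(Cfsg.qdOver (ZMod p))) := by
    intro x hx
    refine mem_normalizer_of_conj_le ?_
    rintro _ ⟨_, ⟨t, ht, rfl⟩, rfl⟩
    exact ⟨(S : Subgroup ↥(Cfsg.qdOver (ZMod p))).normalizerMonoidHom ⟨x, hx⟩ t,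
      characteristic_iff_le_comap.1 hTc _ ht, rfl⟩
  set K := (normalizer (T' : Set ↥(Cfsg.qdOver (ZMod p)))).map (MulAut.conj g⁻¹).toMonoidHom with hK
  have hKtop : K = ⊤ := by
    refine normalizer_maximal ?_ fun h => hne ?_
    · have := conj_mono hge g⁻¹
      rwa [hNS, conj_conj, inv_mul_cancel, conj_one] at this
    · have := conj_mono h g
      rwa [hK, conj_conj, mul_inv_cancel, conj_one, ← hN, ← hNS] at this
  haveI hT'n : T'.Normal := by
    refine normalizer_eq_top_iff.1 ?_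
    refine map_injective (MulAut.conj g⁻¹).injective (hKtop.trans ?_)
    exact (map_top_of_surjective _ (MulAut.conj g⁻¹).surjective).symm
  have hT'ne : T' ≠ ⊥ := fun h =>
    hT ((Subgroup.map_eq_bot_iff_of_injective _ (S : Subgroup ↥(Cfsg.qdOver (ZMod p))).subtype_injective).1 h)
  have hT'k : T' = (lin (F := ZMod p)).ker := by
    refine eq_ker_of_normal T' ?_ hT'ne
    rw [← pCore_eq (F := ZMod p) (p := p)]
    exact Solvable.le_pCore p inferInstance (S.isPGroup'.to_le (map_subtype_le _))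
  -- transport the flip
  refine kernel_not_characteristic (p := p) (characteristic_iff_le_comap.2 fun φ x hx => ?_)
  let c : uSyl p ≃* (S : Subgroup ↥(Cfsg.qdOver (ZMod p))) :=
    ((uSyl p).equivMapOfInjective (MulAut.conj g).toMonoidHom (MulAut.conj g).injective).trans
      (MulEquiv.subgroupCongr hS.symm)
  have hc : ∀ u : uSyl p, (c u : ↥(Cfsg.qdOver (ZMod p))) = g * (u : ↥(Cfsg.qdOver (ZMod p))) * g⁻¹ := fun u => rfl
  have hmem : ∀ u : uSyl p, c u ∈ T ↔ (u : ↥(Cfsg.qdOver (ZMod p))) ∈ (lin (F := ZMod p)).ker := by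
    intro u
    rw [← mem_map_iff_mem (S : Subgroup ↥(Cfsg.qdOver (ZMod p))).subtype_injective]
    show (c u : ↥(Cfsg.qdOver (ZMod p))) ∈ T' ↔ _
    rw [hT'k, hc, MonoidHom.mem_ker, MonoidHom.mem_ker, map_mul, map_mul, map_inv]
    constructor
    · intro h
      rwa [mul_inv_eq_one, mul_eq_left] at h
    · intro h
      rw [h, mul_one, mul_inv_cancel]
  have h1 := characteristic_iff_le_comap.1 hTc ((c.symm.trans φ).trans c) ((hmem x).2 hx)
  rw [mem_comap] at h1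
  have h2 : c (φ x) ∈ T := by
    simpa using h1
  exact (hmem (φ x)).1 h2

end CfsgLib.QdF
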