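import Cfsg.Agent.CharP.YMinimal
import Cfsg.Agent.CharP.LargestPReduced

/-!
A strongly closed abelian subgroup controls strong fusion.
-/

set_option autoImplicit false
set_option linter.style.haveILetI false

namespace CfsgLib.StronglyClosed

open Subgroup Cfsg CfsgLib.YMinimal

variable {G : Type*} [Group G] [Finite G] {p : ℕ} [Fact p.Prime]

local notation:max A "^ᶜ" g:max => Subgroup.map (MulEquiv.toMonoidHom (MulAut.conj g)) A

variable {S : Sylow p G} {A : Subgroup G}

theorem sylow_le_normalizer (hsc : IsStronglyClosed A (S : Subgroup G)) :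
    (S : Subgroup G) ≤ normalizer (A : Set G) := fun s hs => mem_normalizer_of_conj_le (by
  rintro _ ⟨a, ha, rfl⟩
  exact hsc.2 a ha s (mul_mem (mul_mem hs (hsc.1 ha)) (inv_mem hs)))

/-- A subgroup of a Sylow group of `N_G(A)` meets the class of `A` inside `A`. -/
theorem mem_of_conj_mem (hsc : IsStronglyClosed A (S : Subgroup G)) {R : Subgroup G}
    (hR : IsPGroup p R) (hRN : R ≤ normalizer (A : Set G)) {a g : G} (ha : a ∈ A)
    (h : g * a * g⁻¹ ∈ R) : g * a * g⁻¹ ∈ A := by
  obtain ⟨U, hRU, hU⟩ := exists_sylowIn_ge hR hRN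
  have hS : IsSylowIn p (S : Subgroup G) (normalizer (A : Set G)) :=
    ⟨sylow_le_normalizer hsc, S.isPGroup', fun hd => S.not_dvd_index
      (hd.trans (relIndex_dvd_index_of_le (sylow_le_normalizer hsc)))⟩
  obtain ⟨k, hk, hkU⟩ := hS.conj hU
  have h1 := hRU h
  rw [← hkU, mem_conj] at h1
  have h2 := hsc.2 a ha (k⁻¹ * g) (by simpa [mul_assoc] using h1)
  have h3 := (mem_normalizer_iff.1 hk _).1 h2
  simpa [mul_assoc] using h3

/-- `g` acts on `E` as an element of `N_G(A)`. -/
def Fuses (A E : Subgroup G) (g : G) : Prop :=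
  ∃ n ∈ normalizer (A : Set G), ∀ e ∈ E, g * e * g⁻¹ = n * e * n⁻¹

theorem fuses (hA : IsMulCommutative A) (hsc : IsStronglyClosed A (S : Subgroup G))
    (E : Subgroup G) : ∀ g : G, IsPGroup p E → E ≤ normalizer (A : Set G) →
      E^ᶜ g ≤ normalizer (A : Set G) → Fuses A E g := by
  induction hd : Nat.card G - Nat.card E using Nat.strong_induction_on generalizing E with
  | h d ih₀ =>
    intro g hEp hEN hgN
    have ih : ∀ F : Subgroup G, Nat.card E < Nat.card F → ∀ h : G, IsPGroup p F →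
        F ≤ normalizer (A : Set G) → F^ᶜ h ≤ normalizer (A : Set G) → Fuses A F h := fun F hF =>
      ih₀ _ (by have := card_le_card_group F; omega) F rfl
    have hAp : IsPGroup p A := S.isPGroup'.to_le hsc.1
    by_cases hAE : A ≤ E
    · refine ⟨g, mem_normalizer_of_conj_le ?_, fun e _ => rfl⟩
      rintro _ ⟨a, ha, rfl⟩
      exact mem_of_conj_mem hsc (hEp.map _) hgN ha (mem_map_of_mem _ (hAE ha))
    set E' := E^ᶜ g with hE'
    set B := A ⊓ E with hB
    have hBB : B^ᶜ g = A ⊓ E' := by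
      refine le_antisymm ?_ ?_
      · rintro _ ⟨b, hb, rfl⟩
        exact ⟨mem_of_conj_mem hsc (hEp.map _) hgN hb.1 (mem_map_of_mem _ hb.2),
          mem_map_of_mem _ hb.2⟩
      · rintro x ⟨hxA, hxE⟩
        rw [mem_conj]
        have hxE' : x ∈ E' := hxE
        clear hxE
        rename' hxE' => hxE
        rw [hE', mem_conj] at hxE
        refine Subgroup.mem_inf.2 ⟨?_, hxE⟩
        have := mem_of_conj_mem hsc hEp hEN hxA (g := g⁻¹) (by simpa using hxE)
        simpa using this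
    -- normalizers grow inside `A E` and `A E'`
    have grow : ∀ F : Subgroup G, IsPGroup p F → F ≤ normalizer (A : Set G) → ¬ A ≤ F →
        ∃ a ∈ A, a ∈ normalizer (F : Set G) ∧ a ∉ F := by
      intro F hF hFN hAF
      obtain ⟨R, hFR, hRle, -, hRn⟩ := exists_gt_normalizing hF (le_sup_left : F ≤ F ⊔ A) (by
        intro h
        refine hAF (le_sup_right.trans (h.le_of_le le_sup_left ?_ le_rfl))
        exact isPGroup_sup_of_le_normalizer hF hAp hFN)
      obtain ⟨r, hr, hrF⟩ := SetLike.exists_of_lt hFR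
      have hr' : r ∈ ((F ⊔ A : Subgroup G) : Set G) := hRle hr
      rw [coe_mul_of_left_le_normalizer_right _ _ hFN] at hr'
      obtain ⟨f, hf, a, ha, rfl⟩ := hr'
      refine ⟨a, ha, ?_, fun h => hrF (mul_mem hf h)⟩
      simpa using mul_mem (inv_mem (le_normalizer hf)) (hRn hr)
    have hcomm : ∀ F : Subgroup G, F ≤ normalizer (A : Set G) → ∀ a ∈ A,
        a ∈ normalizer (F : Set G) → ∀ e ∈ F, a * e * a⁻¹ * e⁻¹ ∈ A ⊓ F := by
      intro F hFN a ha han e he
      refine Subgroup.mem_inf.2 ⟨?_, mul_mem ((mem_normalizer_iff.1 han e).1 he) (inv_mem he)⟩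
      have := mul_mem ha ((mem_normalizer_iff.1 (hFN he) a⁻¹).1 (inv_mem ha))
      simpa [mul_assoc] using this
    -- the stabilizer of the chain `1 ≤ B ≤ E`
    let K : Subgroup G :=
      { carrier := {k | k ∈ centralizer (B : Set G) ∧ ∀ e ∈ E, k * e * k⁻¹ * e⁻¹ ∈ B}
        one_mem' := ⟨one_mem _, fun e he => by simp⟩
        mul_mem' := fun {k l} hk hl => ⟨mul_mem hk.1 hl.1, fun e he => by
          have h1 := mul_mem (hl.2 e he) (hk.2 e he)
          have h2 : k * (l * e * l⁻¹ * e⁻¹) * k⁻¹ = l * e * l⁻¹ * e⁻¹ := by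
            rw [← mem_centralizer_iff.1 hk.1 _ (hl.2 e he), mul_inv_cancel_right]
          have h3 : k * l * e * (k * l)⁻¹ * e⁻¹ =
              (k * (l * e * l⁻¹ * e⁻¹) * k⁻¹) * (k * e * k⁻¹ * e⁻¹) := by simp [mul_assoc]
          rw [h3, h2]; exact h1⟩
        inv_mem' := fun {k} hk => ⟨inv_mem hk.1, fun e he => by
          have h2 : k⁻¹ * (k * e * k⁻¹ * e⁻¹)⁻¹ * k = (k * e * k⁻¹ * e⁻¹)⁻¹ := by
            rw [mul_assoc, mem_centralizer_iff.1 hk.1 _ (inv_mem (hk.2 e he)), inv_mul_cancel_left]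
          have h3 : k⁻¹ * e * k⁻¹⁻¹ * e⁻¹ = k⁻¹ * (k * e * k⁻¹ * e⁻¹)⁻¹ * k := by
            simp [mul_assoc]
          rw [h3, h2]; exact inv_mem (hk.2 e he)⟩ }
    have hCK : centralizer (E : Set G) ≤ K := fun k hk => ⟨centralizer_le inf_le_right hk,
      fun e he => by rw [← mem_centralizer_iff.1 hk e he, mul_inv_cancel_right, mul_inv_cancel]; exact one_mem _⟩
    have hKn : K ≤ normalizer (E : Set G) := fun k hk => mem_normalizer_of_conj_le (by
      rintro _ ⟨e, he, rfl⟩
      simpa using mul_mem (Subgroup.mem_inf.1 (hk.2 e he)).2 he)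
    haveI hCn : ((centralizer (E : Set G)).subgroupOf K).Normal := by
      refine ⟨fun c hc k => mem_subgroupOf.2 (mem_centralizer_iff.2 fun e he => ?_)⟩
      have h := mem_centralizer_iff.1 (mem_subgroupOf.1 hc) _
        ((mem_normalizer_iff.1 (inv_mem (hKn k.2)) e).1 he)
      calc e * ((k : G) * c * (k : G)⁻¹)
          = (k : G) * (((k : G)⁻¹ * e * (k : G)⁻¹⁻¹) * c) * (k : G)⁻¹ := by simp [mul_assoc]
        _ = (k : G) * c * (k : G)⁻¹ * e := by rw [h]; simp [mul_assoc]
    have hKp : ∀ k : K, ∃ j : ℕ, k ^ p ^ j ∈ (centralizer (E : Set G)).subgroupOf K := by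
      intro k
      obtain ⟨j, hj⟩ := IsPGroup.iff_card.1 (hEp.to_le (inf_le_right : B ≤ E))
      refine ⟨j, mem_subgroupOf.2 (mem_centralizer_iff.2 fun e he => ?_)⟩
      set c := (k : G) * e * (k : G)⁻¹ * e⁻¹
      have hc : Commute (k : G) c := (mem_centralizer_iff.1 k.2.1 c (k.2.2 e he)).symm
      have hn : ∀ n : ℕ, (k : G) ^ n * e * ((k : G) ^ n)⁻¹ = c ^ n * e := by
        intro n
        induction n with
        | zero => simp
        | succ n ihn =>
          calc (k : G) ^ (n + 1) * e * ((k : G) ^ (n + 1))⁻¹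
              = (k : G) * ((k : G) ^ n * e * ((k : G) ^ n)⁻¹) * (k : G)⁻¹ := by
                simp [pow_succ', mul_assoc]
            _ = ((k : G) * c ^ n) * e * (k : G)⁻¹ := by rw [ihn]; simp [mul_assoc]
            _ = c ^ n * ((k : G) * e * (k : G)⁻¹) := by rw [(hc.pow_right n).eq]; simp [mul_assoc]
            _ = c ^ (n + 1) * e := by simp [pow_succ, c, mul_assoc]
      have hc1 : c ^ p ^ j = 1 := by
        have := congrArg Subtype.val (pow_card_eq_one' (x := (⟨c, k.2.2 e he⟩ : B)))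
        rwa [hj] at this
      rw [Subgroup.coe_pow]
      conv_lhs => rw [← one_mul e, ← hc1, ← hn, inv_mul_cancel_right]
    -- the two elements of `K`
    obtain ⟨a, ha, han, haE⟩ := grow E hEp hEN hAE
    have hAE' : ¬ A ≤ E' := fun h => hAE (by
      have h1 : A ⊓ E' = A := inf_eq_left.2 h
      rw [← hBB] at h1
      exact inf_eq_left.1 (eq_of_le_of_card_ge inf_le_left (by
        conv_lhs => rw [← h1]
        rw [card_map_of_injective (MulAut.conj g).injective])))
    obtain ⟨a', ha', han', haE'⟩ := grow E' (hEp.map _) hgN hAE'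
    have haK : a ∈ K := ⟨mem_centralizer_iff.2 fun b hb =>
      setLike_mul_comm (s := A) hb.1 ha, hcomm E hEN a ha han⟩
    set y := g⁻¹ * a' * g with hy
    have hyK : y ∈ K := by
      refine ⟨mem_centralizer_iff.2 fun b hb => ?_, fun e he => ?_⟩
      · have hb' : g * b * g⁻¹ ∈ A := (hBB.le (mem_map_of_mem _ hb)).1
        refine (MulAut.conj g).injective ?_
        simp only [hy, map_mul, MulAut.conj_apply]
        simpa [mul_assoc] using setLike_mul_comm (s := A) hb' ha'
      · have h1 : a' * (g * e * g⁻¹) * a'⁻¹ * (g * e * g⁻¹)⁻¹ ∈ B^ᶜ g :=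
          hBB.ge (hcomm E' hgN a' ha' han' _ (mem_map_of_mem _ he))
        rw [mem_conj] at h1
        simpa [hy, mul_assoc] using h1
    obtain ⟨P, haP, hP⟩ := exists_sylowIn_ge (p := p) (U := zpowers a) (K := K)
      (hAp.to_le (zpowers_le.2 ha)) (zpowers_le.2 haK)
    obtain ⟨P', hyP', hP'⟩ := exists_sylowIn_ge (p := p) (U := zpowers y) (K := K)
      (by
        have h := (hAp.to_le (zpowers_le.2 ha')).map (MulAut.conj g⁻¹).toMonoidHom
        rwa [MonoidHom.map_zpowers, show (MulAut.conj g⁻¹).toMonoidHom a' = y by simp [hy]] at h)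
      (zpowers_le.2 hyK)
    obtain ⟨k, hk, hkP⟩ := hP'.conj hP
    obtain ⟨T, hT⟩ := hP.exists_sylow
    have hsup : (centralizer (E : Set G)).subgroupOf K ⊔ (T : Subgroup K) = ⊤ := by
      refine top_le_iff.1 (le_trans (CharP.le_sup_sylow_of_pow (N := ⊤) (fun x _ => hKp x) T) ?_)
      exact sup_le le_sup_left (inf_le_left.trans le_sup_right)
    have hk' : (⟨k, hk⟩ : K) ∈ (T : Subgroup K) ⊔ (centralizer (E : Set G)).subgroupOf K := by
      rw [sup_comm, hsup]; exact mem_top _
    obtain ⟨q, hq, c, hc, hqc⟩ := mem_sup_of_normal_right.1 hk'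
    rw [hT] at hq
    set c' : G := (c : G) with hc'
    have hcE : c' ∈ centralizer (E : Set G) := mem_subgroupOf.1 hc
    have hcy : c' * y * c'⁻¹ ∈ P := by
      have h1 : (q : G) * c' * y * ((q : G) * c')⁻¹ ∈ P := by
        have h2 : (q : G) * c' = k := congrArg Subtype.val hqc
        rw [h2, ← hkP]
        exact mem_map_of_mem _ (hyP' (mem_zpowers y))
      have := mul_mem (mul_mem (inv_mem (mem_subgroupOf.1 hq)) h1) (mem_subgroupOf.1 hq)
      simpa [mul_assoc] using this
    set g' := g * c'⁻¹ with hg'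
    have hg'E : ∀ e ∈ E, g' * e * g'⁻¹ = g * e * g⁻¹ := fun e he => by
      have : c'⁻¹ * e * c' = e := by
        rw [mul_assoc, mem_centralizer_iff.1 hcE e he, inv_mul_cancel_left]
      calc g' * e * g'⁻¹ = g * (c'⁻¹ * e * c') * g⁻¹ := by simp [hg', mul_assoc]
        _ = g * e * g⁻¹ := by rw [this]
    have hg'y : g' * (c' * y * c'⁻¹) * g'⁻¹ = a' := by simp [hg', hy, mul_assoc]
    -- move `P E` into `S`
    set X := P ⊔ E with hX
    have hXp : IsPGroup p X := isPGroup_sup_of_le_normalizer hP.2.1 hEp (hP.1.trans hKn)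
    obtain ⟨S', hS'⟩ := hXp.exists_le_sylow
    obtain ⟨m, hm⟩ := MulAction.exists_smul_eq G S' S
    have hXS : X^ᶜ m ≤ normalizer (A : Set G) := by
      refine ((conj_mono hS' m).trans ?_).trans (sylow_le_normalizer hsc)
      rw [← hm, Sylow.coe_subgroup_smul]
      rfl
    have hlt1 : E < E ⊔ zpowers a :=
      lt_of_le_of_ne le_sup_left fun e => haE (e.ge (mem_sup_right (mem_zpowers a)))
    obtain ⟨n₁, hn₁, hn₁e⟩ := ih _ (not_le.1 fun h => hlt1.ne (eq_of_le_of_card_ge hlt1.le h)) m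
      (hXp.to_le (sup_le le_sup_right (haP.trans le_sup_left)))
      (sup_le hEN (zpowers_le.2 (le_normalizer ha)))
      ((conj_mono (sup_le le_sup_right (haP.trans le_sup_left)) m).trans hXS)
    set F := E ⊔ zpowers (c' * y * c'⁻¹) with hF
    have hFX : F ≤ X := sup_le le_sup_right ((zpowers_le.2 hcy).trans le_sup_left)
    have hE'F : E' ≤ F^ᶜ g' := by
      rintro _ ⟨x, hx, rfl⟩
      show g * x * g⁻¹ ∈ _
      rw [← hg'E x hx]
      exact mem_map_of_mem _ (mem_sup_left hx)
    have hlt2 : Nat.card E < Nat.card (F^ᶜ g' : Subgroup G) := by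
      rw [Nat.card_congr (E.equivMapOfInjective (MulAut.conj g).toMonoidHom
        (MulAut.conj g).injective).toEquiv]
      refine lt_of_le_of_ne (card_le_of_le hE'F) fun e => haE' ?_
      rw [show E' = F^ᶜ g' from eq_of_le_of_card_ge hE'F e.ge, ← hg'y]
      exact mem_map_of_mem _ (mem_sup_right (mem_zpowers _))
    obtain ⟨n₂, hn₂, hn₂e⟩ := ih (F^ᶜ g') hlt2 (m * g'⁻¹) ((hXp.to_le hFX).map _) (by
        rw [hF, Subgroup.map_sup, MonoidHom.map_zpowers]
        refine sup_le ?_ (zpowers_le.2 ?_)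
        · rintro _ ⟨x, hx, rfl⟩
          show g' * x * g'⁻¹ ∈ _
          rw [hg'E x hx]
          exact hgN (mem_map_of_mem _ hx)
        · show g' * (c' * y * c'⁻¹) * g'⁻¹ ∈ _
          rw [hg'y]; exact le_normalizer ha')
      (by
        rw [conj_conj, mul_assoc, inv_mul_cancel, mul_one]
        exact (conj_mono hFX m).trans hXS)
    refine ⟨n₂⁻¹ * n₁, mul_mem (inv_mem hn₂) hn₁, fun e he => ?_⟩
    have h1 := hn₁e e (mem_sup_left he)
    have h2 := hn₂e (g' * e * g'⁻¹) (mem_map_of_mem _ (mem_sup_left he))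
    rw [show m * g'⁻¹ * (g' * e * g'⁻¹) * (m * g'⁻¹)⁻¹ = m * e * m⁻¹ by simp [mul_assoc], h1,
      hg'E e he] at h2
    calc g * e * g⁻¹ = n₂⁻¹ * (n₂ * (g * e * g⁻¹) * n₂⁻¹) * n₂ := by simp [mul_assoc]
      _ = n₂⁻¹ * n₁ * e * (n₂⁻¹ * n₁)⁻¹ := by rw [← h2]; simp [mul_assoc]

theorem controlsStrongFusion (hA : IsMulCommutative A)
    (hsc : IsStronglyClosed A (S : Subgroup G)) : ControlsStrongFusion p A := by
  refine ⟨S, hsc.1, fun X hX => ⟨hX, fun g hg => ?_⟩⟩
  obtain ⟨n, hn, hne⟩ := fuses hA hsc (closure X) g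
    (S.isPGroup'.to_le ((closure_le _).2 hX))
    (((closure_le _).2 hX).trans (sylow_le_normalizer hsc)) (by
      refine le_trans ?_ (sylow_le_normalizer hsc)
      rw [MonoidHom.map_closure, closure_le]
      rintro _ ⟨x, hx, rfl⟩
      exact hg ⟨x, hx, rfl⟩)
  exact ⟨n, hn, fun x hx => hne x (subset_closure hx)⟩

end CfsgLib.StronglyClosed
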