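import Cfsg.Agent.CharP.WeaklyClosed
import Cfsg.Agent.Kinf.Leibniz
import Cfsg.Prelude.Def_BaumannBlocks

/-!
Factorizations of the weak closure of a weakly closed `p`-subgroup `Q`: if `H° = H₁H₂` with
`[H₁,H₂] ≤ N(Q)`, then `O^p(H°)` is the product of the two residuals, which commute modulo `O_p`.
-/

set_option autoImplicit false
set_option linter.style.haveILetI false

namespace CfsgLib.WeakFactor

open Subgroup Cfsg CfsgLib.YMinimal CfsgLib.WeakClosed
open scoped commutatorElement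

local notation:max A "^ᶜ" g:max => Subgroup.map (MulEquiv.toMonoidHom (MulAut.conj g)) A

variable {G : Type*} [Group G] [Finite G] {p : ℕ} [Fact p.Prime]

theorem mem_pResidualOf {W : Subgroup G} {x : G} (hx : x ∈ W) (ho : (orderOf x).Coprime p) :
    x ∈ pResidualOf p W :=
  ⟨⟨x, hx⟩, PResidual.mem_pResidual p (by rwa [← Subgroup.orderOf_coe]), rfl⟩

theorem pResidualOf_le {W M : Subgroup G} (h : ∀ x ∈ W, (orderOf x).Coprime p → x ∈ M) :
    pResidualOf p W ≤ M := by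
  rw [pResidualOf, map_le_iff_le_comap, pResidual, closure_le]
  intro x hx
  exact h x.1 x.2 (by rw [Subgroup.orderOf_coe]; exact hx)

/-- Elements of order prime to `p` in `PM`, with `P` a `p`-group normalizing `M`, lie in `M`. -/
theorem mem_of_coprime {M P : Subgroup G} (hP : IsPGroup p P) (hn : P ≤ normalizer (M : Set G))
    {x : G} (hx : x ∈ P ⊔ M) (ho : (orderOf x).Coprime p) : x ∈ M := by
  obtain ⟨q, hq, m, hm, rfl⟩ := FrakM.exists_mul_of_mem_sup hn hx
  have key : ∀ n : ℕ, (q * m) ^ n * (q ^ n)⁻¹ ∈ M := by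
    intro n
    induction n with
    | zero => simp
    | succ n ih =>
      have h1 := (mem_normalizer_iff.1 (pow_mem (hn hq) (n + 1)) m).1 hm
      have h2 := mul_mem ih h1
      simpa [pow_succ, mul_assoc] using h2
  obtain ⟨k, hk⟩ := hP ⟨q, hq⟩
  have hk' : q ^ p ^ k = 1 := by simpa [Subtype.ext_iff] using hk
  have h3 : (q * m) ^ p ^ k ∈ M := by simpa [hk'] using key (p ^ k)
  obtain ⟨j, hj⟩ := exists_pow_eq_self_of_coprime (x := q * m) (n := p ^ k) (ho.pow_right k).symm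
  rw [← hj]; exact pow_mem h3 j

/-- Commutators with a generated subgroup. -/
theorem commutator_iSup_le {ι : Sort*} {A R : Subgroup G} {B : ι → Subgroup G}
    (hB : ∀ i, B i ≤ normalizer (R : Set G)) (h : ∀ i, ⁅A, B i⁆ ≤ R) : ⁅A, ⨆ i, B i⁆ ≤ R := by
  refine commutator_le.2 fun a ha b hb => ?_
  refine (?_ : b ∈ normalizer (R : Set G) ∧ ⁅a, b⁆ ∈ R).2
  induction hb using iSup_induction' with
  | hp i x hx => exact ⟨hB i hx, h i (commutator_mem_commutator ha hx)⟩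
  | h1 => exact ⟨one_mem _, by simp⟩
  | hmul x y _ _ hx hy =>
    refine ⟨mul_mem hx.1 hy.1, ?_⟩
    have := mul_mem hx.2 ((mem_normalizer_iff.1 hx.1 _).1 hy.2)
    simpa [commutatorElement_def, mul_assoc] using this

theorem commutator_sup_le {A B C R : Subgroup G} (hA : A ≤ normalizer (R : Set G))
    (hB : B ≤ normalizer (R : Set G)) (h1 : ⁅A, C⁆ ≤ R) (h2 : ⁅B, C⁆ ≤ R) : ⁅A ⊔ B, C⁆ ≤ R := by
  rw [commutator_comm, sup_eq_iSup]
  exact commutator_iSup_le (fun b => by cases b <;> assumption)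
    (fun b => by cases b <;> (rw [commutator_comm]; assumption))

theorem le_normalizer_weakClosure {Q L : Subgroup G} :
    L ≤ normalizer (weakClosure Q L : Set G) := fun g hg => mem_normalizer_of_conj_le (by
  rw [weakClosure, Subgroup.map_iSup]
  refine iSup_le fun a => ?_
  rw [conj_conj]
  refine le_iSup_of_le ⟨g * (a : G), ?_⟩ le_rfl
  rw [← conj_conj]
  exact (conj_mono a.2 g).trans (conj_eq_self (le_normalizer hg)).le)

theorem normalizer_le_normalizer_pResidualOf (W : Subgroup G) :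
    normalizer (W : Set G) ≤ normalizer (pResidualOf p W : Set G) := fun g hg =>
  mem_normalizer_of_conj_le (map_le_iff_le_comap.2 (pResidualOf_le fun x hx ho => by
    refine mem_pResidualOf ((mem_normalizer_iff.1 hg x).1 hx) ?_
    show (orderOf ((MulAut.conj g).toMonoidHom x)).Coprime p
    rwa [orderOf_injective _ (MulEquiv.injective _)]))

variable {Q Hc H₁ H₂ : Subgroup G}

theorem le_weakClosure {L : Subgroup G} (h : Q ≤ L) : Q ≤ weakClosure Q L :=
  le_iSup_of_le ⟨1, by rwa [conj_one]⟩ (by rw [conj_one])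

/-- `W = O^p(W) Q` and `[O^p(W), Q] = O^p(W)` for the weak closure `W` of `Q` in `L ∋ Q`. -/
theorem weakClosure_structure (hwc : IsWeaklyClosedSubgroup p Q) (hQp : IsPGroup p Q)
    {L : Subgroup G} (hQL : Q ≤ L) :
    weakClosure Q L = pResidualOf p (weakClosure Q L) ⊔ Q ∧
      ⁅pResidualOf p (weakClosure Q L), Q⁆ = pResidualOf p (weakClosure Q L) := by
  set W := weakClosure Q L with hW
  set K := pResidualOf p W with hK
  have hKW : K ≤ W := map_subtype_le _
  have hQW : Q ≤ W := le_weakClosure hQL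
  have hWK : W ≤ normalizer (K : Set G) :=
    le_normalizer.trans (normalizer_le_normalizer_pResidualOf W)
  have hgen : ∀ M : Subgroup G, M ≤ W → Q ≤ M → W ≤ normalizer (M : Set G) → M = W := by
    intro M hMW hQM hn
    refine le_antisymm hMW (iSup_le fun a => ?_)
    obtain ⟨w, hw, he⟩ := exists_conj_self hwc hQp hQW (le_iSup_of_le a le_rfl)
    rw [he]
    exact (conj_mono hQM w).trans (conj_eq_self (hn hw)).le
  obtain ⟨P, hQP, hPW, hPp, hPn⟩ := exists_sylowIn_ge (p := p) hQp hQW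
  obtain ⟨S, hS⟩ := (show IsSylowIn p P W from ⟨hPW, hPp, hPn⟩).exists_sylow
  have hWKP : W = K ⊔ P := by
    have h := congrArg (Subgroup.map W.subtype) (CharP.sup_sylow_eq_top_residual S)
    rw [Subgroup.map_sup, ← MonoidHom.range_eq_map, range_subtype, hS,
      map_subgroupOf_eq_of_le hPW] at h
    exact h.symm
  have hPQ : P ≤ normalizer (Q : Set G) := le_normalizer_of_le hwc hPp hQP
  have h1 : W = K ⊔ Q := by
    refine (hgen _ (sup_le hKW hQW) le_sup_right ?_).symm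
    rw [hWKP]
    refine sup_le (le_sup_left.trans le_normalizer) fun x hx => mem_normalizer_of_conj_le ?_
    rw [Subgroup.map_sup, conj_eq_self (hWK (hPW hx)), conj_eq_self (hPQ hx)]
  refine ⟨h1, le_antisymm ?_ ?_⟩
  · exact commutator_le.2 fun k hk q hq => by
      have := mul_mem hk ((mem_normalizer_iff.1 (hWK (hQW hq)) k⁻¹).1 (inv_mem hk))
      simpa [commutatorElement_def, mul_assoc] using this
  · set C := ⁅K, Q⁆ with hC
    have hCW : C ≤ W := (commutator_le.2 fun k hk q hq =>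
      mul_mem (mul_mem (mul_mem (hKW hk) (hQW hq)) (inv_mem (hKW hk))) (inv_mem (hQW hq)))
    have hQC : Q ≤ normalizer (C : Set G) := normalizer_commutator_ge_right _ _
    have hKC : K ≤ normalizer (C : Set G) := normalizer_commutator_ge_left _ _
    have h2 : C ⊔ Q = W := by
      refine hgen _ (sup_le hCW hQW) le_sup_right ?_
      rw [h1]
      refine sup_le (fun k hk => mem_normalizer_of_conj_le ?_) (le_sup_right.trans le_normalizer)
      rw [Subgroup.map_sup, conj_eq_self (hKC hk)]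
      refine sup_le le_sup_left ?_
      rintro _ ⟨q, hq, rfl⟩
      have := mul_mem (mem_sup_left (T := Q) (commutator_mem_commutator hk hq))
        (mem_sup_right (S := C) hq)
      simpa [hC, commutatorElement_def, mul_assoc] using this
    refine pResidualOf_le fun x hx ho => mem_of_coprime hQp hQC ?_ ho
    rwa [sup_comm, h2]

/-- The properties of one of the two factors. -/
theorem half (hwc : IsWeaklyClosedSubgroup p Q) (hQp : IsPGroup p Q)
    (hHc : Hc = weakClosure Q ⊤) (hn₁ : H₁ ≤ Hc ∧ Hc ≤ normalizer (H₁ : Set G))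
    (hn₂ : H₂ ≤ Hc ∧ Hc ≤ normalizer (H₂ : Set G)) (hprod : H₁ ⊔ H₂ = Hc)
    (hcomm : ⁅H₁, H₂⁆ ≤ normalizer (Q : Set G)) {K : Subgroup G}
    (hK : K = pResidualOf p (weakClosure Q (H₁ ⊔ Q))) :
    (⁅K, Q⁆ = K ∧ ⁅K, H₁⁆ = K ∧ K ≤ ⁅H₁, H₁⁆ ∧ Hc ≤ normalizer (K : Set G)) ∧
      ⁅K, H₂⁆ ≤ pCoreOf p Hc ∧ K ≤ H₁ := by
  have hQc : Q ≤ Hc := hHc ▸ le_weakClosure le_top
  set W := weakClosure Q (H₁ ⊔ Q) with hW
  set D := ⁅H₁, H₂⁆ with hD
  have hDc : Hc ≤ normalizer (D : Set G) := fun g hg => mem_normalizer_of_conj_le (by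
    rw [hD, Subgroup.map_commutator, conj_eq_self (hn₁.2 hg), conj_eq_self (hn₂.2 hg)])
  have hDH₁ : D ≤ H₁ := commutator_le.2 fun a ha b hb => by
    have := mul_mem ha ((mem_normalizer_iff.1 (hn₁.2 (hn₂.1 hb)) a⁻¹).1 (inv_mem ha))
    simpa [commutatorElement_def, mul_assoc] using this
  set N := pCoreOf p D with hN
  have hND : N ≤ D := pCoreOf_le _
  have hNp : IsPGroup p N := isPGroup_pCoreOf _
  have hNc : Hc ≤ normalizer (N : Set G) := fun g hg => mem_normalizer_of_conj_le (by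
    rw [hN, map_pCoreOf, conj_eq_self (hDc hg)])
  have hNO : N ≤ pCoreOf p Hc :=
    YMinimal.le_pCoreOf (hND.trans (hDH₁.trans hn₁.1)) hNc hNp
  -- `D` is central in `H°` modulo `O_p(D)`
  have hQN : ∀ g : G, Q^ᶜ g ≤ Hc := fun g => hHc ▸ le_iSup_of_le ⟨g, le_top⟩ le_rfl
  have hDconj : ∀ g : G, D ≤ normalizer ((Q^ᶜ g : Subgroup G) : Set G) := fun g => by
    obtain ⟨h, hh, he⟩ := exists_conj_self hwc hQp hQc (hQN g)
    rw [he, ← conj_eq_self (hDc hh)]
    exact (map_mono hcomm).trans (le_normalizer_map _)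
  have hDN : ⁅D, Hc⁆ ≤ N := by
    rw [hHc, weakClosure]
    refine commutator_iSup_le (fun g => (hQN g.1).trans hNc) fun g => ?_
    refine (commutator_le.2 fun d hd x hx => ?_ : ⁅D, Q^ᶜ g.1⁆ ≤ D ⊓ Q^ᶜ g.1).trans ?_
    · refine Subgroup.mem_inf.2 ⟨?_, mul_mem ((mem_normalizer_iff.1 (hDconj g.1 hd) x).1 hx)
        (inv_mem hx)⟩
      have := mul_mem hd ((mem_normalizer_iff.1 (hDc (hQN g.1 hx)) d⁻¹).1 (inv_mem hd))
      simpa [commutatorElement_def, mul_assoc] using this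
    · refine YMinimal.le_pCoreOf inf_le_left (fun d hd => mem_normalizer_of_conj_le ?_)
        ((hQp.map _).to_le inf_le_right)
      exact le_inf ((map_mono inf_le_left).trans (conj_eq_self (le_normalizer hd)).le)
        ((map_mono inf_le_right).trans (conj_eq_self (hDconj g.1 hd)).le)
  -- basic properties of `K`
  obtain ⟨hWKQ, hKQ⟩ := weakClosure_structure (L := H₁ ⊔ Q) hwc hQp le_sup_right
  rw [← hW, ← hK] at hWKQ hKQ
  have hWL : W ≤ H₁ ⊔ Q := iSup_le fun g => g.2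
  have hLK : H₁ ⊔ Q ≤ normalizer (K : Set G) := hK ▸
    (le_normalizer_weakClosure.trans (normalizer_le_normalizer_pResidualOf _))
  have hQH₁ : Q ≤ normalizer (H₁ : Set G) := hQc.trans hn₁.2
  have hKH₁ : K ≤ H₁ := hK ▸ pResidualOf_le fun x hx ho =>
    mem_of_coprime hQp hQH₁ (sup_comm H₁ Q ▸ hWL hx) ho
  have hKc : K ≤ Hc := hKH₁.trans hn₁.1
  have hsplit : ∀ x ∈ Hc, ∃ a ∈ H₁, ∃ b ∈ H₂, x = a * b := fun x hx =>
    FrakM.exists_mul_of_mem_sup (hn₁.1.trans hn₂.2) (hprod.ge hx)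
  -- `[K, H₁] = K`
  set C := ⁅K, H₁⁆ with hC
  have hCK : C ≤ K := commutator_le.2 fun k hk h hh => by
    have := mul_mem hk ((mem_normalizer_iff.1 (hLK (mem_sup_left hh)) k⁻¹).1 (inv_mem hk))
    simpa [commutatorElement_def, mul_assoc] using this
  have hLC : H₁ ⊔ Q ≤ normalizer (C : Set G) := fun g hg => mem_normalizer_of_conj_le (by
    rw [hC, Subgroup.map_commutator, conj_eq_self (hLK hg),
      conj_eq_self ((sup_le le_normalizer hQH₁ : H₁ ⊔ Q ≤ _) hg)])
  have hKC : ⁅K, H₁⁆ = K := by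
    refine le_antisymm hCK ?_
    have hK1 : K ≤ C ⊔ (D ⊓ K) := by
      conv_lhs => rw [← hKQ]
      refine commutator_le.2 fun k hk q hq => ?_
      obtain ⟨a, ha, b, hb, rfl⟩ := hsplit q (hQc hq)
      have h1 : ⁅k, a * b⁆ = ⁅k, a⁆ * (a * ⁅k, b⁆ * a⁻¹) := by
        simp [commutatorElement_def, mul_assoc]
      have h2 : ⁅k, a * b⁆ ∈ K := hKQ.le (commutator_mem_commutator hk hq)
      have h3 : ⁅k, a⁆ ∈ C := commutator_mem_commutator hk ha
      have h4 : a * ⁅k, b⁆ * a⁻¹ ∈ D :=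
        (mem_normalizer_iff.1 (hDc (hn₁.1 ha)) _).1 (commutator_mem_commutator (hKH₁ hk) hb)
      have h5 : a * ⁅k, b⁆ * a⁻¹ ∈ K := by
        have := mul_mem (inv_mem (hCK h3)) h2
        rwa [h1, inv_mul_cancel_left] at this
      rw [h1]
      exact mul_mem (mem_sup_left h3) (mem_sup_right (Subgroup.mem_inf.2 ⟨h4, h5⟩))
    have hNKn : N ⊓ K ≤ normalizer (C : Set G) :=
      inf_le_right.trans (hKH₁.trans (le_sup_left.trans hLC))
    have hKn : K ≤ normalizer ((C ⊔ (N ⊓ K) : Subgroup G) : Set G) := fun g hg =>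
      mem_normalizer_of_conj_le (by
        rw [Subgroup.map_sup, conj_eq_self (hLC (mem_sup_left (hKH₁ hg)))]
        exact sup_le_sup_left (le_inf
          ((map_mono inf_le_left).trans (conj_eq_self (hNc (hKc hg))).le)
          ((map_mono inf_le_right).trans (conj_eq_self (le_normalizer hg)).le)) _)
    have hK2 : K ≤ C ⊔ (N ⊓ K) := by
      conv_lhs => rw [← hKQ]
      refine (commutator_mono hK1 le_rfl).trans ?_
      refine commutator_sup_le (hCK.trans hKn) (inf_le_right.trans hKn) ?_ ?_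
      · refine le_trans (commutator_le.2 fun c hc q hq => ?_) (le_sup_left (b := N ⊓ K))
        have := mul_mem hc ((mem_normalizer_iff.1 (hLC (mem_sup_right hq)) c⁻¹).1 (inv_mem hc))
        simpa [commutatorElement_def, mul_assoc] using this
      · exact le_sup_of_le_right (le_inf ((commutator_mono inf_le_left hQc).trans hDN)
          ((commutator_mono inf_le_right le_rfl).trans hKQ.le))
    refine hK.le.trans (pResidualOf_le fun x hx ho => mem_of_coprime (hNp.to_le inf_le_left) hNKn ?_ ho)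
    rw [sup_comm]
    exact hK2 (hK ▸ mem_pResidualOf hx ho)
  -- `[K, H₂] ≤ O_p(D)`
  have hKH₂ : ⁅K, H₂⁆ ≤ N := by
    set Y := ⁅H₂, H₂⁆ with hY
    have hYK : ⁅Y, K⁆ ≤ N := by
      have h1 : ⁅⁅H₂, K⁆, H₂⁆ ≤ N := by
        refine (commutator_mono ?_ hn₂.1).trans hDN
        rw [hD, commutator_comm]
        exact commutator_mono hKH₁ le_rfl
      refine Kinf.three_subgroup_mod (hn₂.1.trans hNc) (hn₂.1.trans hNc) (hKc.trans hNc) h1 ?_
      rwa [commutator_comm K H₂]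
    have hYc : Hc ≤ normalizer (Y : Set G) := fun g hg => mem_normalizer_of_conj_le (by
      rw [hY, Subgroup.map_commutator, conj_eq_self (hn₂.2 hg)])
    have hH₂Q : ⁅H₂, Q⁆ ≤ D ⊔ Y := by
      refine commutator_le.2 fun h hh q hq => ?_
      obtain ⟨a, ha, b, hb, rfl⟩ := hsplit q (hQc hq)
      have h1 : ⁅h, a * b⁆ = ⁅h, a⁆ * (a * ⁅h, b⁆ * a⁻¹) := by
        simp [commutatorElement_def, mul_assoc]
      rw [h1]
      refine mul_mem (mem_sup_left ?_) (mem_sup_right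
        ((mem_normalizer_iff.1 (hYc (hn₁.1 ha)) _).1 (commutator_mem_commutator hh hb)))
      rw [hD, commutator_comm]
      exact commutator_mem_commutator hh ha
    have hYH₂ : Y ≤ H₂ := commutator_le.2 fun a ha b hb =>
      mul_mem (mul_mem (mul_mem ha hb) (inv_mem ha)) (inv_mem hb)
    have h3 : ⁅⁅H₂, Q⁆, K⁆ ≤ N := by
      refine (commutator_mono hH₂Q le_rfl).trans ?_
      exact commutator_sup_le ((hDH₁.trans hn₁.1).trans hNc) ((hYH₂.trans hn₂.1).trans hNc)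
        ((commutator_mono le_rfl hKc).trans hDN) hYK
    have h4 : ⁅⁅K, H₂⁆, Q⁆ ≤ N :=
      (commutator_mono (commutator_mono hKH₁ le_rfl) hQc).trans hDN
    have := Kinf.three_subgroup_mod (hQc.trans hNc) (hKc.trans hNc) (hn₂.1.trans hNc) h4 h3
    rwa [commutator_comm Q K, hKQ] at this
  have hKc' : Hc ≤ normalizer (K : Set G) := by
    rw [← hprod]
    refine sup_le (le_sup_left.trans hLK) fun g hg => mem_normalizer_of_conj_le ?_
    have hNn : N ≤ normalizer (K : Set G) :=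
      hND.trans (hDH₁.trans (le_sup_left.trans hLK))
    have hle : K^ᶜ g ≤ N ⊔ K := by
      rintro _ ⟨k, hk, rfl⟩
      have h1 : ⁅g, k⁆ ∈ N := hKH₂ (commutator_comm H₂ K ▸ commutator_mem_commutator hg hk)
      have h2 := mul_mem (mem_sup_left (T := K) h1) (mem_sup_right (S := N) hk)
      simpa [commutatorElement_def, mul_assoc] using h2
    rw [map_le_iff_le_comap]
    conv_lhs => rw [hK]
    refine pResidualOf_le fun x hx ho => ?_
    refine mem_of_coprime hNp hNn (hle (mem_map_of_mem _ (hK ▸ mem_pResidualOf hx ho))) ?_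
    rwa [orderOf_injective _ (MulEquiv.injective _)]
  exact ⟨⟨hKQ, hKC, hKC.ge.trans (commutator_mono hKH₁ le_rfl), hKc'⟩, hKH₂.trans hNO, hKH₁⟩

theorem main (hwc : IsWeaklyClosedSubgroup p Q) (hQp : IsPGroup p Q)
    (hHc : Hc = weakClosure Q ⊤) (hn₁ : H₁ ≤ Hc ∧ Hc ≤ normalizer (H₁ : Set G))
    (hn₂ : H₂ ≤ Hc ∧ Hc ≤ normalizer (H₂ : Set G)) (hprod : H₁ ⊔ H₂ = Hc)
    (hcomm : ⁅H₁, H₂⁆ ≤ normalizer (Q : Set G)) {K₁ K₂ : Subgroup G}
    (hK₁ : K₁ = pResidualOf p (weakClosure Q (H₁ ⊔ Q)))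
    (hK₂ : K₂ = pResidualOf p (weakClosure Q (H₂ ⊔ Q))) :
    (⁅K₁, Q⁆ = K₁ ∧ ⁅K₁, H₁⁆ = K₁ ∧ K₁ ≤ ⁅H₁, H₁⁆ ∧ Hc ≤ normalizer (K₁ : Set G)) ∧
      (⁅K₂, Q⁆ = K₂ ∧ ⁅K₂, H₂⁆ = K₂ ∧ K₂ ≤ ⁅H₂, H₂⁆ ∧ Hc ≤ normalizer (K₂ : Set G)) ∧
      K₁ ⊔ K₂ = pResidualOf p Hc ∧ ⁅K₁, K₂⁆ ≤ pCoreOf p Hc := by
  obtain ⟨a₁, b₁, c₁⟩ := half hwc hQp hHc hn₁ hn₂ hprod hcomm hK₁
  obtain ⟨a₂, -, c₂⟩ := half hwc hQp hHc hn₂ hn₁ (sup_comm H₁ H₂ ▸ hprod)
    (commutator_comm H₁ H₂ ▸ hcomm) hK₂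
  have hQc : Q ≤ Hc := hHc ▸ le_weakClosure le_top
  set M := K₁ ⊔ K₂ with hM
  have hMc : Hc ≤ normalizer (M : Set G) := fun g hg => mem_normalizer_of_conj_le (by
    rw [hM, Subgroup.map_sup, conj_eq_self (a₁.2.2.2 hg), conj_eq_self (a₂.2.2.2 hg)])
  have hH : ∀ (H K : Subgroup G), K = pResidualOf p (weakClosure Q (H ⊔ Q)) → K ≤ M → H ≤ Hc →
      H ≤ normalizer ((M ⊔ Q : Subgroup G) : Set G) := by
    intro H K hK hKM hHc' h hh
    refine mem_normalizer_of_conj_le ?_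
    rw [Subgroup.map_sup, conj_eq_self (hMc (hHc' hh))]
    refine sup_le le_sup_left ?_
    have h1 : Q^ᶜ h ≤ H ⊔ Q :=
      (conj_mono le_sup_right h).trans (conj_eq_self (le_normalizer (mem_sup_left hh))).le
    refine le_trans (b := weakClosure Q (H ⊔ Q))
      (le_iSup (fun g : {g : G // Q^ᶜ g ≤ H ⊔ Q} => Q^ᶜ (g : G)) ⟨h, h1⟩) ?_
    rw [(weakClosure_structure hwc hQp le_sup_right).1, ← hK]
    exact sup_le_sup_right hKM Q
  have hn : Hc ≤ normalizer ((M ⊔ Q : Subgroup G) : Set G) := hprod ▸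
    sup_le (hH H₁ K₁ hK₁ le_sup_left hn₁.1) (hH H₂ K₂ hK₂ le_sup_right hn₂.1)
  have hall : Hc ≤ M ⊔ Q := by
    conv_lhs => rw [hHc]
    refine iSup_le fun g => ?_
    have hg : Q^ᶜ (g : G) ≤ Hc := by rw [hHc]; exact le_iSup_of_le g le_rfl
    obtain ⟨h, hh, he⟩ := exists_conj_self hwc hQp hQc hg
    rw [he]
    exact (conj_mono le_sup_right h).trans (conj_eq_self (hn hh)).le
  refine ⟨a₁, a₂, le_antisymm (sup_le ?_ ?_) ?_, (commutator_mono le_rfl c₂).trans b₁⟩
  · exact hK₁ ▸ pResidualOf_le fun x hx ho => mem_pResidualOf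
      ((sup_le hn₁.1 hQc : H₁ ⊔ Q ≤ Hc) ((iSup_le fun g => g.2 : weakClosure Q _ ≤ _) hx)) ho
  · exact hK₂ ▸ pResidualOf_le fun x hx ho => mem_pResidualOf
      ((sup_le hn₂.1 hQc : H₂ ⊔ Q ≤ Hc) ((iSup_le fun g => g.2 : weakClosure Q _ ≤ _) hx)) ho
  · refine pResidualOf_le fun x hx ho => mem_of_coprime hQp (hQc.trans hMc) ?_ ho
    rw [sup_comm]
    exact hall hx

end CfsgLib.WeakFactor
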