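import Cfsg.Agent.CharP.FrakM
import Cfsg.Agent.CharP.YMinimal
import Cfsg.Agent.CharP.ResidualBasics
import Cfsg.Agent.Transfer.Basic
import Cfsg.Agent.Transfer.PResidual
import Cfsg.Agent.KGroup.CharP

/-!
Weakly closed `p`-subgroups.
-/

set_option autoImplicit false
set_option linter.style.haveILetI false

namespace CfsgLib.WeakClosed

open Subgroup Cfsg CfsgLib.YMinimal
open scoped commutatorElement

local notation:max A "^ᶜ" g:max => Subgroup.map (MulEquiv.toMonoidHom (MulAut.conj g)) A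

variable {H : Type*} [Group H] [Finite H] {p : ℕ} [Fact p.Prime] {Q : Subgroup H}

/-- The working form of weak closure: a `p`-subgroup contains at most one conjugate. -/
theorem conj_eq (hwc : IsWeaklyClosedSubgroup p Q) {R : Subgroup H} (hR : IsPGroup p R) {a b : H}
    (ha : Q^ᶜ a ≤ R) (hb : Q^ᶜ b ≤ R) : Q^ᶜ a = Q^ᶜ b := by
  obtain ⟨T, hT⟩ := hwc
  obtain ⟨S, hRS⟩ := hR.exists_le_sylow
  obtain ⟨x, hx⟩ := MulAction.exists_smul_eq H S T
  have key : ∀ c : H, Q^ᶜ c ≤ R → Q^ᶜ c = Q^ᶜ x⁻¹ := by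
    intro c hc
    have h1 : Q^ᶜ (x * c) ≤ (T : Subgroup H) := by
      rw [← conj_conj, ← hx, Sylow.coe_subgroup_smul]
      exact conj_mono (hc.trans hRS) x
    have h2 := congrArg (fun K : Subgroup H => K^ᶜ x⁻¹) (hT.2 _ h1)
    rwa [conj_conj, ← mul_assoc, inv_mul_cancel, one_mul] at h2
  rw [key a ha, key b hb]

theorem eq_of_le (hwc : IsWeaklyClosedSubgroup p Q) {R : Subgroup H} (hR : IsPGroup p R) {a : H}
    (hQ : Q ≤ R) (ha : Q^ᶜ a ≤ R) : Q^ᶜ a = Q := by
  conv_rhs => rw [← conj_one Q]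
  exact conj_eq hwc hR ha (by rwa [conj_one])

theorem normalizer_le_of_le (hwc : IsWeaklyClosedSubgroup p Q) {R : Subgroup H} (hR : IsPGroup p R)
    (hQ : Q ≤ R) : normalizer (R : Set H) ≤ normalizer (Q : Set H) := fun n hn =>
  mem_normalizer_of_conj_le
    (eq_of_le hwc hR hQ ((conj_mono hQ n).trans (conj_eq_self hn).le)).le

theorem le_normalizer_of_le (hwc : IsWeaklyClosedSubgroup p Q) {R : Subgroup H} (hR : IsPGroup p R)
    (hQ : Q ≤ R) : R ≤ normalizer (Q : Set H) :=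
  le_normalizer.trans (normalizer_le_of_le hwc hR hQ)

theorem equivalences (hQp : IsPGroup p Q) :
    (IsWeaklyClosedSubgroup p Q ↔ ∀ g : H, ⁅Q, Q^ᶜ g⁆ ≤ Q ⊓ Q^ᶜ g → Q^ᶜ g = Q) ∧
      (IsWeaklyClosedSubgroup p Q ↔ ∀ R : Subgroup H, IsPGroup p R → Q ≤ R →
        normalizer (R : Set H) ≤ normalizer (Q : Set H)) := by
  have h12 : IsWeaklyClosedSubgroup p Q → ∀ g : H, ⁅Q, Q^ᶜ g⁆ ≤ Q ⊓ Q^ᶜ g → Q^ᶜ g = Q := by
    intro hwc g hg
    refine eq_of_le hwc (R := Q ⊔ Q^ᶜ g) (isPGroup_sup_of_le_normalizer hQp (hQp.map _) ?_)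
      le_sup_left le_sup_right
    intro q hq
    refine mem_normalizer_of_conj_le ?_
    rintro _ ⟨w, hw, rfl⟩
    have := mul_mem (hg (commutator_mem_commutator hq hw)).2 hw
    simpa [commutatorElement_def, mul_assoc] using this
  have h23 : (∀ g : H, ⁅Q, Q^ᶜ g⁆ ≤ Q ⊓ Q^ᶜ g → Q^ᶜ g = Q) →
      ∀ R : Subgroup H, IsPGroup p R → Q ≤ R →
        normalizer (R : Set H) ≤ normalizer (Q : Set H) := by
    intro h R hR hQR
    have hmut : ∀ g : H, Q ≤ normalizer ((Q^ᶜ g : Subgroup H) : Set H) →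
        Q^ᶜ g ≤ normalizer (Q : Set H) → Q^ᶜ g = Q := by
      intro g h1 h2
      refine h g (commutator_le.2 fun a ha b hb => Subgroup.mem_inf.2 ⟨?_, ?_⟩)
      · have := mul_mem ha ((mem_normalizer_iff.1 (h2 hb) a⁻¹).1 (inv_mem ha))
        simpa [commutatorElement_def, mul_assoc] using this
      · exact mul_mem ((mem_normalizer_iff.1 (h1 ha) b).1 hb) (inv_mem hb)
    set M := R ⊓ normalizer (Q : Set H) with hM
    have hQM : Q ≤ M := le_inf hQR le_normalizer
    have hkey : ∀ x : H, x ∈ normalizer (M : Set H) → Q^ᶜ x = Q := by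
      intro x hx
      refine hmut x ?_ ((conj_mono hQM x).trans ((conj_eq_self hx).le.trans inf_le_right))
      refine hQM.trans ?_
      rw [← conj_eq_self hx]
      exact (map_mono inf_le_right).trans (le_normalizer_map _)
    have hMR : R ≤ normalizer (Q : Set H) := by
      by_contra hne
      obtain ⟨W, hMW, hWR, -, hWn⟩ := exists_gt_normalizing (hR.to_le inf_le_left)
        (inf_le_left : M ≤ R) (fun hs => hne (inf_eq_left.1
          (le_antisymm inf_le_left (hs.le_of_le inf_le_left hR le_rfl))))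
      exact hMW.not_ge (le_inf hWR fun w hw => mem_normalizer_of_conj_le (hkey w (hWn hw)).le)
    intro n hn
    refine mem_normalizer_of_conj_le (hkey n ?_).le
    rwa [show M = R from inf_eq_left.2 hMR]
  have h31 : (∀ R : Subgroup H, IsPGroup p R → Q ≤ R →
      normalizer (R : Set H) ≤ normalizer (Q : Set H)) → IsWeaklyClosedSubgroup p Q := by
    intro h
    obtain ⟨T, hQT⟩ := hQp.exists_le_sylow
    refine ⟨T, hQT, fun g hg => ?_⟩
    have hTn : (T : Subgroup H) ≤ normalizer (Q : Set H) :=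
      le_normalizer.trans (h T T.isPGroup' hQT)
    have hPn : (T : Subgroup H) ≤ normalizer ((Q^ᶜ g : Subgroup H) : Set H) := by
      intro t ht
      have h1 : g⁻¹ * t * g ∈ normalizer (Q : Set H) := by
        refine le_normalizer.trans (h ((T : Subgroup H)^ᶜ g⁻¹) (T.isPGroup'.map _) ?_) ?_
        · rw [← conj_le_iff]; exact hg
        · rw [mem_conj]; simpa [mul_assoc] using ht
      refine mem_normalizer_of_conj_le ?_
      rw [conj_conj, show t * g = g * (g⁻¹ * t * g) by simp [mul_assoc], ← conj_conj,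
        conj_eq_self h1]
    have himg : ∀ (K : Subgroup H), (T : Subgroup H) ≤ normalizer (K : Set H) →
        ∀ x ∈ (T : Subgroup H), (fun y => x * y * x⁻¹) '' (K : Set H) = (K : Set H) := by
      intro K hK x hx
      exact congrArg (fun L : Subgroup H => (L : Set H)) (conj_eq_self (hK hx))
    obtain ⟨n, hn, he⟩ := TransferBasic.fusion_normal_subsets (P := T) (Q : Set H)
      ((Q^ᶜ g : Subgroup H) : Set H) (himg Q hTn) (himg _ hPn) g rfl
    apply SetLike.coe_injective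
    rw [← he]
    exact congrArg (fun L : Subgroup H => (L : Set H)) (conj_eq_self (h T T.isPGroup' hQT hn))
  exact ⟨⟨h12, fun h => h31 (h23 h)⟩, fun h => h23 (h12 h), h31⟩

/-- Conjugates inside `K` are `K`-conjugate. -/
theorem exists_conj_mem (hwc : IsWeaklyClosedSubgroup p Q) (hQp : IsPGroup p Q) {K : Subgroup H}
    {a b : H} (ha : Q^ᶜ a ≤ K) (hb : Q^ᶜ b ≤ K) :
    ∃ k ∈ K, Q^ᶜ b = (Q^ᶜ a)^ᶜ k := by
  obtain ⟨P₁, hP₁, hS₁⟩ := exists_sylowIn_ge (p := p) (hQp.map _) ha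
  obtain ⟨P₂, hP₂, hS₂⟩ := exists_sylowIn_ge (p := p) (hQp.map _) hb
  obtain ⟨k, hk, hkP⟩ := hS₁.conj hS₂
  refine ⟨k, hk, ?_⟩
  rw [conj_conj]
  refine conj_eq hwc hS₂.2.1 hP₂ ?_
  rw [← conj_conj, ← hkP]
  exact conj_mono hP₁ k

theorem exists_conj_self (hwc : IsWeaklyClosedSubgroup p Q) (hQp : IsPGroup p Q) {K : Subgroup H}
    (hQK : Q ≤ K) {b : H} (hb : Q^ᶜ b ≤ K) : ∃ k ∈ K, Q^ᶜ b = Q^ᶜ k := by
  obtain ⟨k, hk, h⟩ := exists_conj_mem hwc hQp (a := 1) (by rwa [conj_one]) hb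
  exact ⟨k, hk, by rw [h, conj_one]⟩

theorem subgroupOf_weaklyClosed (hwc : IsWeaklyClosedSubgroup p Q) (hQp : IsPGroup p Q)
    {K : Subgroup H} (hQK : Q ≤ K) : IsWeaklyClosedSubgroup p (Q.subgroupOf K) := by
  obtain ⟨T, hT⟩ := (hQp.comap_subtype (K := K)).exists_le_sylow
  have hmap : ∀ k : K, ((Q.subgroupOf K)^ᶜ k).map K.subtype = Q^ᶜ (k : H) := by
    intro k
    conv_rhs => rw [← map_subgroupOf_eq_of_le hQK]
    rw [Subgroup.map_map, Subgroup.map_map]
    congr 1
  refine ⟨T, hT, fun k hk => map_injective K.subtype_injective ?_⟩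
  rw [hmap, map_subgroupOf_eq_of_le hQK]
  refine eq_of_le hwc (T.isPGroup'.map K.subtype) ?_ ?_
  · rw [← map_subgroupOf_eq_of_le hQK]; exact map_mono hT
  · rw [← hmap]; exact map_mono hk

theorem parabolic_normalizer (hwc : IsWeaklyClosedSubgroup p Q) (hQp : IsPGroup p Q)
    {K : Subgroup H} (hQK : Q ≤ K) :
    IsParabolic p ((normalizer (Q : Set H)).subgroupOf K) := by
  obtain ⟨T, hT⟩ := (hQp.comap_subtype (K := K)).exists_le_sylow
  refine ⟨T, fun x hx => mem_subgroupOf.2 ?_⟩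
  refine le_normalizer_of_le hwc (T.isPGroup'.map K.subtype) ?_ (mem_map_of_mem _ hx)
  rw [← map_subgroupOf_eq_of_le hQK]; exact map_mono hT

theorem exists_sylow_normal (hwc : IsWeaklyClosedSubgroup p Q) :
    ∃ T : Sylow p H, Q ≤ (T : Subgroup H) ∧ (T : Subgroup H) ≤ normalizer (Q : Set H) := by
  obtain ⟨T, hT⟩ := hwc
  exact ⟨T, hT.1, le_normalizer_of_le ⟨T, hT⟩ T.isPGroup' hT.1⟩

theorem normal_sup_pResidual (hwc : IsWeaklyClosedSubgroup p Q) (N : Subgroup H) [N.Normal] :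
    (N ⊓ normalizer (Q : Set H)) ⊔ (pResidual p ↥N).map N.subtype = N := by
  obtain ⟨T, -, hTn⟩ := exists_sylow_normal hwc
  obtain ⟨S, hS⟩ := (show IsSylowIn p ((T : Subgroup H) ⊓ N) N from
    ⟨inf_le_right, T.isPGroup'.to_le inf_le_left,
      CharP.not_dvd_relIndex_inf T N le_normalizer_of_normal⟩).exists_sylow
  refine le_antisymm (sup_le inf_le_left (map_subtype_le _)) ?_
  have h := congrArg (Subgroup.map N.subtype) (CharP.sup_sylow_eq_top_residual S)
  rw [Subgroup.map_sup, ← MonoidHom.range_eq_map, range_subtype, hS,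
    map_subgroupOf_eq_of_le inf_le_right] at h
  conv_lhs => rw [← h]
  exact sup_le le_sup_right (le_trans (le_inf inf_le_right (inf_le_left.trans hTn)) le_sup_left)

theorem map_weaklyClosed (hwc : IsWeaklyClosedSubgroup p Q) (hQp : IsPGroup p Q) (N : Subgroup H)
    [N.Normal] : IsWeaklyClosedSubgroup p (Q.map (QuotientGroup.mk' N)) := by
  obtain ⟨T, hQT, hTn⟩ := exists_sylow_normal hwc
  set π := QuotientGroup.mk' N
  have hπ : Function.Surjective π := QuotientGroup.mk'_surjective N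
  refine ⟨T.mapSurjective hπ, map_mono hQT, fun g hg => ?_⟩
  obtain ⟨g, rfl⟩ := hπ g
  have hmap : ∀ x : H, (Q.map π)^ᶜ (π x) = (Q^ᶜ x).map π := by
    intro x
    rw [Subgroup.map_map, Subgroup.map_map]
    congr 1
  rw [hmap] at hg ⊢
  have hle : Q^ᶜ g ≤ N ⊔ (T : Subgroup H) := by
    refine (map_le_iff_le_comap.1 hg).trans ?_
    change ((T : Subgroup H).map π).comap π ≤ _
    rw [comap_map_eq, QuotientGroup.ker_mk', sup_comm]
  obtain ⟨x, hx, he⟩ := exists_conj_self hwc hQp (hQT.trans le_sup_right) hle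
  obtain ⟨n, hn, t, ht, rfl⟩ := mem_sup_of_normal_left.1 hx
  rw [he, ← conj_conj, conj_eq_self (hTn ht), ← hmap,
    show π n = 1 from (QuotientGroup.eq_one_iff n).2 hn, conj_one]

theorem weakClosure_eq_iSup (hwc : IsWeaklyClosedSubgroup p Q) (hQp : IsPGroup p Q)
    {K : Subgroup H} (hQK : Q ≤ K) : weakClosure Q K = ⨆ k : ↥K, Q^ᶜ (k : H) := by
  refine le_antisymm (iSup_le fun g => ?_) (iSup_le fun k => le_iSup_of_le ⟨(k : H), ?_⟩ le_rfl)
  · obtain ⟨k, hk, he⟩ := exists_conj_self hwc hQp hQK g.2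
    exact he.le.trans (le_iSup_of_le ⟨k, hk⟩ le_rfl)
  · exact (conj_mono hQK _).trans (conj_eq_self (le_normalizer k.2)).le

theorem conj_le_of_subnormal (hwc : IsWeaklyClosedSubgroup p Q) (hQp : IsPGroup p Q)
    {K : Subgroup H} (hQK : Q ≤ K) {M : Subgroup K} (hM : M.IsSubnormal) :
    Q.subgroupOf K ≤ M → ∀ k : K, Q^ᶜ (k : H) ≤ M.map K.subtype := by
  induction hM with
  | top =>
    intro _ k
    rw [← MonoidHom.range_eq_map, range_subtype]
    exact (conj_mono hQK _).trans (conj_eq_self (le_normalizer k.2)).le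
  | step A B hle hB hn ih =>
    intro hQA k
    have hkB := ih (hQA.trans hle) k
    have hQB : Q ≤ B.map K.subtype := by
      rw [← map_subgroupOf_eq_of_le hQK]; exact map_mono (hQA.trans hle)
    obtain ⟨_, ⟨b, hb, rfl⟩, he⟩ := exists_conj_self hwc hQp hQB hkB
    rw [he]
    have hQA' : Q ≤ A.map K.subtype := by
      rw [← map_subgroupOf_eq_of_le hQK]; exact map_mono hQA
    refine (conj_mono hQA' _).trans (conj_eq_self ?_).le
    exact (map_mono ((normal_subgroupOf_iff_le_normalizer hle).1 hn)).trans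
      (le_normalizer_map _) (mem_map_of_mem _ hb)

theorem weakClosure_eq_subnormalClosure (hwc : IsWeaklyClosedSubgroup p Q) (hQp : IsPGroup p Q)
    {K : Subgroup H} (hQK : Q ≤ K) :
    weakClosure Q K = (subnormalClosure (Q.subgroupOf K)).map K.subtype := by
  rw [weakClosure_eq_iSup hwc hQp hQK]
  obtain ⟨h1, h2, h3⟩ := ResidualBasics.subnormalClosure_spec (Q.subgroupOf K)
  refine le_antisymm (iSup_le fun k => conj_le_of_subnormal hwc hQp hQK h2 h1 k) ?_
  set W := ⨆ k : ↥K, Q^ᶜ (k : H) with hW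
  have hWK : W ≤ K :=
    iSup_le fun k => (conj_mono hQK _).trans (conj_eq_self (le_normalizer k.2)).le
  have hn : K ≤ normalizer (W : Set H) := fun g hg => mem_normalizer_of_conj_le (by
    rw [hW, Subgroup.map_iSup]
    refine iSup_le fun k => ?_
    rw [conj_conj]
    exact le_iSup_of_le ⟨g * k, mul_mem hg k.2⟩ le_rfl)
  haveI : (W.subgroupOf K).Normal := normal_subgroupOf_of_le_normalizer hn
  refine le_trans (map_mono (h3 (W.subgroupOf K) (comap_mono ?_)
    (inferInstance : (W.subgroupOf K).Normal).isSubnormal)) (map_subgroupOf_eq_of_le hWK).le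
  exact le_iSup_of_le (1 : K) (by rw [OneMemClass.coe_one, conj_one])

/-- `N = N_N(Q) [N, Q]` for a subgroup `N` normalized by `Q`. -/
theorem exists_mul_commutator (hwc : IsWeaklyClosedSubgroup p Q) (hQp : IsPGroup p Q)
    {N : Subgroup H} (hQN : Q ≤ normalizer (N : Set H)) {n : H} (hn : n ∈ N) :
    ∃ a ∈ N ⊓ normalizer (Q : Set H), ∃ b ∈ ⁅N, Q⁆, n = a * b := by
  set C := ⁅N, Q⁆ with hC
  have hCN : C ≤ N := commutator_le.2 fun a ha q hq => by
    have := mul_mem ha ((mem_normalizer_iff.1 (hQN hq) a⁻¹).1 (inv_mem ha))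
    simpa [commutatorElement_def, mul_assoc] using this
  have hNC : N ≤ normalizer (C : Set H) := normalizer_commutator_ge_left _ _
  have hQC : Q ≤ normalizer (C : Set H) := normalizer_commutator_ge_right _ _
  have hle : Q^ᶜ n ≤ C ⊔ Q := by
    rintro _ ⟨q, hq, rfl⟩
    have := mul_mem (mem_sup_left (T := Q) (commutator_mem_commutator hn hq))
      (mem_sup_right (S := C) hq)
    simpa [hC, commutatorElement_def, mul_assoc] using this
  obtain ⟨x, hx, he⟩ := exists_conj_self hwc hQp le_sup_right hle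
  obtain ⟨q, hq, b, hb, rfl⟩ := FrakM.exists_mul_of_mem_sup hQC (sup_comm C Q ▸ hx)
  have hb' : q * b * q⁻¹ ∈ C := (mem_normalizer_iff.1 (hQC hq) b).1 hb
  set b' := q * b * q⁻¹
  have he' : Q^ᶜ n = Q^ᶜ b' := by
    rw [he, show q * b = b' * q by simp [b'], ← conj_conj, conj_eq_self (le_normalizer hq)]
  have hn' : b'⁻¹ * n ∈ N ⊓ normalizer (Q : Set H) := by
    refine Subgroup.mem_inf.2 ⟨mul_mem (inv_mem (hCN hb')) hn, mem_normalizer_of_conj_le ?_⟩
    rw [← conj_conj, he', conj_conj, inv_mul_cancel, conj_one]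
  refine ⟨b'⁻¹ * n, hn', (b'⁻¹ * n)⁻¹ * b' * (b'⁻¹ * n), ?_, ?_⟩
  · simpa using (mem_normalizer_iff.1 (inv_mem (hNC hn'.1)) b').1 hb'
  · simp [mul_assoc]

theorem exists_mul_commutator_commutator (hwc : IsWeaklyClosedSubgroup p Q) (hQp : IsPGroup p Q)
    {N : Subgroup H} (hQN : Q ≤ normalizer (N : Set H)) {c : H} (hc : c ∈ ⁅N, Q⁆) :
    ∃ a ∈ Q ⊓ ⁅N, Q⁆, ∃ b ∈ ⁅⁅N, Q⁆, Q⁆, c = a * b := by
  set C := ⁅N, Q⁆ with hC
  set W := ⁅C, Q⁆ with hW
  set D := Q ⊓ C with hD
  have hNC : N ≤ normalizer (C : Set H) := normalizer_commutator_ge_left _ _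
  have hQC : Q ≤ normalizer (C : Set H) := normalizer_commutator_ge_right _ _
  have hDW : D ≤ normalizer (W : Set H) := inf_le_right.trans (normalizer_commutator_ge_left _ _)
  have hle : C ≤ D ⊔ W := by
    rw [hC, commutator_le]
    intro n hn q hq
    obtain ⟨a, ha, b, hb, rfl⟩ := exists_mul_commutator hwc hQp hQN hn
    have haC : a ∈ normalizer (C : Set H) := hNC ha.1
    have haW : a ∈ normalizer (W : Set H) := by
      refine mem_normalizer_of_conj_le ?_
      rw [hW, Subgroup.map_commutator]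
      exact commutator_mono (conj_eq_self haC).le (conj_eq_self ha.2).le
    have h1 : a * ⁅b, q⁆ * a⁻¹ ∈ W :=
      (mem_normalizer_iff.1 haW _).1 (commutator_mem_commutator hb hq)
    have h2 : ⁅a, q⁆ ∈ D := Subgroup.mem_inf.2
      ⟨mul_mem ((mem_normalizer_iff.1 ha.2 q).1 hq) (inv_mem hq), commutator_mem_commutator ha.1 hq⟩
    have h3 := mul_mem (mem_sup_right (S := D) h1) (mem_sup_left (T := W) h2)
    simpa [commutatorElement_def, mul_assoc] using h3
  obtain ⟨a, ha, b, hb, he⟩ := FrakM.exists_mul_of_mem_sup hDW (hle hc)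
  exact ⟨a, ha, b, hb, he⟩

end CfsgLib.WeakClosed
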